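import Cfsg.Prelude.Def_FusionComponents
import Cfsg.Agent.H96.Basic
import Cfsg.Agent.H96.CoreCenter

/-!
Elementary calculus of central products of fusion systems: the factors commute, pairs of maps give maps of the
product, and every map of the product comes from a pair.
-/

set_option autoImplicit false

namespace Cfsg.Agent.H24

open Cfsg Cfsg.FusionSystem Cfsg.Agent.H96

variable {Ω : Type*} [Group Ω] {T₁ T₂ T : Subgroup Ω} {E₁ : FusionSystem T₁} {E₂ : FusionSystem T₂}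
  {D : FusionSystem T}

theorem centralProd_le (h : IsCentralProductOf E₁ E₂ D) : T₁ ≤ T ∧ T₂ ≤ T := by
  obtain ⟨D₀, -, Z, θ, -, -, -, hθ₁, hθ₂, -, -, hrange, -⟩ := h
  constructor
  · intro x hx
    rw [← hrange]
    exact ⟨⟨(x, 1), hx, T₂.one_mem⟩, hθ₁ x _⟩
  · intro y hy
    rw [← hrange]
    exact ⟨⟨(1, y), T₁.one_mem, hy⟩, hθ₂ y _⟩

theorem centralProd_commute (h : IsCentralProductOf E₁ E₂ D) {x y : Ω} (hx : x ∈ T₁) (hy : y ∈ T₂) :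
    x * y = y * x := by
  obtain ⟨D₀, -, Z, θ, -, -, -, hθ₁, hθ₂, -⟩ := h
  have hx' : ((x, 1) : Ω × Ω) ∈ T₁.prod T₂ := ⟨hx, T₂.one_mem⟩
  have hy' : ((1, y) : Ω × Ω) ∈ T₁.prod T₂ := ⟨T₁.one_mem, hy⟩
  have e : (⟨(x, 1), hx'⟩ : T₁.prod T₂) * ⟨(1, y), hy'⟩ = ⟨(1, y), hy'⟩ * ⟨(x, 1), hx'⟩ :=
    Subtype.ext (Prod.ext (by simp) (by simp))
  have := congrArg θ e
  rwa [map_mul, map_mul, hθ₁ x hx', hθ₂ y hy'] at this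

private theorem theta_apply {θ : ↥(T₁.prod T₂) →* Ω}
    (hθ₁ : ∀ (x : Ω) (hx : ((x, 1) : Ω × Ω) ∈ T₁.prod T₂), θ ⟨(x, 1), hx⟩ = x)
    (hθ₂ : ∀ (y : Ω) (hy : ((1, y) : Ω × Ω) ∈ T₁.prod T₂), θ ⟨(1, y), hy⟩ = y)
    (w : ↥(T₁.prod T₂)) : θ w = (w : Ω × Ω).1 * (w : Ω × Ω).2 := by
  have hx' : (((w : Ω × Ω).1, 1) : Ω × Ω) ∈ T₁.prod T₂ := ⟨w.2.1, T₂.one_mem⟩
  have hy' : ((1, (w : Ω × Ω).2) : Ω × Ω) ∈ T₁.prod T₂ := ⟨T₁.one_mem, w.2.2⟩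
  have e : w = ⟨_, hx'⟩ * ⟨_, hy'⟩ := Subtype.ext (Prod.ext (by simp) (by simp))
  conv_lhs => rw [e]
  rw [map_mul, hθ₁ _ hx', hθ₂ _ hy']

/-- A map of the product is determined by a pair of maps of the factors. -/
theorem centralProd_exists_decomp (h : IsCentralProductOf E₁ E₂ D) {P : Subgroup Ω} {φ : P →* Ω}
    (hφ : φ ∈ D.Hom P) :
    ∃ (P₁ P₂ : Subgroup Ω) (φ₁ : P₁ →* Ω) (φ₂ : P₂ →* Ω), φ₁ ∈ E₁.Hom P₁ ∧ φ₂ ∈ E₂.Hom P₂ ∧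
      ∃ hle : P ≤ P₁ ⊔ P₂, ∀ χ : ↥(P₁ ⊔ P₂) →* Ω, (∀ x : P₁, χ (Subgroup.inclusion le_sup_left x) = φ₁ x) →
        (∀ y : P₂, χ (Subgroup.inclusion le_sup_right y) = φ₂ y) →
        ∀ x : P, χ (Subgroup.inclusion hle x) = φ x := by
  obtain ⟨D₀, hD₀, Z, θ, -, -, -, hθ₁, hθ₂, -, hker, hrange, hiff⟩ := h
  obtain ⟨hPT, φ₀, hφ₀, hpre, hφ₀T, hmem, hind⟩ := (hiff P φ).1 hφ
  obtain ⟨-, φ₁, h₁, φ₂, h₂, he⟩ := (hD₀ _ φ₀).1 hφ₀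
  have key : ∀ x : P, ∃ w : preimageAlong θ P, θ ⟨(w : Ω × Ω), hpre w.2⟩ = (x : Ω) := by
    intro x
    obtain ⟨s, hs⟩ : (x : Ω) ∈ θ.range := hrange ▸ hPT x.2
    exact ⟨⟨s, s, (show θ s ∈ P from hs ▸ x.2), rfl⟩, hs⟩
  have m₁ : ∀ w : preimageAlong θ P, (w : Ω × Ω).1 ∈ (preimageAlong θ P).map (MonoidHom.fst Ω Ω) :=
    fun w => ⟨w, w.2, rfl⟩
  have m₂ : ∀ w : preimageAlong θ P, (w : Ω × Ω).2 ∈ (preimageAlong θ P).map (MonoidHom.snd Ω Ω) :=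
    fun w => ⟨w, w.2, rfl⟩
  refine ⟨_, _, φ₁, φ₂, h₁, h₂, fun x hx => ?_, fun χ hχ₁ hχ₂ x => ?_⟩
  · obtain ⟨w, hw⟩ := key ⟨x, hx⟩
    rw [theta_apply hθ₁ hθ₂] at hw
    simp only at hw
    rw [← hw]
    exact mul_mem (Subgroup.mem_sup_left (m₁ w)) (Subgroup.mem_sup_right (m₂ w))
  · obtain ⟨w, hw⟩ := key x
    have hx : φ x = θ ⟨φ₀ w, hφ₀T w⟩ := by
      rw [show x = ⟨θ ⟨(w : Ω × Ω), hpre w.2⟩, hmem w⟩ from Subtype.ext hw.symm]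
      exact hind w
    rw [hx, theta_apply hθ₁ hθ₂]
    rw [theta_apply hθ₁ hθ₂] at hw
    simp only at hw
    show _ = (φ₀ w).1 * (φ₀ w).2
    rw [he w (m₁ w) (m₂ w)]
    simp only
    rw [← hχ₁, ← hχ₂, ← map_mul]
    exact congrArg χ (Subtype.ext hw.symm)

/-- A pair of maps of the factors gives a map of the product. -/
theorem centralProd_exists_pair [Finite T₁] [Finite T₂] (h : IsCentralProductOf E₁ E₂ D)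
    {P₁ P₂ : Subgroup Ω} {φ₁ : P₁ →* Ω} {φ₂ : P₂ →* Ω} (h₁ : φ₁ ∈ E₁.Hom P₁) (h₂ : φ₂ ∈ E₂.Hom P₂) :
    ∃ ψ ∈ D.Hom (P₁ ⊔ P₂), (∀ x : P₁, ψ (Subgroup.inclusion le_sup_left x) = φ₁ x) ∧
      ∀ y : P₂, ψ (Subgroup.inclusion le_sup_right y) = φ₂ y := by
  obtain ⟨D₀, hD₀, Z, θ, hZc, -, -, hθ₁, hθ₂, -, hker, hrange, hiff⟩ := h
  have hP₁ := (E₁.le_of_mem h₁).1
  have hP₂ := (E₂.le_of_mem h₂).1
  let φ₀ : ↥(P₁.prod P₂) →* Ω × Ω :=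
    { toFun := fun w => (φ₁ ⟨(w : Ω × Ω).1, w.2.1⟩, φ₂ ⟨(w : Ω × Ω).2, w.2.2⟩)
      map_one' := Prod.ext (map_one φ₁) (map_one φ₂)
      map_mul' := fun a b => Prod.ext (map_mul φ₁ ⟨(a : Ω × Ω).1, a.2.1⟩ ⟨(b : Ω × Ω).1, b.2.1⟩)
        (map_mul φ₂ ⟨(a : Ω × Ω).2, a.2.2⟩ ⟨(b : Ω × Ω).2, b.2.2⟩) }
  have hf₁ : (P₁.prod P₂).map (MonoidHom.fst Ω Ω) ≤ P₁ := by
    rintro _ ⟨w, hw, rfl⟩; exact hw.1
  have hf₂ : (P₁.prod P₂).map (MonoidHom.snd Ω Ω) ≤ P₂ := by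
    rintro _ ⟨w, hw, rfl⟩; exact hw.2
  have hφ₀ : φ₀ ∈ D₀.Hom (P₁.prod P₂) :=
    (hD₀ _ φ₀).2 ⟨Subgroup.prod_mono hP₁ hP₂, _, res_mem E₁ h₁ hf₁, _, res_mem E₂ h₂ hf₂, fun x _ _ => rfl⟩
  have : Finite ↥(T₁.prod T₂) := Finite.of_equiv _ (Subgroup.prodEquiv T₁ T₂).symm.toEquiv
  obtain ⟨χ, hχ, hχ₀, hχZ⟩ := (isCentral_center D₀).2 _ φ₀ hφ₀
  have hTT : P₁ ⊔ P₂ ≤ ((P₁.prod P₂).subgroupOf (T₁.prod T₂)).map θ := by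
    refine sup_le (fun x hx => ?_) (fun y hy => ?_)
    · exact ⟨⟨(x, 1), hP₁ hx, T₂.one_mem⟩, ⟨hx, P₂.one_mem⟩, hθ₁ x _⟩
    · exact ⟨⟨(1, y), T₁.one_mem, hP₂ hy⟩, ⟨P₁.one_mem, hy⟩, hθ₂ y _⟩
  have hle : preimageAlong θ (P₁ ⊔ P₂) ≤ P₁.prod P₂ ⊔ D₀.center := by
    rintro _ ⟨w, hw, rfl⟩
    obtain ⟨r, hr, hrw⟩ := hTT (show θ w ∈ P₁ ⊔ P₂ from hw)
    have hz : ((r⁻¹ * w : ↥(T₁.prod T₂)) : Ω × Ω) ∈ Z := (hker _).1 (by rw [map_mul, map_inv, hrw, inv_mul_cancel])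
    have : ((r : Ω × Ω) * ((r⁻¹ * w : ↥(T₁.prod T₂)) : Ω × Ω)) = (w : Ω × Ω) := by simp
    rw [show (T₁.prod T₂).subtype w = (w : Ω × Ω) from rfl, ← this]
    exact mul_mem (Subgroup.mem_sup_left (show (r : Ω × Ω) ∈ P₁.prod P₂ from hr)) (Subgroup.mem_sup_right (hZc hz))
  have hψ₀ := res_mem D₀ hχ hle
  have hpre : preimageAlong θ (P₁ ⊔ P₂) ≤ T₁.prod T₂ := by
    rintro _ ⟨w, -, rfl⟩; exact w.2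
  have hval : ∀ w : preimageAlong θ (P₁ ⊔ P₂), θ ⟨w, hpre w.2⟩ ∈ P₁ ⊔ P₂ := by
    rintro ⟨_, w, hw, rfl⟩; exact hw
  have hψT := (D₀.le_of_mem hψ₀).2
  let f : preimageAlong θ (P₁ ⊔ P₂) →* ↥(P₁ ⊔ P₂) :=
    (θ.comp (Subgroup.inclusion hpre)).codRestrict (P₁ ⊔ P₂) hval
  let g : preimageAlong θ (P₁ ⊔ P₂) →* Ω := θ.comp ((res χ hle).codRestrict _ hψT)
  have hfs : Function.Surjective f := by
    intro y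
    obtain ⟨r, -, hr⟩ := hTT y.2
    exact ⟨⟨r, r, (show θ r ∈ P₁ ⊔ P₂ from hr ▸ y.2), rfl⟩, Subtype.ext hr⟩
  have hfg : f.ker ≤ g.ker := by
    intro w hw
    have hw1 : θ ⟨w, hpre w.2⟩ = 1 := congrArg Subtype.val (MonoidHom.mem_ker.1 hw)
    have hz : (w : Ω × Ω) ∈ Z := (hker _).1 hw1
    show θ ⟨res χ hle w, _⟩ = 1
    have e : res χ hle w = w := hχZ ⟨w, hZc hz⟩
    rw [← hw1]
    exact congrArg θ (Subtype.ext e)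
  let ψ : ↥(P₁ ⊔ P₂) →* Ω := f.liftOfSurjective hfs ⟨g, hfg⟩
  have hψe : ∀ w, ψ (f w) = g w := fun w => f.liftOfRightInverse_comp_apply _ (Function.rightInverse_surjInv hfs) ⟨g, hfg⟩ w
  have hagree : ∀ (a : Ω × Ω) (ha : a ∈ P₁.prod P₂) (u : ↥(P₁ ⊔ P₂)), (u : Ω) = a.1 * a.2 →
      ψ u = (φ₀ ⟨a, ha⟩).1 * (φ₀ ⟨a, ha⟩).2 := by
    intro a ha u hu
    have haT : a ∈ T₁.prod T₂ := Subgroup.prod_mono hP₁ hP₂ ha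
    have hav : θ ⟨a, haT⟩ = (u : Ω) := (theta_apply hθ₁ hθ₂ _).trans hu.symm
    have hpa : a ∈ preimageAlong θ (P₁ ⊔ P₂) := ⟨⟨a, haT⟩, (show θ ⟨a, haT⟩ ∈ P₁ ⊔ P₂ from hav ▸ u.2), rfl⟩
    rw [show u = f ⟨a, hpa⟩ from Subtype.ext hav.symm, hψe]
    have e : res χ hle ⟨a, hpa⟩ = φ₀ ⟨a, ha⟩ := hχ₀ ⟨a, ha⟩
    show θ ⟨res χ hle ⟨a, hpa⟩, _⟩ = _
    rw [theta_apply hθ₁ hθ₂]
    simp only [e]
  refine ⟨ψ, (hiff _ ψ).2 ⟨?_, _, hψ₀, hpre, hψT, hval, fun w => hψe w⟩, fun x => ?_, fun y => ?_⟩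
  · intro y hy
    obtain ⟨r, -, rfl⟩ := hTT hy
    exact hrange ▸ ⟨r, rfl⟩
  · rw [hagree (x, 1) ⟨x.2, P₂.one_mem⟩ _ (mul_one _).symm]
    show φ₁ x * φ₂ 1 = _
    rw [map_one, mul_one]
  · rw [hagree (1, y) ⟨P₁.one_mem, y.2⟩ _ (one_mul _).symm]
    show φ₁ 1 * φ₂ y = _
    rw [map_one, one_mul]

end Cfsg.Agent.H24
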