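import Cfsg.Agent.H94.Meet.Gen
import Cfsg.Agent.H93.LocalSaturated
import Cfsg.Agent.H93.Local
import Cfsg.Agent.H93.NormalRadical
import Cfsg.Agent.H96.CentralizerStrong
import Cfsg.Agent.H94.CentricExt
import Cfsg.Agent.H94.ConstrainedSetup
import Mathlib.GroupTheory.QuotientGroup.Basic

/-!
Tools for the meet of weakly normal subsystems: hulls of fully centralized subgroups, automorphisms stabilizing the
series `U ≤ U C_S(U)`, coprime powers and relative fully centralized conjugates.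
-/

set_option autoImplicit false

namespace Cfsg.Agent.H24.Meet

open Cfsg Cfsg.FusionSystem
open Cfsg.Agent.H93 (Mor)
open Cfsg.Agent.H94.Meet
open Cfsg.Agent.H96 (ModTrivial)

variable {Ω : Type*} [Group Ω] {S T₁ T₂ : Subgroup Ω} {F : FusionSystem S} {p : ℕ}

/-- The elements normalizing `R` normalize its hull. -/
theorem conj_mem_hull {R : Subgroup Ω} {s y : Ω} (hs : s ∈ normalizerIn S R) (hy : y ∈ hull S R) :
    s * y * s⁻¹ ∈ hull S R := by
  have hle : hull S R ≤ (hull S R).comap (MulAut.conj s).toMonoidHom := by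
    refine sup_le (fun x hx => le_hull S R (H93.mem_normalizerIn_conj hs hx)) fun c hc => ?_
    refine centralizerIn_le_hull S R (H93.mem_centralizerIn.2 ⟨?_, fun u hu => ?_⟩)
    · exact S.mul_mem (S.mul_mem hs.1 hc.1) (S.inv_mem hs.1)
    · have hu' : s⁻¹ * u * s ∈ R := by
        simpa using H93.mem_normalizerIn_conj (Subgroup.inv_mem _ hs) hu
      have h' := (H93.mem_centralizerIn.1 hc).2 _ hu'
      simp only [MulEquiv.coe_toMonoidHom, MulAut.conj_apply]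
      calc s * c * s⁻¹ * u * (s * c * s⁻¹)⁻¹ = s * (c * (s⁻¹ * u * s) * c⁻¹) * s⁻¹ := by group
        _ = u := by rw [h']; group
  exact hle hy

theorem hull_le_normalizerIn {U : Subgroup Ω} (hU : U ≤ S) : hull S U ≤ normalizerIn S U :=
  sup_le (H93.le_normalizerIn hU) (H93.centralizerIn_le_normalizerIn S U)

theorem mem_normalizerIn_hull [Finite S] {R : Subgroup Ω} (hR : R ≤ S) {s : Ω} (hs : s ∈ normalizerIn S R) :
    s ∈ normalizerIn S (hull S R) := by
  have := H96.finite_of_le (hull_le (S := S) hR)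
  exact ⟨hs.1, H94.mem_normalizer_of_forall_conj_mem fun _ hy => conj_mem_hull hs hy⟩

/-- The automorphism induced by a normalizing element. -/
theorem exists_conj_aut [Finite S] (F : FusionSystem S) {M : Subgroup Ω} (hM : M ≤ S) {s : Ω}
    (hs : s ∈ normalizerIn S M) :
    ∃ γ : MulAut M, γ ∈ F.autGroup M ∧ (∀ y : M, ((γ y : M) : Ω) = s * y * s⁻¹) ∧
      ∀ y : M, ((γ⁻¹ y : M) : Ω) = s⁻¹ * y * s := by
  obtain ⟨γ, hγ, hγe⟩ := H94.exists_autInducedBy (K := S) (P := M) hs.1 hs.2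
  have := H96.finite_of_le hM
  refine ⟨γ, H96.autInducedBy_le_autGroup F hM hγ, hγe, fun y => ?_⟩
  have h := hγe (γ⁻¹ y)
  rw [MulAut.apply_inv_self] at h
  rw [h]
  group

/-- The hull of a fully centralized subgroup is centric. -/
theorem hull_isCentric [Finite S] {U : Subgroup Ω} (hU : F.IsFullyCentralized U) :
    F.IsCentric (hull S U) := by
  refine ⟨hull_le hU.1, fun M hM c hc => ?_⟩
  obtain ⟨ψ, hψ, rfl⟩ := hM
  obtain ⟨f, hf, -⟩ := H93.exists_mor hψ rfl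
  obtain ⟨U', hU', hfU⟩ := hf.restrict (le_hull S U)
  obtain ⟨C, hC, hfC⟩ := hf.restrict (centralizerIn_le_hull S U)
  have hCle : C ≤ centralizerIn S U' := fun y hy => by
    obtain ⟨x, hx, rfl⟩ := hfC.surj hy
    exact hf.map_mem_centralizerIn hfU (le_hull S U) (centralizerIn_le_hull S U hx)
      (H93.mem_centralizerIn.1 hx).2
  have : Finite ↥(centralizerIn S U') := H96.finite_of_le (S := S) inf_le_left
  refine hC ?_
  rw [Subgroup.eq_of_le_of_card_ge hCle ((hU.2 U' hfU.isConj).trans hfC.card_eq.le)]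
  exact ⟨hc.1, Subgroup.centralizer_le hU' hc.2⟩

variable [Finite S] [Fact p.Prime]

theorem hull_isReceptive (hS : IsPGroup p S) (hF : F.IsSaturated p) {U : Subgroup Ω}
    (hU : F.IsFullyCentralized U) : F.IsReceptive (hull S U) :=
  H94.fullyCentralized_receptive hS hF (H94.centric_isFullyCentralized (hull_isCentric hU))

/-- An automorphism of the hull stabilizing `U ≤ U C_S(U)` is a conjugation by an element of `C_S(U)`. -/
theorem stabilizer_eq_conj (hS : IsPGroup p S) (hF : F.IsSaturated p) {U : Subgroup Ω}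
    (hU : F.IsFullyCentralized U) {δ : MulAut ↥(hull S U)} (hδ : δ ∈ F.autGroup (hull S U))
    (hfix : ∀ y : hull S U, (y : Ω) ∈ U → δ y = y)
    (hmod : ∀ y : hull S U, (y : Ω)⁻¹ * ((δ y : hull S U) : Ω) ∈ U) :
    ∃ e ∈ centralizerIn S U, ∀ y : hull S U, ((δ y : hull S U) : Ω) = e * y * e⁻¹ := by
  have hMS := hull_le (S := S) hU.1
  have := H96.finite_of_le hMS
  have hCS : centralizerIn S U ≤ S := inf_le_left
  have := H96.finite_of_le hCS
  set D := H93.centralizerSystem F U hU.1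
  have hDsat : D.IsSaturated p := H93.IsCentralizerSystem.isSaturated hS hF hU fun _ => rfl
  have hCM := centralizerIn_le_hull S U
  have hinv : ∀ c : centralizerIn S U, ((δ (Subgroup.inclusion hCM c) : hull S U) : Ω) ∈ centralizerIn S U := by
    intro c
    refine H93.mem_centralizerIn.2 ⟨hMS (δ _).2, fun x hx => ?_⟩
    have h1 := congrArg (fun w : hull S U => ((δ w : hull S U) : Ω))
      (show Subgroup.inclusion hCM c * ⟨x, le_hull S U hx⟩ * (Subgroup.inclusion hCM c)⁻¹ = ⟨x, le_hull S U hx⟩ from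
        Subtype.ext ((H93.mem_centralizerIn.1 c.2).2 x hx))
    simp only [map_mul, map_inv, Subgroup.coe_mul, Subgroup.coe_inv] at h1
    rwa [hfix ⟨x, le_hull S U hx⟩ hx] at h1
  obtain ⟨δC, hδCF, hδCe⟩ := H96.exists_autGroup_of_mem F
    (H96.res_mem F ((H96.mem_autGroup F hMS).1 hδ) hCM) hinv
  have hle : centralizerIn S U ⊔ U ≤ hull S U := sup_le hCM (le_hull S U)
  have hδCD : δC ∈ D.autGroup (centralizerIn S U) :=
    (H96.mem_autGroup D le_rfl).2 ⟨(H96.mem_autGroup F hCS).1 hδCF, le_rfl, fun x => (δC x).2,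
      H96.res ((hull S U).subtype.comp δ.toMonoidHom) hle,
      H96.res_mem F ((H96.mem_autGroup F hMS).1 hδ) hle, fun x => (hδCe x).symm,
      fun x => congrArg Subtype.val (hfix (Subgroup.inclusion (le_hull S U) x) x.2)⟩
  obtain ⟨k, hk⟩ := H93.pow_eq_one_of_stabilizes hS hMS (δ := δ) (R := U) hfix hmod
  have hk' : δC ^ p ^ k = 1 := by
    have hit : ∀ (n : ℕ) (x : centralizerIn S U),
        (((δC ^ n) x : centralizerIn S U) : Ω) = (((δ ^ n) (Subgroup.inclusion hCM x) : hull S U) : Ω) := by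
      intro n
      induction n with
      | zero => exact fun x => rfl
      | succ n ih =>
        intro x
        rw [pow_succ', pow_succ', MulAut.mul_apply, MulAut.mul_apply, hδCe]
        exact congrArg (fun w : hull S U => ((δ w : hull S U) : Ω)) (Subtype.ext (ih x))
    refine MulEquiv.ext fun x => Subtype.ext ?_
    rw [hit, hk]
    rfl
  obtain ⟨R, hR⟩ := (H94.fullyNormalized_spec (hS.to_le hCS) hDsat (H93.isFullyNormalized_top D)).1.2
  have hRn : (R : Subgroup (D.autGroup (centralizerIn S U))).Normal := by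
    refine ⟨fun b hb a => ?_⟩
    rw [hR] at hb ⊢
    obtain ⟨g, hg, hge⟩ := H96.mem_autInducedBy.1 (Subgroup.mem_subgroupOf.1 hb)
    refine Subgroup.mem_subgroupOf.2 (H96.mem_autInducedBy.2
      ⟨((a : MulAut ↥(centralizerIn S U)) ⟨g, hg⟩ : ↥(centralizerIn S U)), Subtype.mem _, fun x => ?_⟩)
    show (((a : MulAut ↥(centralizerIn S U)) ((b : MulAut ↥(centralizerIn S U))
      ((a : MulAut ↥(centralizerIn S U))⁻¹ x)) : ↥(centralizerIn S U)) : Ω) = _
    have e : (b : MulAut ↥(centralizerIn S U)) ((a : MulAut ↥(centralizerIn S U))⁻¹ x) =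
        ⟨g, hg⟩ * (a : MulAut ↥(centralizerIn S U))⁻¹ x * ⟨g, hg⟩⁻¹ := Subtype.ext (hge _)
    rw [e, map_mul, map_mul, map_inv, MulAut.apply_inv_self]
    rfl
  have hp : IsPGroup p (Subgroup.zpowers (⟨δC, hδCD⟩ : D.autGroup (centralizerIn S U))) := by
    rintro ⟨_, m, rfl⟩
    refine ⟨k, Subtype.ext ?_⟩
    show ((⟨δC, hδCD⟩ : D.autGroup (centralizerIn S U)) ^ m) ^ (p ^ k) = 1
    rw [← zpow_natCast, ← zpow_mul, mul_comm, zpow_mul, zpow_natCast,
      show (⟨δC, hδCD⟩ : D.autGroup (centralizerIn S U)) ^ p ^ k = 1 from Subtype.ext hk', one_zpow]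
  have : Finite (MulAut ↥(centralizerIn S U)) :=
    Finite.of_injective (fun e : MulAut ↥(centralizerIn S U) => (e : _ → _)) DFunLike.coe_injective
  have := Sylow.unique_of_normal R hRn
  obtain ⟨Q, hQ⟩ := hp.exists_le_sylow
  have hmem : (⟨δC, hδCD⟩ : D.autGroup (centralizerIn S U)) ∈ (R : Subgroup (D.autGroup (centralizerIn S U))) := by
    rw [Subsingleton.elim R Q]
    exact hQ (Subgroup.mem_zpowers _)
  rw [hR] at hmem
  obtain ⟨e, he, hee⟩ := H96.mem_autInducedBy.1 (Subgroup.mem_subgroupOf.1 hmem)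
  refine ⟨e, he, fun y => ?_⟩
  have hy := y.2
  rw [← SetLike.mem_coe] at hy
  unfold hull at hy
  rw [Subgroup.coe_mul_of_right_le_normalizer_left U (centralizerIn S U)
    ((inf_le_right : centralizerIn S U ≤ _).trans (Subgroup.centralizer_le_normalizer _))] at hy
  obtain ⟨u, hu, c, hc, huc⟩ := hy
  have h1 : y = ⟨u, le_hull S U hu⟩ * ⟨c, hCM hc⟩ := Subtype.ext huc.symm
  have h2 : ((δ ⟨c, hCM hc⟩ : hull S U) : Ω) = e * c * e⁻¹ := (hδCe ⟨c, hc⟩).symm.trans (hee ⟨c, hc⟩)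
  rw [h1, map_mul, Subgroup.coe_mul, hfix ⟨u, le_hull S U hu⟩ hu, h2, Subgroup.coe_mul]
  show u * (e * c * e⁻¹) = e * (u * c) * e⁻¹
  have h3 : e * u = u * e := mul_inv_eq_iff_eq_mul.1 ((H93.mem_centralizerIn.1 he).2 u hu)
  simp only [← mul_assoc, h3]

omit [Finite S] in
/-- A power of coprime order with the same restriction. -/
theorem exists_coprime_pow {A B : Type*} [Group A] [Group B] [Finite (MulAut B)] (f : A → B)
    {a : MulAut A} {b : MulAut B} (h : ∀ x, b (f x) = f (a x)) (ha : (orderOf a).Coprime p) :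
    ∃ m : ℕ, (orderOf (b ^ m)).Coprime p ∧ ∀ x, (b ^ m) (f x) = f (a x) := by
  obtain ⟨e, u, hu, he⟩ := Nat.exists_eq_pow_mul_and_not_dvd (orderOf_pos b).ne' p (Fact.out : p.Prime).ne_one
  obtain ⟨k, hk⟩ : ∃ k : ℕ, (a ^ p ^ e) ^ k = a :=
    exists_pow_eq_self_of_coprime (Nat.Coprime.pow_left e (Nat.coprime_comm.1 ha))
  refine ⟨p ^ e * k, Nat.Coprime.coprime_dvd_left ?_ ((Fact.out : p.Prime).coprime_iff_not_dvd.2 hu).symm,
    fun x => ?_⟩
  · refine orderOf_dvd_of_pow_eq_one ?_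
    rw [← pow_mul, show p ^ e * k * u = p ^ e * u * k by ring, pow_mul, ← he, pow_orderOf_eq_one, one_pow]
  · rw [H96.pow_intertwine f h, pow_mul, hk]

omit [Finite S] [Fact p.Prime] in
/-- Congruence modulo a normalized subgroup is multiplicative, so it is inherited by powers. -/
theorem cong_pow {M T : Subgroup Ω} {α : MulAut M} (h : ∀ y : M, (y : Ω)⁻¹ * ((α y : M) : Ω) ∈ T) (n : ℕ)
    (y : M) : (y : Ω)⁻¹ * (((α ^ n) y : M) : Ω) ∈ T := by
  induction n with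
  | zero => simp
  | succ n ih =>
    have := T.mul_mem ih (h ((α ^ n) y))
    rw [mul_assoc, mul_inv_cancel_left] at this
    rwa [pow_succ', MulAut.mul_apply]

omit [Finite S] [Fact p.Prime] in
/-- Congruence of a map on a join. -/
theorem cong_sup {A B M T : Subgroup Ω} {g : Ω → Ω} (hg : Mor F (A ⊔ B) M g)
    (hN : A ⊔ B ≤ Subgroup.normalizer (T : Set Ω)) (hA : ∀ a ∈ A, a⁻¹ * g a ∈ T) (hB : ∀ b ∈ B, b⁻¹ * g b ∈ T)
    {y : Ω} (hy : y ∈ A ⊔ B) : y⁻¹ * g y ∈ T := by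
  let K : Subgroup Ω :=
    { carrier := {y | y ∈ A ⊔ B ∧ y⁻¹ * g y ∈ T}
      one_mem' := ⟨one_mem _, by
        have h := hg.map_mul (one_mem _) (one_mem (A ⊔ B))
        rw [mul_one, left_eq_mul] at h
        rw [inv_one, one_mul, h]; exact one_mem _⟩
      mul_mem' := by
        rintro u v ⟨hu, hu'⟩ ⟨hv, hv'⟩
        refine ⟨mul_mem hu hv, ?_⟩
        have h3 := (Subgroup.mem_normalizer_iff.1 (hN (inv_mem hv)) _).1 hu'
        rw [inv_inv] at h3
        have h4 := T.mul_mem h3 hv'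
        rw [hg.map_mul hu hv]
        convert h4 using 1
        group
      inv_mem' := by
        rintro u ⟨hu, hu'⟩
        refine ⟨inv_mem hu, ?_⟩
        have h3 := (Subgroup.mem_normalizer_iff.1 (hN hu) _).1 (T.inv_mem hu')
        rw [hg.map_inv hu]
        convert h3 using 1
        group }
  exact ((sup_le (fun a ha => ⟨Subgroup.mem_sup_left ha, hA a ha⟩)
    fun b hb => ⟨Subgroup.mem_sup_right hb, hB b hb⟩ : A ⊔ B ≤ K) hy).2

/-- A conjugate of `R` by a map stabilizing the fully normalized subgroup `U` is fully centralized. -/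
theorem exists_fullyCentralized_conj (hS : IsPGroup p S) (hF : F.IsSaturated p) {U R : Subgroup Ω}
    (hU : F.IsFullyNormalized U) (hUR : U ≤ R) (hR : R ≤ normalizerIn S U) :
    ∃ (R' : Subgroup Ω) (ψ : Ω → Ω), Mor F R R' ψ ∧ Mor F U U ψ ∧ U ≤ R' ∧ R' ≤ normalizerIn S U ∧
      F.IsFullyCentralized R' := by
  have hRS : R ≤ S := hR.trans inf_le_left
  let 𝒮 : Set (Subgroup Ω) := {R' | ∃ ψ, Mor F R R' ψ ∧ Mor F U U ψ}
  have hfin : 𝒮.Finite := (H93.finite_setOf_le S).subset fun R' hR' => by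
    obtain ⟨ψ, hψ, -⟩ := hR'
    exact hψ.le_right
  obtain ⟨R', hR', hmax⟩ := hfin.exists_maximalFor (fun Q => Nat.card (centralizerIn S Q)) 𝒮
    ⟨R, _, Mor.id F hRS, Mor.id F hU.1⟩
  obtain ⟨ψ, hψ, hψU⟩ := id hR'
  have hUR' : U ≤ R' := fun y hy => by
    obtain ⟨x, hx, rfl⟩ := hψU.surj hy
    exact hψ.map_mem (hUR hx)
  refine ⟨R', ψ, hψ, hψU, hUR', fun y hy => ?_, hψ.le_right, fun R₃ hR₃ => ?_⟩
  · obtain ⟨x, hx, rfl⟩ := hψ.surj hy
    exact hψ.map_mem_normalizerIn hψU hUR hx (hR hx).2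
  obtain ⟨χ, hχ, hχr⟩ := hR₃
  obtain ⟨f, hf, -⟩ := H93.exists_mor hχ hχr
  obtain ⟨U₃, hU₃, hfU⟩ := hf.restrict hUR'
  have hf' : Mor F R R₃ (fun x => f (ψ x)) := hf.comp hψ
  have hfU' : Mor F U U₃ (fun x => f (ψ x)) := hfU.comp hψU
  obtain ⟨π, hπ, hπv, hπi⟩ := H93.exists_map_to_fullyNormalized hS hF hU
    (H93.isConj_symm hfU'.isConj)
  obtain ⟨k, hk, hke⟩ := H93.exists_mor hπ rfl
  have hU₃N : U₃ ≤ normalizerIn S U₃ := H93.le_normalizerIn hfU'.le_right
  have hkU : Mor F U₃ U k := by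
    refine hk.restrict_eq hU₃N (fun x hx => ?_) fun y hy => ?_
    · rw [show k x = _ from hke ⟨x, hU₃N hx⟩, ← hπi]
      exact H93.apply_mem_imgIn hx
    · rw [← hπi] at hy
      obtain ⟨x, hx, rfl⟩ := H93.mem_imgIn.1 hy
      exact ⟨x, hx, hke x⟩
  have hR₃N : R₃ ≤ normalizerIn S U₃ := fun y hy => by
    obtain ⟨x, hx, rfl⟩ := hf'.surj hy
    exact hf'.map_mem_normalizerIn hfU' hUR hx (hR hx).2
  obtain ⟨R₄, -, hkR⟩ := hk.restrict hR₃N
  have h4 : R₄ ∈ 𝒮 := ⟨_, hkR.comp hf', hkU.comp hfU'⟩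
  have hC₃N : centralizerIn S R₃ ≤ normalizerIn S U₃ := fun c hc =>
    H93.centralizerIn_le_normalizerIn S U₃ ⟨hc.1, Subgroup.centralizer_le hU₃ hc.2⟩
  obtain ⟨C₄, -, hkC⟩ := hk.restrict hC₃N
  have hC₄ : C₄ ≤ centralizerIn S R₄ := fun y hy => by
    obtain ⟨x, hx, rfl⟩ := hkC.surj hy
    exact hk.map_mem_centralizerIn hkR hR₃N (hC₃N hx) (H93.mem_centralizerIn.1 hx).2
  have : Finite ↥(centralizerIn S R₄) := H96.finite_of_le (S := S) inf_le_left
  have h5 : Nat.card (centralizerIn S R₃) ≤ Nat.card (centralizerIn S R₄) :=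
    hkC.card_eq.le.trans (Subgroup.card_le_of_le hC₄)
  rcases le_total (Nat.card (centralizerIn S R₄)) (Nat.card (centralizerIn S R')) with h6 | h6
  · exact h5.trans h6
  · exact h5.trans (hmax h4 h6)

omit [Finite S] [Fact p.Prime] in
/-- Conjugate automorphisms have the same exponents. -/
theorem coprime_conjAut {U U' : Subgroup Ω} {φ : Ω → Ω} (hφ : Mor F U U' φ) {a : MulAut U} {a' : MulAut U'}
    (he : ∀ x : U, φ ((a x : U) : Ω) = ((a' ⟨φ x, hφ.map_mem x.2⟩ : U') : Ω))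
    (ha : (orderOf a).Coprime p) : (orderOf a').Coprime p := by
  refine Nat.Coprime.coprime_dvd_left (orderOf_dvd_of_pow_eq_one (MulEquiv.ext fun y => ?_)) ha
  have hit : ∀ (n : ℕ) (x : U), ((a' ^ n) ⟨φ x, hφ.map_mem x.2⟩ : U') = ⟨φ (((a ^ n) x : U) : Ω), hφ.map_mem ((a ^ n) x).2⟩ := by
    intro n
    induction n with
    | zero => exact fun x => rfl
    | succ n ih =>
      intro x
      rw [pow_succ', MulAut.mul_apply, ih]
      refine Subtype.ext ?_
      rw [← he, pow_succ', MulAut.mul_apply]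
  obtain ⟨x, hx, hxy⟩ := hφ.surj y.2
  rw [show y = ⟨φ x, hφ.map_mem hx⟩ from Subtype.ext hxy.symm, hit _ ⟨x, hx⟩, pow_orderOf_eq_one]
  rfl

/-- In a subsystem over a strongly closed subgroup, fully centralized subgroups of the system are fully centralized. -/
theorem fullyCentralized_of_closed (hS : IsPGroup p S) (hF : F.IsSaturated p) {W : Subgroup Ω}
    {E : FusionSystem W} (hE : E.IsSubsystemOf F) (hW : F.StronglyClosed W) {U : Subgroup Ω} (hUW : U ≤ W)
    (hU : F.IsFullyCentralized U) : E.IsFullyCentralized U := by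
  refine ⟨hUW, fun V hV => ?_⟩
  obtain ⟨ψ, hψ, hψr⟩ := H93.isConj_symm hV
  obtain ⟨f, hf, -⟩ := H93.exists_mor (hE _ hψ) hψr
  obtain ⟨g, hge, M, -, hg, -⟩ := exists_hull_map hS hF hf hU
  have hfV : Mor F V U g := hf.congr fun x hx => (hge x hx).symm
  have hle : centralizerIn W V ≤ hull S V := fun x hx => centralizerIn_le_hull S V ⟨hW.1 hx.1, hx.2⟩
  obtain ⟨C, -, hC⟩ := hg.restrict hle
  obtain ⟨χ, hχ, -, hχv⟩ := id hC
  have : Finite ↥(centralizerIn W U) := H96.finite_of_le (S := S) (inf_le_left.trans hW.1)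
  refine hC.card_eq.le.trans (Subgroup.card_le_of_le fun y hy => ?_)
  obtain ⟨x, hx, rfl⟩ := hC.surj hy
  refine ⟨?_, (hg.map_mem_centralizerIn hfV (le_hull S V) (hle hx) (H93.mem_centralizerIn.1 hx).2).2⟩
  rw [← hχv ⟨x, hx⟩]
  exact H93.StronglyClosed.apply_mem hW hχ _ hx.1

/-- An automorphism of order prime to `p` of `Y ⊔ M`, whose restriction to the centric subgroup `Y` of an invariant
subsystem lies in it, lies in it. -/
theorem mor_of_ext (hS : IsPGroup p S) {W : Subgroup Ω} {E : FusionSystem W} (hE : E.IsWeaklyNormalIn F p)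
    {Y M : Subgroup Ω} (hYr : E.IsReceptive Y) (hYc : E.IsCentric Y) (hM : M ≤ normalizerIn W Y) {g : Ω → Ω}
    (hg : Mor F (Y ⊔ M) (Y ⊔ M) g) {α : MulAut ↥(Y ⊔ M)} (hαe : ∀ x : ↥(Y ⊔ M), ((α x : ↥(Y ⊔ M)) : Ω) = g x)
    (hα : (orderOf α).Coprime p) (hgY : Mor E Y Y g) : Mor E (Y ⊔ M) (Y ⊔ M) g := by
  obtain ⟨hEs, hF, hI⟩ := id hE
  have hW := hI.2.1
  have hYW := hYc.1
  have hXW : Y ⊔ M ≤ W := sup_le hYW (hM.trans inf_le_left)
  have hXS := hXW.trans hW.1
  have := H96.finite_of_le hXS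
  have := H96.finite_of_le hW.1
  obtain ⟨χ, hχ, -, hχv⟩ := id hg
  have hgW : ∀ x ∈ Y ⊔ M, g x ∈ W := fun x hx => by
    rw [← hχv ⟨x, hx⟩]
    exact H93.StronglyClosed.apply_mem hW hχ _ (hXW hx)
  obtain ⟨e, X', he, hee, -⟩ := hgY.extend (M := M) hYr fun m hm => ⟨hM hm, g m, hgW m (Subgroup.mem_sup_right hm),
    fun y hy => hg.map_conj (Subgroup.mem_sup_right hm) (Subgroup.mem_sup_left hy)⟩
  have hMd : ∀ m ∈ M, (g m)⁻¹ * e m ∈ Y := by
    intro m hm
    have hmX : m ∈ Y ⊔ M := Subgroup.mem_sup_right hm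
    refine hYc.2 Y (H93.isConj_refl E hYW) (H93.mem_centralizerIn.2
      ⟨W.mul_mem (W.inv_mem (hgW m hmX)) (he.le_right (he.map_mem hmX)), fun y hy => ?_⟩)
    obtain ⟨z, hz, rfl⟩ := hgY.surj hy
    have h1 := he.map_conj hmX (Subgroup.mem_sup_left hz)
    rw [hee _ (H93.mem_normalizerIn_conj (hM hm) hz), hee z hz,
      hg.map_conj hmX (Subgroup.mem_sup_left hz)] at h1
    calc (g m)⁻¹ * e m * g z * ((g m)⁻¹ * e m)⁻¹ = (g m)⁻¹ * (e m * g z * (e m)⁻¹) * g m := by group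
      _ = g z := by rw [← h1]; group
  obtain rfl : X' = Y ⊔ M := by
    obtain ⟨ψ, -, -, hψv⟩ := id he
    have hle : Y ⊔ M ≤ ((Y ⊔ M).comap ψ).map (Y ⊔ M).subtype := sup_le
      (fun x hx => ⟨⟨x, Subgroup.mem_sup_left hx⟩, Subgroup.mem_comap.2
        ((hψv ⟨x, Subgroup.mem_sup_left hx⟩).symm ▸ Subgroup.mem_sup_left (hee x hx ▸ hgY.map_mem hx)), rfl⟩)
      (fun x hx => ⟨⟨x, Subgroup.mem_sup_right hx⟩, Subgroup.mem_comap.2
        ((hψv ⟨x, Subgroup.mem_sup_right hx⟩).symm ▸ (by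
          have := (Y ⊔ M).mul_mem (hg.map_mem (Subgroup.mem_sup_right hx)) (Subgroup.mem_sup_left (hMd x hx))
          rwa [mul_inv_cancel_left] at this)), rfl⟩)
    refine Subgroup.eq_of_le_of_card_ge (fun y hy => ?_) he.card_eq.le
    obtain ⟨x, hx, rfl⟩ := he.surj hy
    obtain ⟨w, hw, rfl⟩ := hle hx
    exact hψv w ▸ hw
  obtain ⟨ε, hε, hεe⟩ := he.exists_aut
  obtain ⟨α', hα', hα'e⟩ := hg.exists_aut
  obtain rfl : α' = α := MulEquiv.ext fun x => Subtype.ext ((hα'e x).trans (hαe x).symm)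
  have hεF : ε ∈ F.autGroup (Y ⊔ M) := (H96.mem_autGroup F hXS).2 (hI.1 _ ((H96.mem_autGroup E hXW).1 hε))
  obtain ⟨κ, hκdef⟩ : ∃ κ, κ = α'⁻¹ * ε := ⟨_, rfl⟩
  have hκF : κ ∈ F.autGroup (Y ⊔ M) := hκdef ▸ mul_mem (inv_mem hα') hεF
  have hfix : ∀ x : ↥(Y ⊔ M), (x : Ω) ∈ Y → κ x = x := by
    intro x hx
    rw [hκdef, MulAut.mul_apply, show ε x = α' x from Subtype.ext ((hεe x).trans ((hee x hx).trans (hα'e x).symm)),
      MulAut.inv_apply_self]
  have hmod : ∀ x : ↥(Y ⊔ M), ((x⁻¹ * κ x : ↥(Y ⊔ M)) : Ω) ∈ Y := by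
    obtain ⟨k, hk, hke⟩ := H93.exists_mor_of_aut hXS hκF
    have hN : Y ⊔ M ≤ Subgroup.normalizer (Y : Set Ω) := sup_le Subgroup.le_normalizer (hM.trans inf_le_right)
    have hkY : ∀ y ∈ Y, y⁻¹ * k y ∈ Y := fun y hy => by
      rw [show k y = _ from hke ⟨y, Subgroup.mem_sup_left hy⟩, hfix _ hy, inv_mul_cancel]
      exact one_mem _
    have hkM : ∀ m ∈ M, m⁻¹ * k m ∈ Y := by
      intro m hm
      have hmX : m ∈ Y ⊔ M := Subgroup.mem_sup_right hm
      obtain ⟨z, hz, hze⟩ := hgY.surj (hMd m hm)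
      have h1 : κ ⟨m, hmX⟩ = ⟨m, hmX⟩ * ⟨z, Subgroup.mem_sup_left hz⟩ := by
        rw [hκdef, MulAut.mul_apply]
        apply α'.injective
        rw [MulAut.apply_inv_self, map_mul]
        refine Subtype.ext ?_
        rw [Subgroup.coe_mul, hεe, hα'e, hα'e]
        show e m = g m * g z
        rw [hze, mul_inv_cancel_left]
      rw [show k m = _ from hke ⟨m, hmX⟩, h1, Subgroup.coe_mul, inv_mul_cancel_left]
      exact hz
    intro x
    have := cong_sup hk hN hkY hkM x.2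
    rwa [show k (x : Ω) = _ from hke x] at this
  obtain ⟨n, hn⟩ := H93.pow_eq_one_of_stabilizes hS hXS (δ := κ) (R := Y) hfix hmod
  set A := F.autGroup (Y ⊔ M)
  set N := (E.autGroup (Y ⊔ M)).subgroupOf A
  have hNn : N.Normal := ⟨fun k hk a => Subgroup.mem_subgroupOf.2
    (H94.autGroup_conj_mem (H94.stronglyInvariant_of_invariant hI) hW.1 hXW a.2 (Subgroup.mem_subgroupOf.1 hk))⟩
  have h1 : (QuotientGroup.mk' N ⟨α', hα'⟩) ^ orderOf α' = 1 := by
    rw [← map_pow, show (⟨α', hα'⟩ : A) ^ orderOf α' = 1 from Subtype.ext (pow_orderOf_eq_one α'), map_one]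
  have h2 : (QuotientGroup.mk' N ⟨α', hα'⟩) ^ p ^ n = 1 := by
    have h3 : QuotientGroup.mk' N ⟨κ, hκF⟩ = (QuotientGroup.mk' N ⟨α', hα'⟩)⁻¹ := by
      rw [show (⟨κ, hκF⟩ : A) = (⟨α', hα'⟩ : A)⁻¹ * ⟨ε, hεF⟩ from Subtype.ext hκdef, map_mul, map_inv,
        show QuotientGroup.mk' N ⟨ε, hεF⟩ = 1 from (QuotientGroup.eq_one_iff _).2 (Subgroup.mem_subgroupOf.2 hε),
        mul_one]
    have h4 : (QuotientGroup.mk' N ⟨κ, hκF⟩) ^ p ^ n = 1 := by
      rw [← map_pow, show (⟨κ, hκF⟩ : A) ^ p ^ n = 1 from Subtype.ext hn, map_one]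
    rwa [h3, inv_pow, inv_eq_one] at h4
  have h5 := pow_gcd_eq_one.2 ⟨h1, h2⟩
  rw [(Nat.Coprime.pow_right n hα).gcd_eq_one, pow_one] at h5
  obtain ⟨f, hf, hfe⟩ := H93.exists_mor_of_aut hXW (Subgroup.mem_subgroupOf.1 ((QuotientGroup.eq_one_iff _).1 h5))
  exact hf.congr fun x hx => (hfe ⟨x, hx⟩).trans (hα'e ⟨x, hx⟩)

end Cfsg.Agent.H24.Meet
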