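import Cfsg.Agent.H24.MeetBasic

/-!
Lifting good automorphisms of the meet to subgroups normalizing a fully centralized subgroup.
-/

set_option autoImplicit false

namespace Cfsg.Agent.H24.Meet

open Cfsg Cfsg.FusionSystem
open Cfsg.Agent.H93 (Mor)
open Cfsg.Agent.H94.Meet
open Cfsg.Agent.H96 (ModTrivial)

variable {Ω : Type*} [Group Ω] {S T₁ T₂ : Subgroup Ω} {F : FusionSystem S} {E₁ : FusionSystem T₁}
  {E₂ : FusionSystem T₂} {p : ℕ}

/-- Restriction of an automorphism to an invariant subgroup given by its two halves. -/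
theorem mor_restrict_sup [Finite S] {A B X Y : Subgroup Ω} {g : Ω → Ω} (hg : Mor F X Y g) (hle : A ⊔ B ≤ X)
    (hA : ∀ x ∈ A, g x ∈ A ⊔ B) (hB : ∀ x ∈ B, g x ∈ A ⊔ B) : Mor F (A ⊔ B) (A ⊔ B) g := by
  obtain ⟨Z, -, hgZ⟩ := hg.restrict hle
  obtain rfl : Z = A ⊔ B := by
    obtain ⟨ψ, -, -, hψv⟩ := id hgZ
    have := H96.finite_of_le hgZ.le_left
    have h' : A ⊔ B ≤ ((A ⊔ B).comap ψ).map (A ⊔ B).subtype := sup_le
      (fun x hx => ⟨⟨x, Subgroup.mem_sup_left hx⟩, Subgroup.mem_comap.2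
        ((hψv ⟨x, Subgroup.mem_sup_left hx⟩).symm ▸ hA x hx), rfl⟩)
      (fun x hx => ⟨⟨x, Subgroup.mem_sup_right hx⟩, Subgroup.mem_comap.2
        ((hψv ⟨x, Subgroup.mem_sup_right hx⟩).symm ▸ hB x hx), rfl⟩)
    refine Subgroup.eq_of_le_of_card_ge (fun y hy => ?_) hgZ.card_eq.le
    obtain ⟨x, hx, rfl⟩ := hgZ.surj hy
    obtain ⟨w, hw, rfl⟩ := h' hx
    exact hψv w ▸ hw
  exact hgZ

variable [Finite S] [Fact p.Prime]

/-- The extension of a congruent automorphism of the hull to a normalized overgroup inside the intersection. -/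
theorem lift_core (h : Data p F E₁ E₂) {U W : Subgroup Ω}
    (hU : TCentric F (T₁ ⊓ T₂) U) (hUc : F.IsFullyCentralized U) (hUW : U ≤ W)
    (hW : W ≤ normalizerIn (T₁ ⊓ T₂) U) {a : MulAut U} (hp : (orderOf a).Coprime p) {g₀ : Ω → Ω}
    (hg₀ : Mor F (hull S U) (hull S U) g₀) (hg₀a : ∀ x : U, g₀ x = ((a x : U) : Ω))
    (hg₀c : ∀ y ∈ hull S U, y⁻¹ * g₀ y ∈ T₁ ⊓ T₂)
    (hg₀₁ : Mor E₁ (hull T₁ U) (hull T₁ U) g₀) (hg₀₂ : Mor E₂ (hull T₂ U) (hull T₂ U) g₀)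
    (hnorm : ∀ w ∈ W, ∃ w' ∈ W, ∀ (x : U) (hx : w * (x : Ω) * w⁻¹ ∈ U),
      ((a ⟨_, hx⟩ : U) : Ω) = w' * ((a x : U) : Ω) * w'⁻¹) :
    ∃ (G : Ω → Ω) (β : MulAut ↥(hull S U ⊔ W)), Mor F (hull S U ⊔ W) (hull S U ⊔ W) G ∧
      (∀ x : ↥(hull S U ⊔ W), ((β x : ↥(hull S U ⊔ W)) : Ω) = G x) ∧ (orderOf β).Coprime p ∧
      (∀ x : U, G x = ((a x : U) : Ω)) ∧ Mor F W W G ∧ (∀ y ∈ hull S U ⊔ W, y⁻¹ * G y ∈ T₁ ⊓ T₂) ∧
      Mor E₁ (hull T₁ U ⊔ W) (hull T₁ U ⊔ W) G ∧ Mor E₂ (hull T₂ U ⊔ W) (hull T₂ U ⊔ W) G := by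
  have hS := h.isPGroup
  have hF := h.saturated
  have hUS := hU.1.trans h.le
  have hWS : W ≤ S := hW.trans (inf_le_left.trans h.le)
  have hWN : W ≤ normalizerIn S U := fun w hw => ⟨hWS hw, (hW hw).2⟩
  have hHS := hull_le (S := S) hUS
  have := H96.finite_of_le hHS
  obtain ⟨α₁, hα₁, hα₁e⟩ := hg₀.exists_aut
  have hα₁U : ∀ x : U, α₁ (Subgroup.inclusion (le_hull S U) x) = Subgroup.inclusion (le_hull S U) (a x) :=
    fun x => Subtype.ext ((hα₁e _).trans (hg₀a x))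
  have : Finite (MulAut ↥(hull S U)) :=
    Finite.of_injective (fun e : MulAut ↥(hull S U) => (e : _ → _)) DFunLike.coe_injective
  obtain ⟨m₀, hm₀, hα₁m⟩ := exists_coprime_pow (p := p) _ hα₁U hp
  obtain ⟨α, hαdef⟩ : ∃ α : MulAut ↥(hull S U), α = α₁ ^ m₀ := ⟨_, rfl⟩
  have hαF : α ∈ F.autGroup (hull S U) := hαdef ▸ pow_mem hα₁ _
  have hαU : ∀ x : U, α (Subgroup.inclusion (le_hull S U) x) = Subgroup.inclusion (le_hull S U) (a x) :=
    fun x => hαdef ▸ hα₁m x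
  have hαT : ∀ y : hull S U, (y : Ω)⁻¹ * ((α y : hull S U) : Ω) ∈ T₁ ⊓ T₂ := fun y => hαdef ▸
    cong_pow (fun y => by rw [hα₁e]; exact hg₀c y y.2) m₀ y
  have hαm : ModTrivial U α := fun y =>
    hU.mem_of_hull h.le ((hull S U).mul_mem ((hull S U).inv_mem y.2) (α y).2) (hαT y)
  obtain ⟨fα, hfα, hfαe⟩ := H93.exists_mor_of_aut hHS hαF
  -- the twisted conjugations
  have htw : ∀ (w : Ω) (hw : w ∈ W), ∃ k ∈ hull S U, ∃ w' ∈ W, ∀ (y : Ω) (hy : y ∈ hull S U),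
      ((α ⟨w * y * w⁻¹, conj_mem_hull (hWN hw) hy⟩ : hull S U) : Ω) =
        k * w' * ((α ⟨y, hy⟩ : hull S U) : Ω) * (k * w')⁻¹ := by
    intro w hw
    obtain ⟨w', hw', hwe⟩ := hnorm w hw
    obtain ⟨γ, hγ, hγe, hγi⟩ := exists_conj_aut F hHS (mem_normalizerIn_hull hUS (hWN hw))
    obtain ⟨γ', hγ', hγ'e, hγ'i⟩ := exists_conj_aut F hHS (mem_normalizerIn_hull hUS (hWN hw'))
    obtain ⟨δ, hδdef⟩ : ∃ δ, δ = γ'⁻¹ * (α * γ * α⁻¹) := ⟨_, rfl⟩
    have hconj : ∀ (v : Ω) (hv : v ∈ W) (y : hull S U) (z : hull S U), ((z : hull S U) : Ω) = v * y * v⁻¹ →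
        (y : Ω)⁻¹ * z ∈ U := by
      intro v hv y z hz
      refine hU.mem_of_hull h.le ((hull S U).mul_mem ((hull S U).inv_mem y.2) z.2) ?_
      rw [hz]
      have h1 := (Subgroup.mem_normalizer_iff.1 ((Subgroup.normalizer _).inv_mem
        (H93.StronglyClosed.le_normalizer h.closed (hHS y.2))) v).1 (hW hv).1
      have h2 := Subgroup.mul_mem _ h1 (Subgroup.inv_mem _ (hW hv).1)
      simpa [mul_assoc] using h2
    have hγm : ModTrivial U γ := fun y => hconj w hw y _ (hγe y)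
    have hγ'm : ModTrivial U γ' := fun y => hconj w' hw' y _ (hγ'e y)
    have hδm : ModTrivial U δ := hδdef ▸ H96.modTrivial_mul (H96.modTrivial_inv hγ'm)
      (H96.modTrivial_mul (H96.modTrivial_mul hαm hγm) (H96.modTrivial_inv hαm))
    have hfix : ∀ y : hull S U, (y : Ω) ∈ U → δ y = y := by
      intro y hy
      have h2 : α⁻¹ y = Subgroup.inclusion (le_hull S U) (a⁻¹ ⟨y, hy⟩) := α.injective (by
        rw [MulAut.apply_inv_self, hαU, MulAut.apply_inv_self]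
        rfl)
      have hx : w * ((a⁻¹ ⟨y, hy⟩ : U) : Ω) * w⁻¹ ∈ U := H93.mem_normalizerIn_conj (hWN hw) (SetLike.coe_mem _)
      have h3 : γ (Subgroup.inclusion (le_hull S U) (a⁻¹ ⟨y, hy⟩)) = Subgroup.inclusion (le_hull S U) ⟨_, hx⟩ :=
        Subtype.ext (hγe _)
      rw [hδdef]
      simp only [MulAut.mul_apply]
      rw [h2, h3, hαU]
      refine Subtype.ext ((hγ'i _).trans ?_)
      show w'⁻¹ * ((a ⟨_, hx⟩ : U) : Ω) * w' = y
      rw [hwe _ hx, MulAut.apply_inv_self]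
      group
    obtain ⟨e, he, hee⟩ := stabilizer_eq_conj hS hF hUc
      (hδdef ▸ mul_mem (inv_mem hγ') (mul_mem (mul_mem hαF hγ) (inv_mem hαF))) hfix hδm
    refine ⟨w' * e * w'⁻¹, conj_mem_hull (hWN hw') (centralizerIn_le_hull S U he), w', hw', fun y hy => ?_⟩
    have h1 : α ⟨w * y * w⁻¹, conj_mem_hull (hWN hw) hy⟩ = γ' (δ (α ⟨y, hy⟩)) := by
      rw [show (⟨w * y * w⁻¹, conj_mem_hull (hWN hw) hy⟩ : hull S U) = γ ⟨y, hy⟩ from Subtype.ext (hγe ⟨y, hy⟩).symm,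
        hδdef]
      simp [MulAut.mul_apply]
    rw [h1, hγ'e, hee]
    group
  obtain ⟨g₁, M, hg₁, hg₁e, -⟩ := hfα.extend (M := W) (hull_isReceptive hS hF hUc) fun w hw => by
    obtain ⟨k, hk, w', hw', hke⟩ := htw w hw
    refine ⟨mem_normalizerIn_hull hUS (hWN hw), k * w', S.mul_mem (hHS hk) (hWS hw'), fun y hy => ?_⟩
    rw [show fα (w * y * w⁻¹) = _ from hfαe ⟨_, conj_mem_hull (hWN hw) hy⟩, show fα y = _ from hfαe ⟨y, hy⟩]
    exact hke y hy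
  have key : ∀ (G : Ω → Ω) (M : Subgroup Ω), Mor F (hull S U ⊔ W) M G →
      (∀ (y : Ω) (hy : y ∈ hull S U), G y = ((α ⟨y, hy⟩ : hull S U) : Ω)) → ∀ w ∈ W, G w ∈ W := by
    intro G M hG hGe w hw
    obtain ⟨k, hk, w', hw', hke⟩ := htw w hw
    have hwQ : w ∈ hull S U ⊔ W := Subgroup.mem_sup_right hw
    have hkS : k * w' ∈ S := S.mul_mem (hHS hk) (hWS hw')
    have h1 : (k * w')⁻¹ * G w ∈ hull S U := by
      refine (hull_isCentric hUc).2 _ (H93.isConj_refl F hHS) (H93.mem_centralizerIn.2 ⟨?_, fun y hy => ?_⟩)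
      · exact S.mul_mem (S.inv_mem hkS) (hG.le_right (hG.map_mem hwQ))
      obtain ⟨z, hz⟩ : ∃ z, α z = ⟨y, hy⟩ := α.surjective _
      have h2 := hG.map_conj hwQ (Subgroup.mem_sup_left z.2)
      rw [hGe _ (conj_mem_hull (hWN hw) z.2), hke _ z.2, hGe _ z.2,
        show (⟨(z : Ω), z.2⟩ : hull S U) = z from rfl, hz] at h2
      calc (k * w')⁻¹ * G w * y * ((k * w')⁻¹ * G w)⁻¹ = (k * w')⁻¹ * (G w * y * (G w)⁻¹) * (k * w') := by group
        _ = y := by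
          rw [← h2]
          show (k * w')⁻¹ * (k * w' * y * (k * w')⁻¹) * (k * w') = y
          group
    have hGT : G w ∈ T₁ ⊓ T₂ := by
      obtain ⟨ψ, hψ, -, hψv⟩ := id hG
      rw [← hψv ⟨w, hwQ⟩]
      exact H93.StronglyClosed.apply_mem h.closed hψ _ (hW hw).1
    have h3 : w'⁻¹ * G w ∈ U := by
      refine hU.mem_of_hull h.le ?_ (Subgroup.mul_mem _ (Subgroup.inv_mem _ (hW hw').1) hGT)
      have h4 := conj_mem_hull (Subgroup.inv_mem _ (hWN hw')) hk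
      rw [inv_inv] at h4
      have h5 := (hull S U).mul_mem h4 h1
      have e : w'⁻¹ * k * w' * ((k * w')⁻¹ * G w) = w'⁻¹ * G w := by group
      rwa [e] at h5
    have := W.mul_mem hw' (hUW h3)
    rwa [mul_inv_cancel_left] at this
  have hQS : hull S U ⊔ W ≤ S := sup_le hHS hWS
  have := H96.finite_of_le hQS
  have hg₁α : ∀ (y : Ω) (hy : y ∈ hull S U), g₁ y = ((α ⟨y, hy⟩ : hull S U) : Ω) := fun y hy =>
    (hg₁e y hy).trans (hfαe ⟨y, hy⟩)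
  have hg₁Q := mor_restrict_sup hg₁ le_rfl (fun x hx => Subgroup.mem_sup_left (hg₁α x hx ▸ (α ⟨x, hx⟩).2))
    fun x hx => Subgroup.mem_sup_right (key g₁ M hg₁ hg₁α x hx)
  obtain ⟨β₁, hβ₁, hβ₁e⟩ := hg₁Q.exists_aut
  have hβ₁α : ∀ y : hull S U, β₁ (Subgroup.inclusion le_sup_left y) = Subgroup.inclusion le_sup_left (α y) :=
    fun y => Subtype.ext ((hβ₁e _).trans (hg₁α y y.2))
  have : Finite (MulAut ↥(hull S U ⊔ W)) :=
    Finite.of_injective (fun e : MulAut ↥(hull S U ⊔ W) => (e : _ → _)) DFunLike.coe_injective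
  obtain ⟨m₁, hm₁, hβ₁m⟩ := exists_coprime_pow (p := p) _ hβ₁α (hαdef ▸ hm₀)
  obtain ⟨β, hβdef⟩ : ∃ β, β = β₁ ^ m₁ := ⟨_, rfl⟩
  obtain ⟨G, hG, hGe⟩ := H93.exists_mor_of_aut hQS (hβdef ▸ pow_mem hβ₁ m₁ : β ∈ _)
  have hGα : ∀ (y : Ω) (hy : y ∈ hull S U), G y = ((α ⟨y, hy⟩ : hull S U) : Ω) := fun y hy =>
    (hGe ⟨y, Subgroup.mem_sup_left hy⟩).trans (congrArg Subtype.val (hβdef ▸ hβ₁m ⟨y, hy⟩))
  have hGW : ∀ w ∈ W, G w ∈ W := key G _ hG hGα
  have hGU : ∀ x : U, G x = ((a x : U) : Ω) := fun x =>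
    (hGα _ (le_hull S U x.2)).trans (congrArg Subtype.val (hαU x))
  -- the subsystems
  have hsub : ∀ {X : Subgroup Ω} (E : FusionSystem X), E.IsWeaklyNormalIn F p → T₁ ⊓ T₂ ≤ X →
      Mor E (hull X U) (hull X U) g₀ → Mor E (hull X U ⊔ W) (hull X U ⊔ W) G := by
    intro X E hE hTX hE₀
    have hXS : X ≤ S := hE.2.2.2.1.1
    have hUX : U ≤ X := hU.1.trans hTX
    have hXH : hull X U ≤ hull S U := sup_le_sup_left (inf_le_inf_right _ hXS) U
    have hWX : W ≤ normalizerIn X U := fun w hw => ⟨hTX (hW hw).1, (hW hw).2⟩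
    have := H96.finite_of_le hXS
    have hUcX := fullyCentralized_of_closed hS hF hE.2.2.1 hE.2.2.2.1 hUX hUc
    -- restriction of the coprime part
    obtain ⟨σ, hσ, hσe⟩ := hE₀.exists_aut
    have hσα : ∀ x : hull X U, α (Subgroup.inclusion hXH x) = Subgroup.inclusion hXH ((σ ^ m₀) x) := fun x => by
      rw [hαdef]
      exact H96.pow_intertwine _ (fun z => Subtype.ext ((hα₁e _).trans (hσe z).symm)) m₀ x
    obtain ⟨f, hf, hfe⟩ := H93.exists_mor_of_aut (hull_le hUX) (pow_mem hσ m₀)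
    have hGY : Mor E (hull X U) (hull X U) G := hf.congr fun x hx => (hfe ⟨x, hx⟩).trans
      ((congrArg Subtype.val (hσα ⟨x, hx⟩)).symm.trans (hGα x (hXH hx)).symm)
    have hle : hull X U ⊔ W ≤ hull S U ⊔ W := sup_le_sup_right hXH W
    have hGX := mor_restrict_sup hG hle (fun x hx => Subgroup.mem_sup_left (hGY.map_mem hx))
      fun x hx => Subgroup.mem_sup_right (hGW x hx)
    have := H96.finite_of_le (hull_le (S := X) hUX)
    obtain ⟨τ, -, hτe⟩ := hGX.exists_aut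
    refine mor_of_ext hS hE (hull_isReceptive (hS.to_le hXS) hE.1 hUcX) (hull_isCentric hUcX)
      (fun w hw => mem_normalizerIn_hull hUX (hWX hw)) hGX hτe ?_ hGY
    refine Nat.Coprime.coprime_dvd_left (orderOf_dvd_of_pow_eq_one (MulEquiv.ext fun x => ?_)) (hβdef ▸ hm₁)
    apply Subgroup.inclusion_injective hle
    rw [← H96.pow_intertwine (Subgroup.inclusion hle)
      (fun y => Subtype.ext (((hτe y).trans (hGe (Subgroup.inclusion hle y))).symm)) (orderOf β) x, pow_orderOf_eq_one]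
    rfl
  refine ⟨G, β, hG, fun x => (hGe x).symm, hβdef ▸ hm₁, hGU, ?_, fun y hy => ?_,
    hsub E₁ h.left inf_le_left hg₀₁, hsub E₂ h.right inf_le_right hg₀₂⟩
  · have := H96.finite_of_le hWS
    obtain ⟨W', -, hW'⟩ := hG.restrict (le_sup_right : W ≤ hull S U ⊔ W)
    obtain rfl : W' = W := Subgroup.eq_of_le_of_card_ge (fun y hy => by
      obtain ⟨x, hx, rfl⟩ := hW'.surj hy
      exact hGW x hx) hW'.card_eq.le
    exact hW'
  · refine cong_sup hG (hQS.trans (H93.StronglyClosed.le_normalizer h.closed)) (fun u hu => ?_) (fun w hw => ?_) hy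
    · rw [hGα u hu]; exact hαT ⟨u, hu⟩
    · exact Subgroup.mul_mem _ (Subgroup.inv_mem _ (hW hw).1) (hW (hGW w hw)).1

/-- Good automorphisms of order prime to `p` lift to the subgroups they normalize. -/
theorem bGood_lift (h : Data p F E₁ E₂) {U W : Subgroup Ω} (hU : TCentric F (T₁ ⊓ T₂) U)
    (hn : F.IsFullyNormalized U) (hUW : U ≤ W) (hW : W ≤ normalizerIn (T₁ ⊓ T₂) U) {a : MulAut U}
    (ha : BGood F E₁ E₂ U a) (hp : (orderOf a).Coprime p)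
    (hnorm : ∀ w ∈ W, ∃ w' ∈ W, ∀ (x : U) (hx : w * (x : Ω) * w⁻¹ ∈ U),
      ((a ⟨_, hx⟩ : U) : Ω) = w' * ((a x : U) : Ω) * w'⁻¹) :
    ∃ c : MulAut W, BGood F E₁ E₂ W c ∧ (orderOf c).Coprime p ∧
      ∀ x : U, ((c (Subgroup.inclusion hUW x) : W) : Ω) = ((a x : U) : Ω) := by
  have hS := h.isPGroup
  have hF := h.saturated
  have hWS : W ≤ S := hW.trans (inf_le_left.trans h.le)
  have hWN : W ≤ normalizerIn S U := fun w hw => ⟨hWS hw, (hW hw).2⟩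
  have hUc := H93.IsFullyNormalized.isFullyCentralized hS hF hn
  have hUT₁ := hU.1.trans inf_le_left
  have hUT₂ := hU.1.trans inf_le_right
  obtain ⟨W', ψ, hψ, hψU, hUW', hW'N, hW'c⟩ := exists_fullyCentralized_conj hS hF hn hUW hWN
  have hWtc : TCentric F (T₁ ⊓ T₂) W := hU.mono hUW (hW.trans inf_le_left)
  have hW'tc := hWtc.of_mor h.closed hψ
  have hW' : W' ≤ normalizerIn (T₁ ⊓ T₂) U := fun w hw => ⟨hW'tc.1 hw, (hW'N hw).2⟩
  obtain ⟨a', ha'⟩ := exists_conjAut hψU a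
  have ha'g := bGood_conj h hU.1 hψU ha ha'
  have hnorm' : ∀ w ∈ W', ∃ w' ∈ W', ∀ (x : U) (hx : w * (x : Ω) * w⁻¹ ∈ U),
      ((a' ⟨_, hx⟩ : U) : Ω) = w' * ((a' x : U) : Ω) * w'⁻¹ := by
    intro w hw
    obtain ⟨v, hv, rfl⟩ := hψ.surj hw
    obtain ⟨v', hv', hve⟩ := hnorm v hv
    refine ⟨ψ v', hψ.map_mem hv', fun x hx => ?_⟩
    obtain ⟨z, hz, hze⟩ := hψU.surj x.2
    have hz' : v * z * v⁻¹ ∈ U := H93.mem_normalizerIn_conj (hWN hv) hz
    rw [show (⟨ψ v * (x : Ω) * (ψ v)⁻¹, hx⟩ : U) = ⟨ψ (v * z * v⁻¹), hψU.map_mem hz'⟩ from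
      Subtype.ext ((congrArg (fun t => ψ v * t * (ψ v)⁻¹) hze.symm).trans (hψ.map_conj hv (hUW hz)).symm),
      ← ha' ⟨_, hz'⟩, show x = ⟨ψ z, hψU.map_mem hz⟩ from Subtype.ext hze.symm, ← ha' ⟨z, hz⟩, hve ⟨z, hz⟩ hz',
      hψ.map_conj hv' (hUW (a ⟨z, hz⟩).2)]
  obtain ⟨g₀, hg₀, hg₀a, hg₀c, hg₀1, hg₀2⟩ := ha'g.2.2.2 U (fun x => x) (Mor.id F hn.1) hUc
  obtain ⟨G, β, hG, hβ, hβp, hGU, hGW, hGc, hG1, hG2⟩ :=
    lift_core h hU hUc hUW' hW' (coprime_conjAut hψU ha' hp) hg₀ hg₀a hg₀c hg₀1 hg₀2 hnorm'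
  obtain ⟨c', hc', hc'e⟩ := hGW.exists_aut
  have hW'S := hψ.le_right
  have := H96.finite_of_le hW'S
  have hc'p : (orderOf c').Coprime p := by
    refine Nat.Coprime.coprime_dvd_left (orderOf_dvd_of_pow_eq_one (MulEquiv.ext fun x => ?_)) hβp
    apply Subgroup.inclusion_injective (le_sup_right : W' ≤ hull S U ⊔ W')
    rw [← H96.pow_intertwine (Subgroup.inclusion (le_sup_right : W' ≤ hull S U ⊔ W'))
      (fun y => Subtype.ext ((hβ (Subgroup.inclusion le_sup_right y)).trans (hc'e y).symm)) (orderOf β) x,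
      pow_orderOf_eq_one]
    rfl
  have hsub : ∀ {X : Subgroup Ω} (E : FusionSystem X) [Finite X], T₁ ⊓ T₂ ≤ X →
      Mor E (hull X U ⊔ W') (hull X U ⊔ W') G → ActsIn E W' c' ∧ Mor E (hull X W') (hull X W') G := by
    intro X E _ hTX hGX
    have hW'X : W' ≤ X := hW'tc.1.trans hTX
    have hGW' : Mor E W' W' G := by
      refine hGX.restrict_eq le_sup_right (fun x hx => hGW.map_mem hx) fun y hy => ?_
      exact hGW.surj hy
    refine ⟨⟨G, hGW', fun x => (hc'e x).symm⟩, ?_⟩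
    have hle : hull X W' ≤ hull X U ⊔ W' :=
      sup_le le_sup_right (le_trans (show centralizerIn X W' ≤ hull X U from
        fun x hx => centralizerIn_le_hull X U ⟨hx.1, Subgroup.centralizer_le hUW' hx.2⟩) le_sup_left)
    exact mor_restrict_sup hGX hle (fun x hx => Subgroup.mem_sup_left (hGW.map_mem hx)) fun x hx =>
      Subgroup.mem_sup_right ⟨hGX.le_right (hGX.map_mem (hle (Subgroup.mem_sup_right hx))),
        (hGX.map_mem_centralizerIn hGW' le_sup_right (hle (Subgroup.mem_sup_right hx))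
          (H93.mem_centralizerIn.1 hx).2).2⟩
  have := H96.finite_of_le h.left.2.2.2.1.1
  have := H96.finite_of_le h.right.2.2.2.1.1
  have h1 := hsub E₁ inf_le_left hG1
  have h2 := hsub E₂ inf_le_right hG2
  have h0 : Mor F (hull S W') (hull S W') G := (hsub F h.le hG).2
  have hc'g : BGood F E₁ E₂ W' c' := by
    refine ⟨(hsub F h.le hG).1, h1.1, h2.1, fun W'' φ hφ hW'' => ?_⟩
    refine congIn_of_congIn h hW'tc (Mor.id F hW'S) hφ hW'c hW'' ⟨G, h0, fun x => (hc'e x).symm, fun y hy => ?_, h1.2, h2.2⟩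
    exact hGc y (sup_le le_sup_right (le_trans (show centralizerIn S W' ≤ hull S U from fun x hx =>
      centralizerIn_le_hull S U ⟨hx.1, Subgroup.centralizer_le hUW' hx.2⟩) le_sup_left) hy)
  obtain ⟨ψi, hψi, hψi1, hψi2⟩ := hψ.exists_inv
  obtain ⟨c, hc⟩ := exists_conjAut hψi c'
  refine ⟨c, bGood_conj h hW'tc.1 hψi hc'g hc, coprime_conjAut hψi hc hc'p, fun x => ?_⟩
  have h3 := hc ⟨ψ x, hψ.map_mem (hUW x.2)⟩
  rw [show (⟨ψi (ψ (x : Ω)), hψi.map_mem (hψ.map_mem (hUW x.2))⟩ : W) = Subgroup.inclusion hUW x from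
    Subtype.ext (hψi1 x (hUW x.2)), hc'e, show G (ψ (x : Ω)) = _ from hGU ⟨ψ x, hψU.map_mem x.2⟩, ← ha' x,
    hψi1 _ (hUW (a x).2)] at h3
  exact h3.symm

end Cfsg.Agent.H24.Meet
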