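import Cfsg.Agent.H93.NormalCongruence
import Cfsg.Agent.H24.MeetBasic
import Cfsg.Agent.H24.MeetLift
import Cfsg.Agent.S5293

/-!
The hyperfocal subgroup of a normal subsystem centralizing the intersection with another one centralizes it.
-/

set_option autoImplicit false

namespace Cfsg.Agent.H24.CompCenter

open Cfsg Cfsg.FusionSystem
open Cfsg.Agent.H93 (Mor)
open Cfsg.Agent.H94.Meet
open Cfsg.Agent.H24.Meet (hull_isCentric hull_isReceptive stabilizer_eq_conj exists_coprime_pow cong_pow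
  coprime_conjAut conj_mem_hull mem_normalizerIn_hull exists_conj_aut mor_restrict_sup)
open Cfsg.Agent.H96 (ModTrivial)

variable {Ω : Type*} [Group Ω] {S V T Y : Subgroup Ω} {F : FusionSystem S} {M : FusionSystem V}
  {D : FusionSystem T} {p : ℕ}

variable [Finite S] [Fact p.Prime]

set_option linter.unusedSectionVars false

/-- Displacements in a strongly closed subgroup are transported along maps of the system. -/
theorem disp_of_conj (hY : F.StronglyClosed Y) {P P' : Subgroup Ω} {φ : Ω → Ω} (hφ : Mor F P P' φ)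
    {a : MulAut P} {a' : MulAut P'} (he : ∀ x : P, φ ((a x : P) : Ω) = ((a' ⟨φ x, hφ.map_mem x.2⟩ : P') : Ω))
    (h : ∀ x : P', (x : Ω)⁻¹ * ((a' x : P') : Ω) ∈ Y) (x : P) : (x : Ω)⁻¹ * ((a x : P) : Ω) ∈ Y := by
  obtain ⟨φi, hφi, hφi1, -⟩ := hφ.exists_inv
  have hm : (x : Ω)⁻¹ * ((a x : P) : Ω) ∈ P := P.mul_mem (P.inv_mem x.2) (a x).2
  have h1 := h ⟨φ x, hφ.map_mem x.2⟩
  rw [← he x] at h1
  change (φ x)⁻¹ * φ ((a x : P) : Ω) ∈ Y at h1
  rw [← hφ.map_inv x.2, ← hφ.map_mul (P.inv_mem x.2) (a x).2] at h1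
  obtain ⟨ψ, hψ, -, hψv⟩ := id hφi
  have h2 := H93.StronglyClosed.apply_mem hY hψ ⟨_, hφ.map_mem hm⟩ h1
  rwa [hψv, hφi1 _ hm] at h2

/-- The subgroups `Q` of `V` containing their centralizers in all conjugates contain the intersection. -/
theorem inf_le_of_tCentric (hM : M.IsNormalIn F p) (hMZ : ∀ P, M.Hom P ⊆ F.centralizerHom (V ⊓ T) P)
    {Q : Subgroup Ω} (hQc : TCentric F V Q) : V ⊓ T ≤ Q := by
  have hVS : V ≤ S := hM.1.2.2.2.1.1
  have hVZ : V ≤ centralizerIn S (V ⊓ T) := (hMZ V (H96.subtype_mem M le_rfl)).2.1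
  intro z hz
  refine hQc.2 Q (H93.isConj_refl F (hQc.1.trans hVS)) (H93.mem_centralizerIn.2 ⟨hz.1, fun q hq => ?_⟩)
  rw [mul_inv_eq_iff_eq_mul]
  exact Subgroup.mem_centralizer_iff.1 (hVZ (hQc.1 hq)).2 z hz

/-- Automorphisms in a subsystem centralizing a subgroup fix its elements. -/
theorem fixes (hMZ : ∀ P, M.Hom P ⊆ F.centralizerHom (V ⊓ T) P) {Q : Subgroup Ω} (hQV : Q ≤ V) {a : MulAut Q}
    (ha : a ∈ M.autGroup Q) {z : Q} (hz : (z : Ω) ∈ V ⊓ T) : a z = z := by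
  obtain ⟨-, -, -, ψ, -, hψ1, hψ2⟩ := hMZ Q ((H96.mem_autGroup M hQV).1 ha)
  refine Subtype.ext ((hψ1 z).symm.trans ?_)
  exact (congrArg ψ (Subtype.ext rfl)).trans (hψ2 ⟨z, hz⟩)

/-- A subgroup fully normalized in the system is fully automized in an invariant saturated subsystem containing it. -/
theorem exists_sylow_of_fullyNormalized (hS : IsPGroup p S) (hF : F.IsSaturated p) (hM : M.IsNormalIn F p)
    {Q : Subgroup Ω} (hQV : Q ≤ V) (hQn : F.IsFullyNormalized Q) :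
    ∃ R : Sylow p (M.autGroup Q), (R : Subgroup (M.autGroup Q)) = (autInducedBy V Q).subgroupOf (M.autGroup Q) := by
  have hVS : V ≤ S := hM.1.2.2.2.1.1
  have := H96.finite_of_le hVS
  have hn : M.IsFullyNormalized Q := by
    refine ⟨hQV, fun R hR => ?_⟩
    obtain ⟨φ, hφ, hr⟩ := hR
    have hRQ : F.IsConj R Q := H93.isConj_symm ⟨φ, hM.1.2.2.1 Q hφ, hr⟩
    obtain ⟨π, hπ, hπN, himg⟩ := H93.exists_map_to_fullyNormalized hS hF hQn hRQ
    have hle : normalizerIn V R ≤ normalizerIn S R := fun x hx => ⟨hVS hx.1, hx.2⟩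
    have hfin : Finite ↥(normalizerIn V Q) := H96.finite_of_le (S := S) (inf_le_left.trans hVS)
    refine Nat.card_le_card_of_injective (fun x : normalizerIn V R => (⟨π ⟨x, hle x.2⟩,
      H93.StronglyClosed.apply_mem hM.1.2.2.2.1 hπ ⟨x, hle x.2⟩ x.2.1, (hπN _).2⟩ : normalizerIn V Q)) ?_
    intro x y e
    exact Subtype.ext (congrArg Subtype.val (F.injective_of_mem hπ (congrArg Subtype.val e)) :)
  exact (H94.fullyNormalized_spec (hS.to_le hVS) hM.1.1 hn).1.2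

/-- The stabilizers of the series `Q ≥ V ⊓ T ≥ 1` in the automizer are induced by `V`. -/
theorem exists_inner_of_stabilizes (hS : IsPGroup p S) (hF : F.IsSaturated p) (hM : M.IsNormalIn F p)
    (hMZ : ∀ P, M.Hom P ⊆ F.centralizerHom (V ⊓ T) P) {Q : Subgroup Ω} (hQc : TCentric F V Q)
    (hQn : F.IsFullyNormalized Q) {d : MulAut Q} (hd : d ∈ M.autGroup Q)
    (hdm : ∀ x : Q, (x : Ω)⁻¹ * ((d x : Q) : Ω) ∈ V ⊓ T) :
    ∃ v ∈ V, ∀ x : Q, ((d x : Q) : Ω) = v * (x : Ω) * v⁻¹ := by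
  obtain ⟨R, hR⟩ := exists_sylow_of_fullyNormalized hS hF hM hQc.1 hQn
  have hQS := hQc.1.trans hM.1.2.2.2.1.1
  have hfix : ∀ a : M.autGroup Q, ∀ x : Q, (x : Ω) ∈ V ⊓ T → (a : MulAut Q) x = x :=
    fun a x hx => fixes hMZ hQc.1 a.2 hx
  obtain ⟨N, hN⟩ : ∃ N : Subgroup (M.autGroup Q), ∀ a, a ∈ N ↔
      ∀ x : Q, (x : Ω)⁻¹ * (((a : MulAut Q) x : Q) : Ω) ∈ V ⊓ T := by
    refine ⟨⟨⟨⟨{a | ∀ x : Q, (x : Ω)⁻¹ * (((a : MulAut Q) x : Q) : Ω) ∈ V ⊓ T}, fun {a b} ha hb x => ?_⟩,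
      fun x => by simp⟩, fun {a} ha x => ?_⟩, fun a => Iff.rfl⟩
    · have h1 := Subgroup.mul_mem _ (hb x) (ha ((b : MulAut Q) x))
      rwa [mul_assoc, mul_inv_cancel_left] at h1
    · have h1 := Subgroup.inv_mem _ (ha ((a : MulAut Q)⁻¹ x))
      rw [mul_inv_rev, inv_inv, MulAut.apply_inv_self] at h1
      exact h1
  have hNn : N.Normal := by
    refine ⟨fun b hb a => (hN _).2 fun x => ?_⟩
    have h1 := (hN b).1 hb ((a : MulAut Q)⁻¹ x)
    obtain ⟨u, hu⟩ : ∃ u, u = ((a : MulAut Q)⁻¹ x)⁻¹ * (b : MulAut Q) ((a : MulAut Q)⁻¹ x) := ⟨_, rfl⟩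
    have hu' : (u : Ω) ∈ V ⊓ T := by rw [hu]; exact h1
    have h2 := hfix a u hu'
    rw [hu, map_mul, map_inv, MulAut.apply_inv_self] at h2
    have h3 : (x : Ω)⁻¹ * ((((a * b * a⁻¹ : M.autGroup Q) : MulAut Q) x : Q) : Ω) = ((u : Q) : Ω) := by
      rw [hu]
      exact congrArg Subtype.val h2
    rw [h3]
    exact hu'
  have hNp : IsPGroup p N := by
    rintro ⟨a, ha⟩
    obtain ⟨k, hk⟩ := H93.pow_eq_one_of_stabilizes hS hQS (δ := (a : MulAut Q)) (R := V ⊓ T) (hfix a) ((hN a).1 ha)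
    exact ⟨k, Subtype.ext (Subtype.ext hk)⟩
  have hle : N ≤ (R : Subgroup (M.autGroup Q)) := by
    rw [← R.3 (R.2.to_sup_of_normal_right hNp) le_sup_left]
    exact le_sup_right
  have h1 : (⟨d, hd⟩ : M.autGroup Q) ∈ N := (hN _).2 hdm
  have h2 := hle h1
  rw [hR, Subgroup.mem_subgroupOf] at h2
  exact H96.mem_autInducedBy.1 h2

/-- The congruent extension to `Q C_S(Q)` of an automorphism of order prime to `p`. -/
theorem exists_hull_aut (hS : IsPGroup p S) (hM : M.IsNormalIn F p) {Q : Subgroup Ω}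
    (hQc : TCentric F V Q) (hQn : F.IsFullyNormalized Q) {a : MulAut Q} (ha : a ∈ M.autGroup Q)
    (hp : (orderOf a).Coprime p) :
    ∃ α ∈ F.autGroup (hull S Q), (orderOf α).Coprime p ∧
      (∀ x : Q, α (Subgroup.inclusion (le_hull S Q) x) = Subgroup.inclusion (le_hull S Q) (a x)) ∧
      ModTrivial Q α := by
  have hQS : Q ≤ S := hQn.1
  have hQM : M.IsCentric Q := ⟨hQc.1, fun R ⟨φ, hφ, hr⟩ => hQc.2 R ⟨φ, hM.1.2.2.1 Q hφ, hr⟩⟩
  obtain ⟨g, hg, hga, hgc⟩ := H93.NormalCongruence.congAt_of_autGroup hS hM hQM (Mor.id F hQS)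
    (H93.IsFullyNormalized.isFullyCentralized hS hM.1.2.1 hQn) ha
  have hHS := hull_le (S := S) hQS
  have := H96.finite_of_le hHS
  obtain ⟨α₁, hα₁, hα₁e⟩ := hg.exists_aut
  have hα₁Q : ∀ x : Q, α₁ (Subgroup.inclusion (le_hull S Q) x) = Subgroup.inclusion (le_hull S Q) (a x) :=
    fun x => Subtype.ext ((hα₁e _).trans (hga x))
  have : Finite (MulAut ↥(hull S Q)) :=
    Finite.of_injective (fun e : MulAut ↥(hull S Q) => (e : _ → _)) DFunLike.coe_injective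
  obtain ⟨m₀, hm₀, hα₁m⟩ := exists_coprime_pow (p := p) _ hα₁Q hp
  refine ⟨α₁ ^ m₀, pow_mem hα₁ _, hm₀, hα₁m, fun y => ?_⟩
  have h1 := cong_pow (T := V) (fun y => by rw [hα₁e]; exact hgc y y.2) m₀ y
  exact hQc.mem_of_hull hM.1.2.2.2.1.1 ((hull S Q).mul_mem ((hull S Q).inv_mem y.2) ((α₁ ^ m₀) y).2) h1

/-- An automorphism of order prime to `p` of a fully normalized centric subgroup extends to a map fixing `T`. -/
theorem exists_fix (hS : IsPGroup p S) (hF : F.IsSaturated p) (hM : M.IsNormalIn F p) (hT : F.StronglyClosed T)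
    (hMZ : ∀ P, M.Hom P ⊆ F.centralizerHom (V ⊓ T) P) {Q : Subgroup Ω}
    (hQc : TCentric F V Q) (hQn : F.IsFullyNormalized Q) {a : MulAut Q} (ha : a ∈ M.autGroup Q)
    (hp : (orderOf a).Coprime p) :
    ∃ G : Ω → Ω, Mor F (hull S Q ⊔ T) (hull S Q ⊔ T) G ∧ (∀ x : Q, G x = ((a x : Q) : Ω)) ∧ ∀ t ∈ T, G t = t := by
  have hV : F.StronglyClosed V := hM.1.2.2.2.1
  have hVS := hV.1
  have hQS : Q ≤ S := hQn.1
  have hQf := H93.IsFullyNormalized.isFullyCentralized hS hF hQn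
  have hZQ := inf_le_of_tCentric hM hMZ hQc
  have hHS := hull_le (S := S) hQS
  have := H96.finite_of_le hQS
  have := H96.finite_of_le hHS
  obtain ⟨α, hαF, hαp, hαQ, hαm⟩ := exists_hull_aut hS hM hQc hQn ha hp
  obtain ⟨fα, hfα, hfαe⟩ := H93.exists_mor_of_aut hHS hαF
  -- commutators of `T` with `V`
  have hcomm : ∀ t ∈ T, ∀ x ∈ V, x⁻¹ * t⁻¹ * x * t ∈ V ⊓ T := by
    intro t ht x hx
    refine ⟨?_, ?_⟩
    · have := H93.StronglyClosed.conj_mem hV (S.inv_mem (hT.1 ht)) hx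
      rw [inv_inv] at this
      have := V.mul_mem (V.inv_mem hx) this
      simpa [mul_assoc] using this
    · have := H93.StronglyClosed.conj_mem hT (S.inv_mem (hVS hx)) (T.inv_mem ht)
      rw [inv_inv] at this
      exact T.mul_mem this ht
  have hTN : ∀ t ∈ T, t ∈ normalizerIn S Q := by
    intro t ht
    refine ⟨hT.1 ht, H94.mem_normalizer_of_forall_conj_mem fun x hx => ?_⟩
    have h1 := Q.mul_mem hx (hZQ (hcomm _ (T.inv_mem ht) x (hQc.1 hx)))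
    simpa [mul_assoc] using h1
  -- the twisted conjugations
  have htw : ∀ (t : Ω) (ht : t ∈ T), ∃ v ∈ V, ∃ e ∈ hull S Q, ∃ _ : v ∈ normalizerIn S Q,
      ∀ (y : Ω) (hy : y ∈ hull S Q), ((α ⟨t * y * t⁻¹, conj_mem_hull (hTN t ht) hy⟩ : hull S Q) : Ω) =
        v * e * t * ((α ⟨y, hy⟩ : hull S Q) : Ω) * (v * e * t)⁻¹ := by
    intro t ht
    obtain ⟨γ, hγ, hγe, hγi⟩ := exists_conj_aut F hHS (mem_normalizerIn_hull hQS (hTN t ht))
    obtain ⟨δ, hδdef⟩ : ∃ δ, δ = α * γ * α⁻¹ * γ⁻¹ := ⟨_, rfl⟩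
    have hδF : δ ∈ F.autGroup (hull S Q) := hδdef ▸ mul_mem (mul_mem (mul_mem hαF hγ) (inv_mem hαF)) (inv_mem hγ)
    have hδm : ModTrivial Q δ := by
      have h1 : ModTrivial Q (γ * α⁻¹ * γ⁻¹) := fun y => by
        have h2 := H93.mem_normalizerIn_conj (hTN t ht) (H96.modTrivial_inv hαm (γ⁻¹ y))
        have h3 : t * (((γ⁻¹ y : hull S Q) : Ω)⁻¹ * ((α⁻¹ (γ⁻¹ y) : hull S Q) : Ω)) * t⁻¹ =
            (y : Ω)⁻¹ * (((γ * α⁻¹ * γ⁻¹) y : hull S Q) : Ω) := by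
          rw [MulAut.mul_apply, MulAut.mul_apply, hγe, hγi]
          group
        rwa [h3] at h2
      have := H96.modTrivial_mul hαm h1
      rwa [← mul_assoc, ← mul_assoc, ← hδdef] at this
    -- its restriction to `Q`
    obtain ⟨a', ha'⟩ := exists_conjAut (H93.mor_conj F hQS (hTN t ht)) a⁻¹
    have ha'M : a' ∈ M.autGroup Q := (actsIn_iff hQc.1).1 (actsIn_conj hM.1.2.2 hQc.1
      (H93.mor_conj F hQS (hTN t ht)) ((actsIn_iff hQc.1).2 (inv_mem ha)) ha')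
    obtain ⟨d, hd⟩ : ∃ d, d = a * a' := ⟨_, rfl⟩
    have hdM : d ∈ M.autGroup Q := hd ▸ mul_mem ha ha'M
    have hdv : ∀ x : Q, ((d x : Q) : Ω) = ((δ (Subgroup.inclusion (le_hull S Q) x) : hull S Q) : Ω) ∧
        (x : Ω)⁻¹ * ((d x : Q) : Ω) ∈ V ⊓ T := by
      intro x
      have hx' : t⁻¹ * (x : Ω) * t ∈ Q := by
        simpa using H93.mem_normalizerIn_conj (Subgroup.inv_mem _ (hTN t ht)) x.2
      have h3 := ha' ⟨_, hx'⟩
      rw [show (⟨t * (t⁻¹ * (x : Ω) * t) * t⁻¹, H93.mem_normalizerIn_conj (hTN t ht) hx'⟩ : Q) = x from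
        Subtype.ext (by group)] at h3
      constructor
      · have h1 : γ⁻¹ (Subgroup.inclusion (le_hull S Q) x) = Subgroup.inclusion (le_hull S Q) ⟨_, hx'⟩ :=
          Subtype.ext (hγi _)
        have h2 : α⁻¹ (Subgroup.inclusion (le_hull S Q) ⟨_, hx'⟩) =
            Subgroup.inclusion (le_hull S Q) (a⁻¹ ⟨_, hx'⟩) := α.injective (by
          rw [MulAut.apply_inv_self, hαQ, MulAut.apply_inv_self])
        have h4 : γ (Subgroup.inclusion (le_hull S Q) (a⁻¹ ⟨_, hx'⟩)) = Subgroup.inclusion (le_hull S Q) (a' x) :=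
          Subtype.ext ((hγe _).trans h3)
        simp only [hd, hδdef, MulAut.mul_apply, h1, h2, h4, hαQ]
        rfl
      · obtain ⟨u, hu⟩ : ∃ u, u = a⁻¹ ⟨_, hx'⟩ := ⟨_, rfl⟩
        rw [← hu] at h3
        have hz : (u : Ω)⁻¹ * ((a' x : Q) : Ω) ∈ V ⊓ T := by
          rw [← h3]
          show (u : Ω)⁻¹ * (t * u * t⁻¹) ∈ V ⊓ T
          have h5 := hcomm _ (T.inv_mem ht) u (hQc.1 u.2)
          simpa [mul_assoc] using h5
        have h4 := fixes hMZ hQc.1 ha (z := u⁻¹ * a' x) hz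
        rw [map_mul, map_inv, hu, MulAut.apply_inv_self, ← hu] at h4
        have h5 : ((d x : Q) : Ω) = t⁻¹ * x * t * ((u : Ω)⁻¹ * ((a' x : Q) : Ω)) := by
          have h6 : a (a' x) = ⟨_, hx'⟩ * (u⁻¹ * a' x) := by rw [← h4, mul_inv_cancel_left]
          rw [hd, MulAut.mul_apply, h6]
          rfl
        rw [h5, ← mul_assoc]
        refine Subgroup.mul_mem _ ?_ hz
        have h6 := hcomm t ht x (hQc.1 x.2)
        simpa [mul_assoc] using h6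
    obtain ⟨v, hv, hve⟩ := exists_inner_of_stabilizes hS hF hM hMZ hQc hQn hdM fun x => (hdv x).2
    have hvN : v ∈ normalizerIn S Q := ⟨hVS hv, H93.mem_normalizer_of_conj_eq hve⟩
    obtain ⟨ζ, hζ, hζe, hζi⟩ := exists_conj_aut F hHS (mem_normalizerIn_hull hQS hvN)
    have hfix : ∀ y : hull S Q, (y : Ω) ∈ Q → (ζ⁻¹ * δ) y = y := by
      intro y hy
      rw [MulAut.mul_apply]
      refine Subtype.ext ((hζi _).trans ?_)
      rw [show y = Subgroup.inclusion (le_hull S Q) ⟨y, hy⟩ from rfl, ← (hdv _).1, hve]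
      simp [mul_assoc]
    have hζm : ModTrivial Q ζ⁻¹ := by
      refine H96.modTrivial_inv fun y => hQc.mem_of_hull hVS ((hull S Q).mul_mem ((hull S Q).inv_mem y.2) (ζ y).2) ?_
      rw [hζe]
      have h1 := H93.StronglyClosed.conj_mem hV (S.inv_mem (hHS y.2)) hv
      rw [inv_inv] at h1
      have h2 := V.mul_mem h1 (V.inv_mem hv)
      simpa [mul_assoc] using h2
    obtain ⟨e, he, hee⟩ := stabilizer_eq_conj hS hF hQf (mul_mem (inv_mem hζ) hδF) hfix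
      (H96.modTrivial_mul hζm hδm)
    refine ⟨v, hv, e, centralizerIn_le_hull S Q he, hvN, fun y hy => ?_⟩
    have h1 : α ⟨t * y * t⁻¹, conj_mem_hull (hTN t ht) hy⟩ = ζ ((ζ⁻¹ * δ) (γ (α ⟨y, hy⟩))) := by
      rw [show (⟨t * y * t⁻¹, conj_mem_hull (hTN t ht) hy⟩ : hull S Q) = γ ⟨y, hy⟩ from Subtype.ext (hγe ⟨y, hy⟩).symm,
        hδdef]
      simp [MulAut.mul_apply]
    rw [h1, hζe, hee, hγe]
    group
  -- the extension
  obtain ⟨g₁, W', hg₁, hg₁e, -⟩ := hfα.extend (M := T) (hull_isReceptive hS hF hQf) fun t ht => by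
    obtain ⟨v, hv, e, he, hvN, hte⟩ := htw t ht
    refine ⟨mem_normalizerIn_hull hQS (hTN t ht), v * e * t,
      S.mul_mem (S.mul_mem (hVS hv) (hHS he)) (hT.1 ht), fun y hy => ?_⟩
    rw [show fα (t * y * t⁻¹) = _ from hfαe ⟨_, conj_mem_hull (hTN t ht) hy⟩, show fα y = _ from hfαe ⟨y, hy⟩]
    exact hte y hy
  have hTm : ∀ (G : Ω → Ω) (W' : Subgroup Ω), Mor F (hull S Q ⊔ T) W' G → ∀ t ∈ T, G t ∈ T := by
    intro G W' hG t ht
    obtain ⟨ψ, hψ, -, hψv⟩ := id hG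
    rw [← hψv ⟨t, Subgroup.mem_sup_right ht⟩]
    exact H93.StronglyClosed.apply_mem hT hψ _ ht
  have hWS : hull S Q ⊔ T ≤ S := sup_le hHS hT.1
  have := H96.finite_of_le hWS
  have hg₁α : ∀ (y : Ω) (hy : y ∈ hull S Q), g₁ y = ((α ⟨y, hy⟩ : hull S Q) : Ω) := fun y hy =>
    (hg₁e y hy).trans (hfαe ⟨y, hy⟩)
  have hg₁W := mor_restrict_sup hg₁ le_rfl (fun x hx => Subgroup.mem_sup_left (hg₁α x hx ▸ (α ⟨x, hx⟩).2))
    fun x hx => Subgroup.mem_sup_right (hTm g₁ W' hg₁ x hx)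
  obtain ⟨β₁, hβ₁, hβ₁e⟩ := hg₁W.exists_aut
  have hβ₁α : ∀ y : hull S Q, β₁ (Subgroup.inclusion le_sup_left y) = Subgroup.inclusion le_sup_left (α y) :=
    fun y => Subtype.ext ((hβ₁e _).trans (hg₁α y y.2))
  have : Finite (MulAut ↥(hull S Q ⊔ T)) :=
    Finite.of_injective (fun e : MulAut ↥(hull S Q ⊔ T) => (e : _ → _)) DFunLike.coe_injective
  obtain ⟨m₁, hm₁, hβ₁m⟩ := exists_coprime_pow (p := p) _ hβ₁α hαp
  obtain ⟨β, hβdef⟩ : ∃ β, β = β₁ ^ m₁ := ⟨_, rfl⟩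
  obtain ⟨G, hG, hGe⟩ := H93.exists_mor_of_aut hWS (hβdef ▸ pow_mem hβ₁ m₁ : β ∈ _)
  have hGα : ∀ (y : Ω) (hy : y ∈ hull S Q), G y = ((α ⟨y, hy⟩ : hull S Q) : Ω) := fun y hy =>
    (hGe ⟨y, Subgroup.mem_sup_left hy⟩).trans (congrArg Subtype.val (hβdef ▸ hβ₁m ⟨y, hy⟩))
  have hGQ : ∀ x : Q, G x = ((a x : Q) : Ω) := fun x =>
    (hGα _ (le_hull S Q x.2)).trans (congrArg Subtype.val (hαQ x))
  refine ⟨G, hG, hGQ, fun t ht => ?_⟩
  obtain ⟨v, hv, e, he, hvN, hte⟩ := htw t ht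
  have htW : t ∈ hull S Q ⊔ T := Subgroup.mem_sup_right ht
  have hsS : v * e * t ∈ S := S.mul_mem (S.mul_mem (hVS hv) (hHS he)) (hT.1 ht)
  obtain ⟨c, hc, hGt⟩ : ∃ c ∈ hull S Q, G t = v * e * t * c := by
    refine ⟨(v * e * t)⁻¹ * G t, ?_, (mul_inv_cancel_left _ _).symm⟩
    refine (hull_isCentric hQf).2 _ (H93.isConj_refl F hHS) (H93.mem_centralizerIn.2 ⟨?_, fun y hy => ?_⟩)
    · exact S.mul_mem (S.inv_mem hsS) (hG.le_right (hG.map_mem htW))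
    obtain ⟨w, hw⟩ : ∃ w, α w = ⟨y, hy⟩ := α.surjective _
    have h2 := hG.map_conj htW (Subgroup.mem_sup_left w.2)
    rw [hGα _ (conj_mem_hull (hTN t ht) w.2), hte _ w.2, hGα _ w.2,
      show (⟨(w : Ω), w.2⟩ : hull S Q) = w from rfl, hw] at h2
    calc (v * e * t)⁻¹ * G t * y * ((v * e * t)⁻¹ * G t)⁻¹
        = (v * e * t)⁻¹ * (G t * y * (G t)⁻¹) * (v * e * t) := by group
      _ = y := by
        rw [← h2]
        show (v * e * t)⁻¹ * (v * e * t * y * (v * e * t)⁻¹) * (v * e * t) = y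
        group
  have hvW : v ∈ hull S Q ⊔ T := by
    have h1 : v = G t * c⁻¹ * t⁻¹ * e⁻¹ := by rw [hGt]; group
    rw [h1]
    exact Subgroup.mul_mem _ (Subgroup.mul_mem _ (Subgroup.mul_mem _ (hG.map_mem htW)
      (Subgroup.inv_mem _ (Subgroup.mem_sup_left hc))) (Subgroup.inv_mem _ htW))
      (Subgroup.inv_mem _ (Subgroup.mem_sup_left he))
  obtain ⟨h', hh'def⟩ : ∃ h', h' = e * (t * c * t⁻¹) := ⟨_, rfl⟩
  have hh' : h' ∈ hull S Q := hh'def ▸ (hull S Q).mul_mem he (conj_mem_hull (hTN t ht) hc)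
  have hGt' : G t = v * h' * t := by rw [hGt, hh'def]; group
  -- iterate
  have hN : ∀ n : ℕ, ∃ u ∈ (hull S Q ⊔ T) ⊓ V,
      (((β ^ n) ⟨t, htW⟩ : ↥(hull S Q ⊔ T)) : Ω) = u * h' ^ n * t := by
    intro n
    induction n with
    | zero => exact ⟨1, one_mem _, by simp⟩
    | succ n ih =>
      obtain ⟨u, hu, hn⟩ := ih
      have hhn : h' ^ n ∈ hull S Q := Subgroup.pow_mem _ hh' n
      have hhnW : h' ^ n ∈ hull S Q ⊔ T := Subgroup.mem_sup_left hhn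
      obtain ⟨r, hr, hGr⟩ : ∃ r ∈ Q, G (h' ^ n) = h' ^ n * r :=
        ⟨_, hαm ⟨_, hhn⟩, (hGα _ hhn).trans (mul_inv_cancel_left _ _).symm⟩
      have hGu : G u ∈ (hull S Q ⊔ T) ⊓ V := by
        refine ⟨hG.map_mem hu.1, ?_⟩
        obtain ⟨ψ, hψ, -, hψv⟩ := id hG
        rw [← hψv ⟨u, hu.1⟩]
        exact H93.StronglyClosed.apply_mem hV hψ _ hu.2
      have hrv : r * v ∈ V := V.mul_mem (hQc.1 hr) hv
      refine ⟨G u * (h' ^ n * (r * v) * (h' ^ n)⁻¹), Subgroup.mul_mem _ hGu ⟨?_, ?_⟩, ?_⟩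
      · exact Subgroup.mul_mem _ (Subgroup.mul_mem _ hhnW (Subgroup.mul_mem _
          (Subgroup.mem_sup_left (le_hull S Q hr)) hvW)) (Subgroup.inv_mem _ hhnW)
      · exact H93.StronglyClosed.conj_mem hV (hHS hhn) hrv
      · rw [pow_succ' β, MulAut.mul_apply, ← hGe, hn, hG.map_mul (Subgroup.mul_mem _ hu.1 hhnW) htW,
          hG.map_mul hu.1 hhnW, hGr, hGt', pow_succ h']
        group
  obtain ⟨u, hu, hn⟩ := hN (orderOf β)
  rw [pow_orderOf_eq_one] at hn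
  have h1 : h' ^ orderOf β ∈ V := by
    have h2 : u * h' ^ orderOf β = 1 := mul_eq_right.1 hn.symm
    rw [eq_inv_of_mul_eq_one_right h2]
    exact V.inv_mem hu.2
  have hcop : ∀ x ∈ S, ∃ s : ℕ, (x ^ orderOf β) ^ s = x := fun x hx => by
    obtain ⟨k, hk⟩ := hS ⟨x, hx⟩
    exact exists_pow_eq_self_of_coprime (Nat.Coprime.coprime_dvd_right
      (orderOf_dvd_of_pow_eq_one (show x ^ p ^ k = 1 from congrArg Subtype.val hk))
      (Nat.Coprime.pow_right k (hβdef ▸ hm₁)))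
  have hh'V : h' ∈ V := by
    obtain ⟨s, hs⟩ := hcop h' (hHS hh')
    rw [← hs]
    exact Subgroup.pow_mem _ h1 s
  obtain ⟨z, hzdef⟩ : ∃ z, z = v * h' := ⟨_, rfl⟩
  have hz : z ∈ V ⊓ T := by
    refine ⟨hzdef ▸ V.mul_mem hv hh'V, ?_⟩
    have h2 : z = G t * t⁻¹ := by rw [hzdef, hGt', mul_inv_cancel_right]
    rw [h2]
    exact T.mul_mem (hTm G _ hG t ht) (T.inv_mem ht)
  rw [← hzdef] at hGt'
  have hzW : z ∈ hull S Q ⊔ T := Subgroup.mem_sup_right hz.2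
  have hit : ∀ n : ℕ, (((β ^ n) ⟨t, htW⟩ : ↥(hull S Q ⊔ T)) : Ω) = z ^ n * t := by
    intro n
    induction n with
    | zero => simp
    | succ n ih =>
      have hGz : G (z ^ n) = z ^ n :=
        (hGQ ⟨_, hZQ (Subgroup.pow_mem _ hz n)⟩).trans
          (congrArg Subtype.val (fixes hMZ hQc.1 ha (Subgroup.pow_mem _ hz n)))
      rw [pow_succ' β, MulAut.mul_apply, ← hGe, ih, hG.map_mul (Subgroup.pow_mem _ hzW n) htW, hGz, hGt',
        pow_succ z, mul_assoc]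
  have h2 := hit (orderOf β)
  rw [pow_orderOf_eq_one] at h2
  have h3 : z ^ orderOf β = 1 := mul_eq_right.1 h2.symm
  obtain ⟨s, hs⟩ := hcop z (hVS hz.1)
  rw [h3, one_pow] at hs
  rw [hGt', ← hs, one_mul]

/-- The displacements at a fully normalized centric subgroup. -/
theorem disp_mem (hS : IsPGroup p S) (hF : F.IsSaturated p) (hM : M.IsNormalIn F p) (hD : D.IsNormalIn F p)
    (hMZ : ∀ P, M.Hom P ⊆ F.centralizerHom (V ⊓ T) P) (hYT : Y ≤ centralizerIn S T)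
    (hmax : ∀ Y', Y' ≤ centralizerIn S T → (∀ P, D.Hom P ⊆ F.centralizerHom Y' P) → Y' ≤ Y)
    {Q : Subgroup Ω} (hQc : TCentric F V Q) (hQn : F.IsFullyNormalized Q) {a : MulAut Q}
    (ha : a ∈ M.autGroup Q) (hp : (orderOf a).Coprime p) (x : Q) : (x : Ω)⁻¹ * ((a x : Q) : Ω) ∈ Y := by
  have hT : F.StronglyClosed T := hD.1.2.2.2.1
  have hVS : V ≤ S := hM.1.2.2.2.1.1
  obtain ⟨G, hG, hGQ, hGT⟩ := exists_fix hS hF hM hT hMZ hQc hQn ha hp
  have hsub : Q ⊔ T ≤ hull S Q ⊔ T := sup_le_sup_right (le_hull S Q) T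
  have hfoc := S5293.result p hS F hF D hD _ rfl (H93.centralizerSystem F T hT.1) fun _ => rfl
  have hfY : ∀ z : Q, (z : Ω) ∈ centralizerIn S T → (z : Ω)⁻¹ * ((a z : Q) : Ω) ∈ Y := by
    intro z hz
    obtain ⟨Q₀, hQ₀def⟩ : ∃ Q₀, Q₀ = Q ⊓ centralizerIn S T := ⟨_, rfl⟩
    have hQ₀Q : Q₀ ≤ Q := hQ₀def ▸ inf_le_left
    have hQ₀C : Q₀ ≤ centralizerIn S T := hQ₀def ▸ inf_le_right
    have hle : Q₀ ⊔ T ≤ hull S Q ⊔ T := (sup_le_sup_right hQ₀Q T).trans hsub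
    obtain ⟨R, -, hR⟩ := hG.restrict hle
    obtain ⟨ψ, hψ, -, hψv⟩ := hR
    have hval : ∀ w : Q₀, ψ (Subgroup.inclusion le_sup_left w) ∈ centralizerIn S T := by
      intro w
      rw [hψv]
      refine H93.mem_centralizerIn.2 ⟨hG.le_right (hG.map_mem (hle (Subgroup.mem_sup_left w.2))), fun t ht => ?_⟩
      show G w * t * (G w)⁻¹ = t
      conv_lhs => rw [← hGT t ht]
      rw [← hG.map_conj (hle (Subgroup.mem_sup_left w.2)) (Subgroup.mem_sup_right ht),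
        (H93.mem_centralizerIn.1 (hQ₀C w.2)).2 t ht, hGT t ht]
    refine (hfoc.trans (sSup_le fun X hX => hmax X hX.1 hX.2)) (Subgroup.subset_closure
      ⟨Q₀, ψ.comp (Subgroup.inclusion le_sup_left), ⟨z, hQ₀def ▸ ⟨z.2, hz⟩⟩,
        ⟨H96.res_mem F hψ le_sup_left, hQ₀C, hval, ψ, hψ, fun _ => rfl, fun u => (hψv _).trans (hGT u u.2)⟩, ?_⟩)
    show _ = (z : Ω)⁻¹ * ψ _
    rw [hψv]
    exact congrArg _ (hGQ z).symm
  obtain ⟨y, hydef⟩ : ∃ y, y = x⁻¹ * a x := ⟨_, rfl⟩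
  have hyC : (y : Ω) ∈ centralizerIn S T := by
    refine H93.mem_centralizerIn.2 ⟨hVS (hQc.1 y.2), fun t ht => ?_⟩
    have hxW : (x : Ω) ∈ hull S Q ⊔ T := Subgroup.mem_sup_left (le_hull S Q x.2)
    have htW : t ∈ hull S Q ⊔ T := Subgroup.mem_sup_right ht
    obtain ⟨z, hzdef⟩ : ∃ z, z = (x : Ω) * t * (x : Ω)⁻¹ * t⁻¹ := ⟨_, rfl⟩
    have hz : z ∈ V ⊓ T := by
      refine hzdef ▸ ⟨?_, T.mul_mem (H93.StronglyClosed.conj_mem hT (hVS (hQc.1 x.2)) ht) (T.inv_mem ht)⟩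
      have h1 := H93.StronglyClosed.conj_mem hM.1.2.2.2.1 (hT.1 ht) (V.inv_mem (hQc.1 x.2))
      have h2 := V.mul_mem (hQc.1 x.2) h1
      simpa [mul_assoc] using h2
    have hzW : z ∈ hull S Q ⊔ T := Subgroup.mem_sup_right hz.2
    have hxt : (x : Ω) * t * (x : Ω)⁻¹ = z * t := by rw [hzdef]; group
    have h1 := hG.map_conj hxW htW
    have hzQ := inf_le_of_tCentric hM hMZ hQc hz
    rw [hxt, hG.map_mul hzW htW, hGT t ht, hGQ x, show G z = z from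
      (hGQ ⟨z, hzQ⟩).trans (congrArg Subtype.val (fixes hMZ hQc.1 ha hz)), ← hxt] at h1
    rw [hydef, Subgroup.coe_mul, Subgroup.coe_inv]
    calc (x : Ω)⁻¹ * ((a x : Q) : Ω) * t * ((x : Ω)⁻¹ * ((a x : Q) : Ω))⁻¹
        = (x : Ω)⁻¹ * (((a x : Q) : Ω) * t * ((a x : Q) : Ω)⁻¹) * x := by group
      _ = t := by rw [← h1]; group
  have hit : ∀ n : ℕ, ∃ r ∈ Y, (((a ^ n) x : Q) : Ω) = x * (y : Ω) ^ n * r := by
    intro n
    induction n with
    | zero => exact ⟨1, one_mem _, by simp⟩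
    | succ n ih =>
      obtain ⟨r, hr, hn⟩ := ih
      obtain ⟨q, hq⟩ : ∃ q, q = x⁻¹ * (a ^ n) x := ⟨_, rfl⟩
      have hqv : (q : Ω) = (y : Ω) ^ n * r := by
        rw [hq, Subgroup.coe_mul, Subgroup.coe_inv, hn]
        group
      have hqC : (q : Ω) ∈ centralizerIn S T := hqv ▸ Subgroup.mul_mem _ (Subgroup.pow_mem _ hyC n) (hYT hr)
      refine ⟨r * ((q : Ω)⁻¹ * ((a q : Q) : Ω)), Y.mul_mem hr (hfY q hqC), ?_⟩
      rw [pow_succ' a, MulAut.mul_apply, show (a ^ n) x = x * q by rw [hq, mul_inv_cancel_left], map_mul,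
        show a x = x * y by rw [hydef, mul_inv_cancel_left], Subgroup.coe_mul, Subgroup.coe_mul, pow_succ' (y : Ω)]
      have h7 : ((a q : Q) : Ω) = q * ((q : Ω)⁻¹ * ((a q : Q) : Ω)) := (mul_inv_cancel_left _ _).symm
      conv_lhs => rw [h7]
      rw [hqv]
      group
  obtain ⟨r, hr, hm⟩ := hit (orderOf a)
  rw [pow_orderOf_eq_one] at hm
  have h1 : (y : Ω) ^ orderOf a ∈ Y := by
    have h2 : (y : Ω) ^ orderOf a * r = 1 := by
      apply mul_left_cancel (a := (x : Ω))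
      rw [mul_one, ← mul_assoc]
      exact hm.symm
    rw [eq_inv_of_mul_eq_one_left h2]
    exact Y.inv_mem hr
  obtain ⟨k, hk⟩ := hS ⟨(y : Ω), hVS (hQc.1 y.2)⟩
  obtain ⟨s, hs⟩ : ∃ s : ℕ, ((y : Ω) ^ orderOf a) ^ s = y := exists_pow_eq_self_of_coprime
    (Nat.Coprime.coprime_dvd_right
      (orderOf_dvd_of_pow_eq_one (show (y : Ω) ^ p ^ k = 1 from congrArg Subtype.val hk))
      (Nat.Coprime.pow_right k hp))
  have h3 := Subgroup.pow_mem _ h1 s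
  rw [hs, hydef] at h3
  exact h3

/-- The key lemma of the component dichotomy: a normal subsystem centralizing its intersection with another normal
subsystem has hyperfocal subgroup centralizing that subsystem. -/
theorem hyperfocal_le_of_centralized (hS : IsPGroup p S) (hF : F.IsSaturated p) (hM : M.IsNormalIn F p)
    (hD : D.IsNormalIn F p) (hMZ : ∀ P, M.Hom P ⊆ F.centralizerHom (V ⊓ T) P)
    (hYT : Y ≤ centralizerIn S T) (_hYD : ∀ P, D.Hom P ⊆ F.centralizerHom Y P)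
    (hmax : ∀ Y', Y' ≤ centralizerIn S T → (∀ P, D.Hom P ⊆ F.centralizerHom Y' P) → Y' ≤ Y)
    (hYc : F.StronglyClosed Y) : M.hyperfocalSubgroup p ≤ Y := by
  have hVS : V ≤ S := hM.1.2.2.2.1.1
  have := H96.finite_of_le hVS
  have hVp := hS.to_le hVS
  have hMF : ∀ {A B : Subgroup Ω} {f : Ω → Ω}, Mor M A B f → Mor F A B f := fun h => mor_sub hM.1.2.2.1 h
  have key : ∀ P, P ≤ V → ∀ a : MulAut P, a ∈ M.autGroup P → (orderOf a).Coprime p →
      ∀ x : P, (x : Ω)⁻¹ * ((a x : P) : Ω) ∈ Y := by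
    intro P hP a ha hp
    obtain ⟨P₁, ⟨ψ₁, hψ₁, hr₁⟩, hP₁⟩ := H93.exists_isFullyNormalized M hP
    obtain ⟨f, hf, -⟩ := H93.exists_mor hψ₁ hr₁
    obtain ⟨fi, hfi, hfi1, -⟩ := hf.exists_inv
    obtain ⟨fa, hfa, hfae⟩ := H93.exists_mor_of_aut hP ha
    obtain ⟨a₁, ha₁⟩ := exists_conjAut (hMF hf) a
    refine disp_of_conj hYc (hMF hf) ha₁ ?_
    have hp₁ := coprime_conjAut (hMF hf) ha₁ hp
    have hP₁c := H93.IsFullyNormalized.isFullyCentralized hVp hM.1.1 hP₁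
    have hc₁ : Mor M P₁ P₁ (fun y => f (fa (fi y))) := hf.comp (hfa.comp hfi)
    have hc₁e : ∀ y : P₁, f (fa (fi y)) = ((a₁ y : P₁) : Ω) := by
      intro y
      obtain ⟨x, hx, hxy⟩ := hf.surj y.2
      rw [show y = ⟨f x, hf.map_mem hx⟩ from Subtype.ext hxy.symm]
      show f (fa (fi (f x))) = _
      rw [hfi1 x hx, show fa x = _ from hfae ⟨x, hx⟩]
      exact ha₁ ⟨x, hx⟩
    obtain ⟨g, hge, W, -, hg, hgW⟩ := exists_hull_map hVp hM.1.1 hc₁ hP₁c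
    obtain rfl := hgW hP₁c
    obtain ⟨A, hA⟩ : ∃ A, A = hull V P₁ := ⟨_, rfl⟩
    rw [← hA] at hg
    have hP₁A : P₁ ≤ A := hA ▸ le_hull V P₁
    have hAV : A ≤ V := hA ▸ hull_le hP₁.1
    have := H96.finite_of_le hAV
    obtain ⟨b, hb, hbe⟩ := hg.exists_aut
    have hbP : ∀ x : P₁, b (Subgroup.inclusion hP₁A x) = Subgroup.inclusion hP₁A (a₁ x) := fun x =>
      Subtype.ext ((hbe _).trans ((hge x x.2).trans (hc₁e x)))
    have : Finite (MulAut A) := Finite.of_injective (fun e : MulAut A => (e : _ → _)) DFunLike.coe_injective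
    obtain ⟨m, hm, hbm⟩ := exists_coprime_pow (p := p) _ hbP hp₁
    suffices h : ∀ x : A, (x : Ω)⁻¹ * (((b ^ m) x : A) : Ω) ∈ Y by
      intro x
      have := h (Subgroup.inclusion hP₁A x)
      rwa [hbm] at this
    have hAc : TCentric F V A := by
      refine ⟨hAV, fun R hR => ?_⟩
      obtain ⟨φ, hφ, rfl⟩ := hR
      obtain ⟨β, hβ, φ₀, hφ₀, he⟩ := hM.1.2.2.2.2.2 A hAV φ hφ
      obtain ⟨fb, hfb, hfbe⟩ := H93.exists_mor_of_aut hVS hβ
      have hAM : M.IsCentric A := hA ▸ hull_isCentric (S := V) hP₁c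
      have hcen := hAM.2 φ₀.range ⟨φ₀, hφ₀, rfl⟩
      intro y hy
      obtain ⟨w, hw, rfl⟩ := hfb.surj hy.1
      have hwc : w ∈ centralizerIn V φ₀.range := by
        refine H93.mem_centralizerIn.2 ⟨hw, fun q hq => ?_⟩
        obtain ⟨x, rfl⟩ := hq
        have hxV := (M.le_of_mem hφ₀).2 x
        refine hfb.injOn (V.mul_mem (V.mul_mem hw hxV) (V.inv_mem hw)) hxV ?_
        rw [hfb.map_conj hw hxV, show fb (φ₀ x) = _ from hfbe ⟨_, hxV⟩, ← he x hxV]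
        exact (H93.mem_centralizerIn.1 hy).2 _ ⟨x, rfl⟩
      obtain ⟨x, hxw⟩ := hcen hwc
      refine ⟨x, ?_⟩
      rw [he x ((M.le_of_mem hφ₀).2 x), ← hfbe]
      exact congrArg fb hxw
    obtain ⟨Q, ⟨ψ₂, hψ₂, hr₂⟩, hQ⟩ := H93.exists_isFullyNormalized F (hAV.trans hVS)
    obtain ⟨k, hk, -⟩ := H93.exists_mor hψ₂ hr₂
    obtain ⟨c, hc⟩ := exists_conjAut hk (b ^ m)
    have hQc := hAc.of_mor hM.1.2.2.2.1 hk
    have hcM : c ∈ M.autGroup Q := (actsIn_iff hQc.1).1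
      (actsIn_conj hM.1.2.2 hAV hk ((actsIn_iff hAV).2 (pow_mem hb m)) hc)
    exact disp_of_conj hYc hk hc
      (disp_mem hS hF hM hD hMZ hYT hmax hQc hQ hcM (coprime_conjAut hk hc hm))
  refine (Subgroup.closure_le _).2 ?_
  rintro _ ⟨P, α, x, hP, hα, rfl⟩
  suffices h : ∀ α ∈ pResidual p (M.autGroup P), ∀ x : P, (x : Ω)⁻¹ * (((α : MulAut P) x : P) : Ω) ∈ Y from
    h α hα x
  intro α hα
  induction hα using Subgroup.closure_induction with
  | mem a ha => exact key P hP a a.2 (by rw [Subgroup.orderOf_coe]; exact ha)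
  | one => intro x; simp
  | mul a b _ _ iha ihb =>
    intro x
    have h := Y.mul_mem (ihb x) (iha ((b : MulAut P) x))
    rw [mul_assoc, mul_inv_cancel_left] at h
    exact h
  | inv a _ ih =>
    intro x
    have h := Y.inv_mem (ih ((a : MulAut P)⁻¹ x))
    rw [mul_inv_rev, inv_inv, MulAut.apply_inv_self] at h
    exact h

end Cfsg.Agent.H24.CompCenter
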