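import Cfsg.Agent.H24.Extraspecial

/-!
Isomorphisms between extraspecial groups: glueing central products, the two classification
theorems by order.
-/

namespace Cfsg.Agent.H24

open Subgroup
open scoped commutatorElement

universe u v w

variable {G₁ : Type u} [Group G₁] {G₂ : Type v} [Group G₂]

/-- Glue isomorphisms on two commuting subgroups generating the whole group. -/
theorem exists_glue_iso [Finite G₁] [Finite G₂] {A₁ B₁ : Subgroup G₁} {A₂ B₂ : Subgroup G₂}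
    (h₁ : A₁ ≤ centralizer (B₁ : Set G₁)) (h₂ : A₂ ≤ centralizer (B₂ : Set G₂))
    (t₁ : A₁ ⊔ B₁ = ⊤) (t₂ : A₂ ⊔ B₂ = ⊤) (hcard : Nat.card G₁ = Nat.card G₂)
    (fA : A₁ ≃* A₂) (fB : B₁ ≃* B₂)
    (hag : ∀ (x : G₁) (ha : x ∈ A₁) (hb : x ∈ B₁), (fA ⟨x, ha⟩ : G₂) = fB ⟨x, hb⟩) :
    ∃ e : G₁ ≃* G₂, (∀ a : A₁, e a = fA a) ∧ ∀ b : B₁, e b = fB b := by
  let φ₁ : A₁ × B₁ →* G₁ :=
    A₁.subtype.noncommCoprod B₁.subtype fun m n => (h₁ m.2 n n.2).symm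
  let φ₂ : A₁ × B₁ →* G₂ :=
    (A₂.subtype.comp fA.toMonoidHom).noncommCoprod (B₂.subtype.comp fB.toMonoidHom)
      fun m n => (h₂ (fA m).2 (fB n) (fB n).2).symm
  have hv₁ : ∀ q : A₁ × B₁, φ₁ q = (q.1 : G₁) * q.2 := fun q => rfl
  have hv₂ : ∀ q : A₁ × B₁, φ₂ q = (fA q.1 : G₂) * fB q.2 := fun q => rfl
  have hs₁ : Function.Surjective φ₁ := by
    rw [← MonoidHom.range_eq_top, eq_top_iff, ← t₁]
    exact sup_le (fun a ha => ⟨(⟨a, ha⟩, 1), by simp [hv₁]⟩)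
      (fun b hb => ⟨(1, ⟨b, hb⟩), by simp [hv₁]⟩)
  have hs₂ : Function.Surjective φ₂ := by
    rw [← MonoidHom.range_eq_top, eq_top_iff, ← t₂]
    exact sup_le (fun a ha => ⟨(fA.symm ⟨a, ha⟩, 1), by simp [hv₂]⟩)
      (fun b hb => ⟨(1, fB.symm ⟨b, hb⟩), by simp [hv₂]⟩)
  have hker : φ₁.ker ≤ φ₂.ker := by
    rintro ⟨a, b⟩ hq
    rw [MonoidHom.mem_ker, hv₁] at hq
    have haB : (a : G₁) ∈ B₁ := by
      rw [mul_eq_one_iff_eq_inv.mp hq]
      exact inv_mem b.2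
    rw [MonoidHom.mem_ker, hv₂]
    change (fA a : G₂) * (fB b : G₂) = 1
    rw [show (fA a : G₂) = fB ⟨a, haB⟩ from hag a a.2 haB, ← Subgroup.coe_mul, ← map_mul,
      show (⟨(a : G₁), haB⟩ : B₁) * b = 1 from Subtype.ext hq, map_one, Subgroup.coe_one]
  let ψ : G₁ →* G₂ := φ₁.liftOfSurjective hs₁ ⟨φ₂, hker⟩
  have hψ : ∀ q, ψ (φ₁ q) = φ₂ q := fun q =>
    MonoidHom.liftOfRightInverse_comp_apply _ _ _ ⟨φ₂, hker⟩ q
  have hs : Function.Surjective ψ := fun y => by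
    obtain ⟨q, rfl⟩ := hs₂ y
    exact ⟨φ₁ q, hψ q⟩
  refine ⟨MulEquiv.ofBijective ψ ((Nat.bijective_iff_surjective_and_card ψ).mpr ⟨hs, hcard⟩),
    fun a => ?_, fun b => ?_⟩
  · have := hψ (a, 1)
    simpa [hv₁, hv₂] using this
  · have := hψ (1, b)
    simpa [hv₁, hv₂] using this

/-- Two subgroups generated by two elements with matching relations are isomorphic. -/
theorem exists_pair_iso [Finite G₁] [Finite G₂] {p : ℕ} [Fact p.Prime] {a₁ b₁ : G₁} {a₂ b₂ : G₂}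
    (hc₁ : ⁅a₁, b₁⁆ ∈ center G₁) (hc₂ : ⁅a₂, b₂⁆ ∈ center G₂)
    (hp₁ : ⁅a₁, b₁⁆ ^ p = 1) (hp₂ : ⁅a₂, b₂⁆ ^ p = 1)
    (hA₁ : Nat.card (closure ({a₁, b₁} : Set G₁)) = p ^ 3)
    (hA₂ : Nat.card (closure ({a₂, b₂} : Set G₂)) = p ^ 3)
    (i j : ℕ) (ha₁ : a₁ ^ p = ⁅a₁, b₁⁆ ^ i) (ha₂ : a₂ ^ p = ⁅a₂, b₂⁆ ^ i)
    (hb₁ : b₁ ^ p = ⁅a₁, b₁⁆ ^ j) (hb₂ : b₂ ^ p = ⁅a₂, b₂⁆ ^ j) :
    ∃ f : closure ({a₁, b₁} : Set G₁) ≃* closure ({a₂, b₂} : Set G₂),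
      ∀ (x : G₁) (hx : x ∈ closure ({a₁, b₁} : Set G₁)), x = ⁅a₁, b₁⁆ →
        (f ⟨x, hx⟩ : G₂) = ⁅a₂, b₂⁆ := by
  set S : Set (G₁ × G₂) := {(a₁, a₂), (b₁, b₂)}
  set D := closure S
  have hC : ⁅((a₁, a₂) : G₁ × G₂), (b₁, b₂)⁆ = (⁅a₁, b₁⁆, ⁅a₂, b₂⁆) := rfl
  have hD : Nat.card D ≤ p ^ 3 := by
    refine card_closure_pair_le ?_ ?_ ?_ ?_
    · rw [hC]
      exact mem_center_iff.mpr fun g => Prod.ext (center_comm hc₁ g.1) (center_comm hc₂ g.2)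
    · rw [hC]; exact Prod.ext hp₁ hp₂
    · exact mem_zpowers_iff.mpr ⟨i, by rw [hC, zpow_natCast]; exact Prod.ext ha₁.symm ha₂.symm⟩
    · exact mem_zpowers_iff.mpr ⟨j, by rw [hC, zpow_natCast]; exact Prod.ext hb₁.symm hb₂.symm⟩
  have m₁ : D.map (MonoidHom.fst G₁ G₂) = closure ({a₁, b₁} : Set G₁) := by
    rw [MonoidHom.map_closure, Set.image_insert_eq, Set.image_singleton]; rfl
  have m₂ : D.map (MonoidHom.snd G₁ G₂) = closure ({a₂, b₂} : Set G₂) := by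
    rw [MonoidHom.map_closure, Set.image_insert_eq, Set.image_singleton]; rfl
  let π₁ : D →* closure ({a₁, b₁} : Set G₁) :=
    ((MonoidHom.fst G₁ G₂).comp D.subtype).codRestrict _ fun d => m₁ ▸ mem_map_of_mem _ d.2
  let π₂ : D →* closure ({a₂, b₂} : Set G₂) :=
    ((MonoidHom.snd G₁ G₂).comp D.subtype).codRestrict _ fun d => m₂ ▸ mem_map_of_mem _ d.2
  have s₁ : Function.Surjective π₁ := by
    rintro ⟨x, hx⟩
    obtain ⟨d, hd, hdx⟩ := (m₁.symm ▸ hx : x ∈ D.map (MonoidHom.fst G₁ G₂))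
    exact ⟨⟨d, hd⟩, Subtype.ext hdx⟩
  have s₂ : Function.Surjective π₂ := by
    rintro ⟨x, hx⟩
    obtain ⟨d, hd, hdx⟩ := (m₂.symm ▸ hx : x ∈ D.map (MonoidHom.snd G₁ G₂))
    exact ⟨⟨d, hd⟩, Subtype.ext hdx⟩
  have b₁' : Function.Bijective π₁ := s₁.bijective_of_nat_card_le (hA₁ ▸ hD)
  have b₂' : Function.Bijective π₂ := s₂.bijective_of_nat_card_le (hA₂ ▸ hD)
  refine ⟨(MulEquiv.ofBijective π₁ b₁').symm.trans (MulEquiv.ofBijective π₂ b₂'), fun x hx hxc => ?_⟩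
  subst hxc
  set d : D := ⁅(⟨(a₁, a₂), subset_closure (Set.mem_insert _ _)⟩ : D),
    ⟨(b₁, b₂), subset_closure (Set.mem_insert_of_mem _ rfl)⟩⁆
  have hd : (MulEquiv.ofBijective π₁ b₁').symm ⟨_, hx⟩ = d :=
    (MulEquiv.symm_apply_eq _).mpr (Subtype.ext rfl)
  rw [MulEquiv.trans_apply, hd]
  rfl

/-- One step of the classification: split off matching subgroups of order `p³`. -/
theorem extend_iso [Finite G₁] [Finite G₂] {p : ℕ} [hp : Fact p.Prime]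
    (h₁ : Cfsg.IsExtraspecial p G₁) (h₂ : Cfsg.IsExtraspecial p G₂)
    (hcard : Nat.card G₁ = Nat.card G₂) {a₁ b₁ : G₁} {a₂ b₂ : G₂}
    (hn₁ : ⁅a₁, b₁⁆ ≠ 1) (hn₂ : ⁅a₂, b₂⁆ ≠ 1) (i j : ℕ)
    (ha₁ : a₁ ^ p = ⁅a₁, b₁⁆ ^ i) (ha₂ : a₂ ^ p = ⁅a₂, b₂⁆ ^ i)
    (hb₁ : b₁ ^ p = ⁅a₁, b₁⁆ ^ j) (hb₂ : b₂ ^ p = ⁅a₂, b₂⁆ ^ j)
    (hrec : closure ({a₁, b₁} : Set G₁) ≠ ⊤ →
      ∃ f : centralizer (closure ({a₁, b₁} : Set G₁) : Set G₁) ≃*
          centralizer (closure ({a₂, b₂} : Set G₂) : Set G₂),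
        ∀ (x : G₁) (hx : x ∈ centralizer (closure ({a₁, b₁} : Set G₁) : Set G₁)),
          x = ⁅a₁, b₁⁆ → (f ⟨x, hx⟩ : G₂) = ⁅a₂, b₂⁆) :
    ∃ e : G₁ ≃* G₂, e ⁅a₁, b₁⁆ = ⁅a₂, b₂⁆ := by
  obtain ⟨hZ₁, hA₁, hsup₁, hinf₁, -, -⟩ := espec_split h₁ hn₁
  obtain ⟨hZ₂, hA₂, hsup₂, hinf₂, -, -⟩ := espec_split h₂ hn₂
  set A₁ := closure ({a₁, b₁} : Set G₁)
  set A₂ := closure ({a₂, b₂} : Set G₂)
  obtain ⟨fA, hfA⟩ := exists_pair_iso (espec_comm_mem h₁ a₁ b₁) (espec_comm_mem h₂ a₂ b₂)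
    (espec_comm_pow h₁ a₁ b₁) (espec_comm_pow h₂ a₂ b₂) hA₁ hA₂ i j ha₁ ha₂ hb₁ hb₂
  have hcm : ⁅a₁, b₁⁆ ∈ A₁ := hZ₁ (espec_comm_mem h₁ a₁ b₁)
  by_cases htop : A₁ = ⊤
  · have htop₂ : A₂ = ⊤ := Subgroup.eq_top_of_le_card _ (by
      rw [← hcard, hA₂, ← hA₁, htop, card_top])
    refine ⟨((Subgroup.topEquiv.symm.trans (MulEquiv.subgroupCongr htop.symm)).trans fA).trans
      ((MulEquiv.subgroupCongr htop₂).trans Subgroup.topEquiv), ?_⟩
    exact hfA _ hcm rfl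
  obtain ⟨fB, hfB⟩ := hrec htop
  obtain ⟨e, heA, -⟩ := exists_glue_iso (le_centralizer_iff.mp le_rfl) (le_centralizer_iff.mp le_rfl)
    hsup₁ hsup₂ hcard fA fB (fun x hxA hxB => by
      have hxZ : x ∈ zpowers ⁅a₁, b₁⁆ := by
        rw [zpowers_eq_of_card_prime h₁.2 (espec_comm_mem h₁ a₁ b₁) hn₁, ← hinf₁]
        exact ⟨hxA, hxB⟩
      obtain ⟨k, hk⟩ := mem_zpowers_iff.mp hxZ
      have hcB := center_le_centralizer (A₁ : Set G₁) (espec_comm_mem h₁ a₁ b₁)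
      rw [show (⟨x, hxA⟩ : A₁) = ⟨_, hcm⟩ ^ k from Subtype.ext (by simp [hk]),
        show (⟨x, hxB⟩ : centralizer (A₁ : Set G₁)) = ⟨_, hcB⟩ ^ k from Subtype.ext (by simp [hk]),
        map_zpow, map_zpow, SubgroupClass.coe_zpow, SubgroupClass.coe_zpow, hfA _ hcm rfl,
        hfB _ hcB rfl])
  exact ⟨e, (heA ⟨_, hcm⟩).trans (hfA _ hcm rfl)⟩

/-- For odd `p`, extraspecial groups of exponent `p` and equal order are isomorphic, with any
prescribed non-trivial correspondence of centres. -/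
theorem extraspecial_exponent_iso : ∀ (G₁ : Type u) (G₂ : Type v) [Group G₁] [Group G₂]
    [Finite G₁] [Finite G₂] (p : ℕ) [Fact p.Prime], Cfsg.IsExtraspecial p G₁ →
    Cfsg.IsExtraspecial p G₂ → (∀ g : G₁, g ^ p = 1) → (∀ g : G₂, g ^ p = 1) →
    Nat.card G₁ = Nat.card G₂ →
    ∀ z₁ : G₁, z₁ ∈ center G₁ → z₁ ≠ 1 → ∀ z₂ : G₂, z₂ ∈ center G₂ → z₂ ≠ 1 →
    ∃ e : G₁ ≃* G₂, e z₁ = z₂ := by
  intro G₁
  induction hn : Nat.card G₁ using Nat.strong_induction_on generalizing G₁ with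
  | _ n ih =>
    intro G₂ _ _ _ _ p hpf h₁ h₂ he₁ he₂ hcard z₁ hz₁ hz₁' z₂ hz₂ hz₂'
    subst hn
    obtain ⟨a₁, -, ha₁⟩ := SetLike.exists_of_lt (lt_top_iff_ne_top.mpr (espec_center_ne_top h₁))
    obtain ⟨a₂, -, ha₂⟩ := SetLike.exists_of_lt (lt_top_iff_ne_top.mpr (espec_center_ne_top h₂))
    obtain ⟨b₁, hb₁⟩ := espec_exists_comm_eq h₁ ha₁ hz₁
    obtain ⟨b₂, hb₂⟩ := espec_exists_comm_eq h₂ ha₂ hz₂
    subst hb₁ hb₂
    refine extend_iso h₁ h₂ hcard hz₁' hz₂' 0 0 (by simp [he₁]) (by simp [he₂]) (by simp [he₁])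
      (by simp [he₂]) fun htop => ?_
    obtain ⟨-, hA₁, -, -, hc₁, hes₁⟩ := espec_split h₁ hz₁'
    obtain ⟨-, hA₂, -, -, hc₂, hes₂⟩ := espec_split h₂ hz₂'
    have hC : Nat.card (centralizer (closure ({a₁, b₁} : Set G₁) : Set G₁)) =
        Nat.card (centralizer (closure ({a₂, b₂} : Set G₂) : Set G₂)) :=
      Nat.eq_of_mul_eq_mul_left (pow_pos hpf.out.pos 2) (hc₁.trans (hcard.trans hc₂.symm))
    have hlt : Nat.card (centralizer (closure ({a₁, b₁} : Set G₁) : Set G₁)) < Nat.card G₁ := by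
      rw [← hc₁]
      exact lt_mul_of_one_lt_left Nat.card_pos (Nat.one_lt_pow two_ne_zero hpf.out.one_lt)
    have htop₂ : closure ({a₂, b₂} : Set G₂) ≠ ⊤ := fun h => htop
      (Subgroup.eq_top_of_le_card _ (by rw [hcard, hA₁, ← hA₂, h, card_top]))
    have hm₁ : ⁅a₁, b₁⁆ ∈ centralizer (closure ({a₁, b₁} : Set G₁) : Set G₁) :=
      center_le_centralizer _ hz₁
    have hm₂ : ⁅a₂, b₂⁆ ∈ centralizer (closure ({a₂, b₂} : Set G₂) : Set G₂) :=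
      center_le_centralizer _ hz₂
    obtain ⟨f, hf⟩ := ih _ hlt _ rfl _ p (hes₁ htop) (hes₂ htop₂)
      (fun g => Subtype.ext (he₁ g)) (fun g => Subtype.ext (he₂ g)) hC ⟨_, hm₁⟩
      (mem_center_iff.mpr fun w => Subtype.ext (center_comm hz₁ (w : G₁)))
      (fun h => hz₁' (congrArg Subtype.val h)) ⟨_, hm₂⟩
      (mem_center_iff.mpr fun w => Subtype.ext (center_comm hz₂ (w : G₂)))
      (fun h => hz₂' (congrArg Subtype.val h))
    refine ⟨f, fun x hx hxc => ?_⟩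
    subst hxc
    exact congrArg Subtype.val hf

/-- In an extraspecial `2`-group of order at least `32` there are involutions with commutator the
central involution. -/
theorem exists_dihedral_pair {G : Type*} [Group G] [Finite G] (h : Cfsg.IsExtraspecial 2 G)
    (hcard : 32 ≤ Nat.card G) : ∃ a b : G, ⁅a, b⁆ ≠ 1 ∧ a ^ 2 = 1 ∧ b ^ 2 = 1 := by
  obtain ⟨z, hz, hz1⟩ := espec_exists_center h
  have hsq : ∀ x : G, x ^ 2 ≠ 1 → x ^ 2 = z := by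
    intro x hx
    by_contra hne
    have hle := zpowers_eq_of_card_prime h.2 hz hz1
    have hmem : x ^ 2 ∈ zpowers z := hle ▸ espec_pow_mem h x
    obtain ⟨k, hk⟩ := mem_zpowers_iff.mp hmem
    have hz2 : z ^ 2 = 1 := pow_eq_one_of_card_eq h.2 hz
    rcases Int.even_or_odd k with ⟨m, rfl⟩ | ⟨m, rfl⟩
    · apply hx; rw [← hk, ← two_mul, zpow_mul, zpow_ofNat, hz2, one_zpow]
    · apply hne; rw [← hk, zpow_add, zpow_mul, zpow_ofNat, hz2, one_zpow, one_mul, zpow_one]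
  obtain ⟨a, haZ, ha2⟩ : ∃ a : G, a ∉ center G ∧ a ^ 2 = 1 := by
    by_contra hcon
    push Not at hcon
    obtain ⟨x, -, hx⟩ := SetLike.exists_of_lt (lt_top_iff_ne_top.mpr (espec_center_ne_top h))
    have hxz := hsq x (hcon x hx)
    set C := centralizer ({x} : Set G) with hC
    have hCi : C.index ≤ 2 := by
      have h1 := relIndex_le_card_of_commutator (⊤ : Subgroup G) x _
        fun g _ => espec_comm_mem h g x
      rw [top_inf_eq, relIndex_top_right] at h1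
      exact h1.trans h.2.le
    have h4 : Nat.card (zpowers x) ≤ 4 := by
      rw [Nat.card_zpowers]
      exact Nat.le_of_dvd (by norm_num) (orderOf_dvd_of_pow_eq_one (by
        rw [show (4 : ℕ) = 2 * 2 from rfl, pow_mul, hxz, pow_eq_one_of_card_eq h.2 hz]))
    obtain ⟨y, hyC, hy⟩ : ∃ y ∈ C, y ∉ zpowers x := by
      by_contra hall
      push Not at hall
      have h1 := card_mul_index C
      have h2 := Subgroup.card_le_of_le (hall : C ≤ zpowers x)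
      nlinarith
    have hyZ : y ∉ center G := fun hyZ => hy
      (zpowers_le.mpr (by rw [← hxz]; exact pow_mem (mem_zpowers x) 2)
        (zpowers_eq_of_card_prime h.2 hz hz1 ▸ hyZ))
    have hxyZ : x * y ∉ center G := fun hc => hy (by
      have : x * y ∈ zpowers x := zpowers_le.mpr (by rw [← hxz]; exact pow_mem (mem_zpowers x) 2)
        (zpowers_eq_of_card_prime h.2 hz hz1 ▸ hc)
      simpa using mul_mem (inv_mem (mem_zpowers x)) this)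
    refine hcon _ hxyZ ?_
    rw [(show Commute x y from (mem_centralizer_singleton_iff.mp hyC).symm).mul_pow, hxz,
      hsq y (hcon y hyZ), ← sq, pow_eq_one_of_card_eq h.2 hz]
  obtain ⟨b, hb⟩ := espec_exists_comm_eq h haZ hz
  by_cases hb2 : b ^ 2 = 1
  · exact ⟨a, b, hb ▸ hz1, ha2, hb2⟩
  have hba : ⁅b, a⁆ = z := by
    have hz2 : z ^ 2 = 1 := pow_eq_one_of_card_eq h.2 hz
    rw [← commutatorElement_inv, hb, inv_eq_iff_mul_eq_one, ← sq, hz2]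
  refine ⟨a, a * b, ?_, ha2, ?_⟩
  · rw [comm_mul_right (hb ▸ hz), commutatorElement_self, one_mul, hb]
    exact hz1
  · rw [mul_pow_of_class_two (hba ▸ hz), hba, ha2, hsq b hb2, Nat.choose_self, pow_one, one_mul,
      ← sq, pow_eq_one_of_card_eq h.2 hz]

/-- An extraspecial group of order eight is of dihedral or of quaternion kind. -/
theorem extraspecial_eight_cases {G : Type*} [Group G] [Finite G] (h : Cfsg.IsExtraspecial 2 G) :
    ∃ a b : G, ⁅a, b⁆ ≠ 1 ∧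
      ((a ^ 2 = 1 ∧ b ^ 2 = 1) ∨ (a ^ 2 = ⁅a, b⁆ ∧ b ^ 2 = ⁅a, b⁆)) := by
  obtain ⟨z, hz, hz1⟩ := espec_exists_center h
  have hz2 : z ^ 2 = 1 := pow_eq_one_of_card_eq h.2 hz
  have hsq : ∀ x : G, x ^ 2 = 1 ∨ x ^ 2 = z := by
    intro x
    have hmem : x ^ 2 ∈ zpowers z :=
      (zpowers_eq_of_card_prime h.2 hz hz1).symm ▸ espec_pow_mem h x
    obtain ⟨k, hk⟩ := mem_zpowers_iff.mp hmem
    rcases Int.even_or_odd k with ⟨m, rfl⟩ | ⟨m, rfl⟩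
    · left; rw [← hk, ← two_mul, zpow_mul, zpow_ofNat, hz2, one_zpow]
    · right; rw [← hk, zpow_add, zpow_mul, zpow_ofNat, hz2, one_zpow, one_mul, zpow_one]
  by_cases hex : ∃ a : G, a ∉ center G ∧ a ^ 2 = 1
  · obtain ⟨a, haZ, ha⟩ := hex
    obtain ⟨b, hb⟩ := espec_exists_comm_eq h haZ hz
    rcases hsq b with hb2 | hb2
    · exact ⟨a, b, hb ▸ hz1, .inl ⟨ha, hb2⟩⟩
    · have hba : ⁅b, a⁆ = z := by
        rw [← commutatorElement_inv, hb, inv_eq_iff_mul_eq_one, ← sq, hz2]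
      refine ⟨a, a * b, ?_, .inl ⟨ha, ?_⟩⟩
      · rw [comm_mul_right (hb ▸ hz), commutatorElement_self, one_mul, hb]
        exact hz1
      · rw [mul_pow_of_class_two (hba ▸ hz), hba, ha, hb2, Nat.choose_self, pow_one, one_mul,
          ← sq, hz2]
  · push Not at hex
    obtain ⟨a, -, haZ⟩ := SetLike.exists_of_lt (lt_top_iff_ne_top.mpr (espec_center_ne_top h))
    obtain ⟨b, hb⟩ := espec_exists_comm_eq h haZ hz
    have hbZ : b ∉ center G := fun hbZ => hz1 (by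
      rw [← hb, commutatorElement_eq_one_iff_mul_comm]; exact center_comm hbZ a)
    exact ⟨a, b, hb ▸ hz1, .inr ⟨(hsq a).resolve_left (hex a haZ) |>.trans hb.symm,
      (hsq b).resolve_left (hex b hbZ) |>.trans hb.symm⟩⟩

/-- Extraspecial groups of order eight of the same kind are isomorphic. -/
theorem iso_of_order_eight {A : Type u} {B : Type v} [Group A] [Group B] [Finite A] [Finite B]
    (hA : Cfsg.IsExtraspecial 2 A) (hB : Cfsg.IsExtraspecial 2 B)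
    (hAB : Nat.card A = Nat.card B) (h8 : Nat.card A = 2 ^ 3) {a b : A} {a' b' : B}
    (na : ⁅a, b⁆ ≠ 1) (nb : ⁅a', b'⁆ ≠ 1)
    (hc : (a ^ 2 = 1 ∧ b ^ 2 = 1) ∧ (a' ^ 2 = 1 ∧ b' ^ 2 = 1) ∨
      (a ^ 2 = ⁅a, b⁆ ∧ b ^ 2 = ⁅a, b⁆) ∧ (a' ^ 2 = ⁅a', b'⁆ ∧ b' ^ 2 = ⁅a', b'⁆)) :
    Nonempty (A ≃* B) := by
  have htop : closure ({a, b} : Set A) = ⊤ :=
    Subgroup.eq_top_of_le_card _ (by rw [(espec_split hA na).2.1, h8])
  rcases hc with ⟨⟨p1, p2⟩, p3, p4⟩ | ⟨⟨p1, p2⟩, p3, p4⟩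
  · obtain ⟨e, -⟩ := extend_iso hA hB hAB na nb 0 0 (by simp [p1]) (by simp [p3])
      (by simp [p2]) (by simp [p4]) (fun hne => absurd htop hne)
    exact ⟨e⟩
  · obtain ⟨e, -⟩ := extend_iso hA hB hAB na nb 1 1 (by simp [p1]) (by simp [p3])
      (by simp [p2]) (by simp [p4]) (fun hne => absurd htop hne)
    exact ⟨e⟩

/-- Extraspecial `2`-groups with a dihedral factor and isomorphic complements are isomorphic. -/
theorem iso_of_dihedral_split {A : Type u} {B : Type v} [Group A] [Group B] [Finite A] [Finite B]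
    (hA : Cfsg.IsExtraspecial 2 A) (hB : Cfsg.IsExtraspecial 2 B)
    (hAB : Nat.card A = Nat.card B) {a b : A} {a' b' : B}
    (na : ⁅a, b⁆ ≠ 1) (nb : ⁅a', b'⁆ ≠ 1)
    (p : a ^ 2 = 1) (q : b ^ 2 = 1) (p' : a' ^ 2 = 1) (q' : b' ^ 2 = 1)
    (hCC : Nonempty (centralizer (closure ({a, b} : Set A) : Set A) ≃*
      centralizer (closure ({a', b'} : Set B) : Set B))) : Nonempty (A ≃* B) := by
  obtain ⟨f⟩ := hCC
  refine (extend_iso hA hB hAB na nb 0 0 (by simp [p]) (by simp [p']) (by simp [q])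
    (by simp [q']) fun htop => ⟨f, fun x hx hxc => ?_⟩).elim fun e _ => ⟨e⟩
  have hmem : (f ⟨x, hx⟩ : B) ∈ center B := by
    have hxcen : (⟨x, hx⟩ : centralizer (closure ({a, b} : Set A) : Set A)) ∈ center _ :=
      mem_center_iff.mpr fun w => Subtype.ext
        (center_comm (hxc ▸ espec_comm_mem hA a b) (w : A))
    have hf : f ⟨x, hx⟩ ∈ center _ := by
      refine mem_center_iff.mpr fun w => ?_
      obtain ⟨v, rfl⟩ := f.surjective w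
      rw [← map_mul, ← map_mul, center_comm hxcen v]
    obtain ⟨-, -, hsup, -, -, -⟩ := espec_split hB nb
    refine mem_center_iff.mpr fun g => ?_
    have hle : closure ({a', b'} : Set B) ⊔ centralizer (closure ({a', b'} : Set B) : Set B)
        ≤ centralizer ({((f ⟨x, hx⟩ : _) : B)} : Set B) := sup_le
      (fun v hv => mem_centralizer_singleton_iff.mpr ((f ⟨x, hx⟩).2 v hv))
      (fun v hv => mem_centralizer_singleton_iff.mpr
        (congrArg Subtype.val (center_comm hf ⟨v, hv⟩)))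
    exact mem_centralizer_singleton_iff.mp (hle (hsup ▸ mem_top g))
  have hne1 : (f ⟨x, hx⟩ : B) ≠ 1 := by
    intro h1
    have h2 : (⟨x, hx⟩ : centralizer (closure ({a, b} : Set A) : Set A)) = 1 :=
      f.injective (by rw [map_one]; exact Subtype.ext h1)
    exact na (hxc ▸ congrArg Subtype.val h2)
  have hz := zpowers_eq_of_card_prime hB.2 (espec_comm_mem hB a' b') nb ▸ hmem
  obtain ⟨k, hk⟩ := mem_zpowers_iff.mp hz
  have hc2 : ⁅a', b'⁆ ^ 2 = 1 := espec_comm_pow hB a' b'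
  rcases Int.even_or_odd k with ⟨r, rfl⟩ | ⟨r, rfl⟩
  · exfalso; apply hne1; rw [← hk, ← two_mul, zpow_mul, zpow_ofNat, hc2, one_zpow]
  · rw [← hk, zpow_add, zpow_mul, zpow_ofNat, hc2, one_zpow, one_mul, zpow_one]

/-- Among three extraspecial `2`-groups of equal order two are isomorphic. -/
theorem extraspecial_two_pigeonhole : ∀ (G₁ : Type u) (G₂ : Type v) (G₃ : Type w) [Group G₁]
    [Group G₂] [Group G₃] [Finite G₁] [Finite G₂] [Finite G₃],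
    Cfsg.IsExtraspecial 2 G₁ → Cfsg.IsExtraspecial 2 G₂ → Cfsg.IsExtraspecial 2 G₃ →
    Nat.card G₁ = Nat.card G₂ → Nat.card G₂ = Nat.card G₃ →
    Nonempty (G₁ ≃* G₂) ∨ Nonempty (G₂ ≃* G₃) ∨ Nonempty (G₁ ≃* G₃) := by
  intro G₁
  induction hn : Nat.card G₁ using Nat.strong_induction_on generalizing G₁ with
  | _ n ih =>
    intro G₂ G₃ _ _ _ _ _ _ h₁ h₂ h₃ h12 h23
    subst hn
    obtain ⟨m, hm, hcard⟩ := espec_card h₁
    rcases Nat.lt_or_ge m 2 with hm2 | hm2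
    · have h8₁ : Nat.card G₁ = 2 ^ 3 := by rw [hcard, show m = 1 by omega]
      obtain ⟨a₁, b₁, n₁, c₁⟩ := extraspecial_eight_cases h₁
      obtain ⟨a₂, b₂, n₂, c₂⟩ := extraspecial_eight_cases h₂
      obtain ⟨a₃, b₃, n₃, c₃⟩ := extraspecial_eight_cases h₃
      rcases c₁ with d₁ | q₁ <;> rcases c₂ with d₂ | q₂
      · exact .inl (iso_of_order_eight h₁ h₂ h12 h8₁ n₁ n₂ (.inl ⟨d₁, d₂⟩))
      · rcases c₃ with d₃ | q₃
        · exact .inr (.inr (iso_of_order_eight h₁ h₃ (h12.trans h23) h8₁ n₁ n₃ (.inl ⟨d₁, d₃⟩)))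
        · exact .inr (.inl (iso_of_order_eight h₂ h₃ h23 (h12 ▸ h8₁) n₂ n₃ (.inr ⟨q₂, q₃⟩)))
      · rcases c₃ with d₃ | q₃
        · exact .inr (.inl (iso_of_order_eight h₂ h₃ h23 (h12 ▸ h8₁) n₂ n₃ (.inl ⟨d₂, d₃⟩)))
        · exact .inr (.inr (iso_of_order_eight h₁ h₃ (h12.trans h23) h8₁ n₁ n₃ (.inr ⟨q₁, q₃⟩)))
      · exact .inl (iso_of_order_eight h₁ h₂ h12 h8₁ n₁ n₂ (.inr ⟨q₁, q₂⟩))
    · have h32 : 32 ≤ Nat.card G₁ := by
        rw [hcard, show (32 : ℕ) = 2 ^ 5 from rfl]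
        exact Nat.pow_le_pow_right two_pos (by omega)
      obtain ⟨a₁, b₁, n₁, p₁, q₁⟩ := exists_dihedral_pair h₁ h32
      obtain ⟨a₂, b₂, n₂, p₂, q₂⟩ := exists_dihedral_pair h₂ (h12 ▸ h32)
      obtain ⟨a₃, b₃, n₃, p₃, q₃⟩ := exists_dihedral_pair h₃ (h23 ▸ h12 ▸ h32)
      obtain ⟨-, hA₁, -, -, hc₁, he₁⟩ := espec_split h₁ n₁
      obtain ⟨-, hA₂, -, -, hc₂, he₂⟩ := espec_split h₂ n₂
      obtain ⟨-, hA₃, -, -, hc₃, he₃⟩ := espec_split h₃ n₃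
      have t₁ : closure ({a₁, b₁} : Set G₁) ≠ ⊤ := fun h => by
        rw [h, card_top] at hA₁; omega
      have t₂ : closure ({a₂, b₂} : Set G₂) ≠ ⊤ := fun h => by
        rw [h, card_top, ← h12] at hA₂; omega
      have t₃ : closure ({a₃, b₃} : Set G₃) ≠ ⊤ := fun h => by
        rw [h, card_top, ← h23, ← h12] at hA₃; omega
      have hlt : Nat.card (centralizer (closure ({a₁, b₁} : Set G₁) : Set G₁)) < Nat.card G₁ := by
        rw [← hc₁]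
        exact lt_mul_of_one_lt_left Nat.card_pos (by norm_num)
      have hC12 := Nat.eq_of_mul_eq_mul_left (pow_pos two_pos 2) (hc₁.trans (h12.trans hc₂.symm))
      have hC23 := Nat.eq_of_mul_eq_mul_left (pow_pos two_pos 2) (hc₂.trans (h23.trans hc₃.symm))
      rcases ih _ hlt _ rfl _ _ (he₁ t₁) (he₂ t₂) (he₃ t₃) hC12 hC23 with h | h | h
      · exact .inl (iso_of_dihedral_split h₁ h₂ h12 n₁ n₂ p₁ q₁ p₂ q₂ h)
      · exact .inr (.inl (iso_of_dihedral_split h₂ h₃ h23 n₂ n₃ p₂ q₂ p₃ q₃ h))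
      · exact .inr (.inr (iso_of_dihedral_split h₁ h₃ (h12.trans h23) n₁ n₃ p₁ q₁ p₃ q₃ h))

end Cfsg.Agent.H24
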