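import Cfsg.Agent.H24.SupersolubleFailures

/-!
An abelian homocyclic group of rank two carries a saturated system without a cyclic chain.
-/

namespace Cfsg.Agent.H24

open Subgroup

section

variable {M : Type*} [CommGroup M]

/-- The signed permutations of the two factors of `M × M`. -/
def signedPerms (M : Type*) [CommGroup M] : Subgroup (MulAut (M × M)) where
  carrier := {α | ∃ a b : ℤ, a ^ 2 = 1 ∧ b ^ 2 = 1 ∧
    ((∀ q, α q = (q.1 ^ a, q.2 ^ b)) ∨ ∀ q, α q = (q.2 ^ a, q.1 ^ b))}
  one_mem' := ⟨1, 1, one_pow 2, one_pow 2, Or.inl fun q => by simp⟩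
  mul_mem' := by
    rintro α β ⟨a, b, ha, hb, hα⟩ ⟨c, d, hc, hd, hβ⟩
    rcases hα with hα | hα <;> rcases hβ with hβ | hβ
    · exact ⟨c * a, d * b, by rw [mul_pow, hc, ha, one_mul], by rw [mul_pow, hd, hb, one_mul],
        Or.inl fun q => by simp [MulAut.mul_apply, hα, hβ, zpow_mul]⟩
    · exact ⟨c * a, d * b, by rw [mul_pow, hc, ha, one_mul], by rw [mul_pow, hd, hb, one_mul],
        Or.inr fun q => by simp [MulAut.mul_apply, hα, hβ, zpow_mul]⟩
    · exact ⟨d * a, c * b, by rw [mul_pow, hd, ha, one_mul], by rw [mul_pow, hc, hb, one_mul],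
        Or.inr fun q => by simp [MulAut.mul_apply, hα, hβ, zpow_mul]⟩
    · exact ⟨d * a, c * b, by rw [mul_pow, hd, ha, one_mul], by rw [mul_pow, hc, hb, one_mul],
        Or.inl fun q => by simp [MulAut.mul_apply, hα, hβ, zpow_mul]⟩
  inv_mem' := by
    rintro α ⟨a, b, ha, hb, hα⟩
    have haa : a * a = 1 := by rwa [← pow_two]
    have hbb : b * b = 1 := by rwa [← pow_two]
    rcases hα with hα | hα
    · refine ⟨a, b, ha, hb, Or.inl fun q => α.injective ?_⟩
      rw [MulAut.apply_inv_self, hα]
      simp [← zpow_mul, haa, hbb]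
    · refine ⟨b, a, hb, ha, Or.inr fun q => α.injective ?_⟩
      rw [MulAut.apply_inv_self, hα]
      simp [← zpow_mul, haa, hbb]

theorem signedPerms_pow_four {α : MulAut (M × M)} (hα : α ∈ signedPerms M) : α ^ 4 = 1 := by
  obtain ⟨a, b, ha, hb, h⟩ := hα
  have haa : a * a = 1 := by rwa [← pow_two]
  have hbb : b * b = 1 := by rwa [← pow_two]
  rcases h with h | h <;> refine MulEquiv.ext fun q => ?_ <;>
    simp only [pow_succ, pow_zero, one_mul, MulAut.mul_apply, h, ← zpow_mul, MulAut.one_apply]
  · simp [haa, hbb]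
  · have h1 : a * b * a * b = 1 := by linear_combination (b * b) * haa + hbb
    have h2 : b * a * b * a = 1 := by linear_combination (b * b) * haa + hbb
    simp [h1, h2]

end

theorem eq_pow_of_mem_zpowers_sq {G : Type*} [Group G] {q r : G} (hq : q ^ 2 = 1)
    (h : r ∈ zpowers q) : r = 1 ∨ r = q := by
  obtain ⟨i, rfl⟩ := mem_zpowers_iff.1 h
  rcases Int.even_or_odd' i with ⟨j, rfl | rfl⟩
  · left; rw [zpow_mul, zpow_two, ← pow_two, hq, one_zpow]
  · right; rw [zpow_add, zpow_mul, zpow_two, ← pow_two, hq, one_zpow, one_mul, zpow_one]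

/-- A group of order prime to `p` of automorphisms of `M × M` fixing no subgroup of order `p`. -/
theorem exists_auts_no_fixed_line {M : Type*} [CommGroup M] [Finite M] {p : ℕ} (hP : p.Prime) :
    ∃ A : Subgroup (MulAut (M × M)), (Nat.card A).Coprime p ∧
      ∀ q : M × M, q ^ p = 1 → (∀ α ∈ A, α q ∈ zpowers q) → q = 1 := by
  rcases hP.eq_two_or_odd' with rfl | hodd
  · let r : MulAut (M × M) :=
      { toFun := fun q => (q.2⁻¹, q.1 * q.2⁻¹)
        invFun := fun q => (q.2 * q.1⁻¹, q.1⁻¹)
        left_inv := fun q => by ext <;> simp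
        right_inv := fun q => by ext <;> simp
        map_mul' := fun q q' => by
          ext <;> simp [mul_comm, mul_left_comm, mul_assoc] }
    have hr : ∀ q, r q = (q.2⁻¹, q.1 * q.2⁻¹) := fun _ => rfl
    refine ⟨zpowers r, ?_, fun q hq h => ?_⟩
    · rw [Nat.card_zpowers]
      refine Nat.Coprime.coprime_dvd_left (orderOf_dvd_of_pow_eq_one (?_ : r ^ 3 = 1)) (by norm_num)
      refine MulEquiv.ext fun q => ?_
      simp only [pow_succ, pow_zero, one_mul, MulAut.mul_apply, hr, MulAut.one_apply]
      ext <;> simp [mul_comm, mul_left_comm]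
    · have hq1 : q.1⁻¹ = q.1 := inv_eq_of_mul_eq_one_left (by
        rw [← pow_two]; exact congrArg Prod.fst hq)
      have hq2 : q.2⁻¹ = q.2 := inv_eq_of_mul_eq_one_left (by
        rw [← pow_two]; exact congrArg Prod.snd hq)
      rcases eq_pow_of_mem_zpowers_sq hq (h r (mem_zpowers r)) with h1 | h1
      · rw [hr, Prod.ext_iff] at h1
        obtain ⟨a, b⟩ := h1
        simp only [Prod.fst_one, Prod.snd_one, inv_eq_one] at a b
        rw [a, inv_one, mul_one] at b
        exact Prod.ext b a
      · rw [hr, Prod.ext_iff] at h1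
        obtain ⟨a, b⟩ := h1
        simp only [hq2] at a b
        have hx : q.1 = 1 := by simpa using b
        exact Prod.ext hx (a.trans hx)
  · refine ⟨signedPerms M, ?_, fun q hq h => ?_⟩
    · have hA : IsPGroup 2 (signedPerms M) := fun α =>
        ⟨2, Subtype.ext (by rw [Subgroup.coe_pow]; exact signedPerms_pow_four α.2)⟩
      obtain ⟨k, hk⟩ := IsPGroup.iff_card.1 hA
      rw [hk]
      exact Nat.Coprime.pow_left k ((Nat.coprime_primes Nat.prime_two hP).2
        (fun h2 => by rw [← h2] at hodd; exact (by decide : ¬ Odd 2) hodd))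
    · let σ : MulAut (M × M) := MulEquiv.prodComm
      let τ : MulAut (M × M) :=
        { toFun := fun q => (q.1, q.2⁻¹)
          invFun := fun q => (q.1, q.2⁻¹)
          left_inv := fun q => by simp
          right_inv := fun q => by simp
          map_mul' := fun q q' => by ext <;> simp [mul_comm] }
      obtain ⟨i, hi⟩ := mem_zpowers_iff.1 (h σ ⟨1, 1, one_pow 2, one_pow 2, Or.inr fun q => by
        simp [σ, MulEquiv.coe_prodComm, Prod.swap]⟩)
      obtain ⟨j, hj⟩ := mem_zpowers_iff.1 (h τ ⟨1, -1, one_pow 2, by norm_num, Or.inl fun q => by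
        simp [τ]⟩)
      have hi2 : q.2 = q.1 ^ i := by have := congrArg Prod.fst hi; simpa [σ] using this.symm
      have hi1 : q.1 = q.2 ^ i := by have := congrArg Prod.snd hi; simpa [σ] using this.symm
      have hj1 : q.1 = q.1 ^ j := by have := congrArg Prod.fst hj; simpa [τ] using this.symm
      have hj2 : q.2⁻¹ = q.2 ^ j := by have := congrArg Prod.snd hj; simpa [τ] using this.symm
      have h2 : q.2⁻¹ = q.2 := by
        rw [hj2]
        conv_lhs => rw [hi2, ← zpow_mul, mul_comm, zpow_mul, ← hj1, ← hi2]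
      have hy : q.2 = 1 := by
        have e1 : q.2 ^ 2 = 1 := by rw [pow_two]; exact inv_eq_iff_mul_eq_one.1 h2
        have e2 : q.2 ^ p = 1 := congrArg Prod.snd hq
        obtain ⟨k, hk⟩ := hodd
        rw [hk, pow_succ, pow_mul, e1, one_pow, one_mul] at e2
        exact e2
      exact Prod.ext (by rw [hi1, hy, one_zpow]; rfl) hy

/-- A homocyclic group of rank two has a saturated system without a cyclic chain. -/
theorem exists_no_chain_of_homocyclic {Ω : Type*} [Group Ω] {S : Subgroup Ω} [Finite S] {p n : ℕ}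
    [Fact p.Prime] (hn : 0 < n)
    (e : S ≃* Multiplicative (ZMod (p ^ n)) × Multiplicative (ZMod (p ^ n))) :
    ∃ F : FusionSystem S, F.IsSaturated p ∧ ¬ HasCyclicChain F := by
  have hP : p.Prime := Fact.out
  set M := Multiplicative (ZMod (p ^ n))
  have hcard : Nat.card M = p ^ n := (Nat.card_congr Multiplicative.toAdd).trans (Nat.card_zmod _)
  have hcS : Nat.card S = p ^ (2 * n) := by
    rw [Nat.card_congr e.toEquiv, Nat.card_prod, hcard, ← pow_add, two_mul]
  have hS : IsPGroup p S := IsPGroup.of_card hcS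
  have hne : S ≠ ⊥ := by
    intro h
    rw [(Subgroup.card_eq_one.2 h)] at hcS
    exact absurd hcS.symm (Nat.one_lt_pow (by omega) hP.one_lt).ne'
  have hab : ∀ x y : S, Commute x y := fun x y =>
    e.injective (by rw [map_mul, map_mul, mul_comm])
  let T : MulAut (M × M) ≃* MulAut S := MulAut.congr e.symm
  have hT : ∀ (α : MulAut (M × M)) (x : S), e (T α x) = α (e x) := fun α x => by
    simp [T, MulAut.congr]
  suffices h : ∃ A : Subgroup (MulAut (M × M)), (Nat.card A).Coprime p ∧
      ∀ q : M × M, q ^ p = 1 → (∀ α ∈ A, α q ∈ zpowers q) → q = 1 by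
    obtain ⟨A, hA, hfix⟩ := h
    refine exists_no_chain_of_automorphisms hS hne hab (A.map T.toMonoidHom) ?_ fun q hq h => ?_
    · rwa [Nat.card_congr (A.equivMapOfInjective _ T.injective).toEquiv.symm]
    · refine e.injective ((hfix (e q) (by rw [← map_pow, hq, map_one]) fun α hα => ?_).trans
        e.map_one.symm)
      obtain ⟨i, hi⟩ := mem_zpowers_iff.1 (h (T α) ⟨α, hα, rfl⟩)
      exact ⟨i, by show e q ^ i = α (e q); rw [← map_zpow, hi, hT]⟩
  exact exists_auts_no_fixed_line (M := M) hP

/-- The four group, written as a dihedral group. -/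
theorem nonempty_dihedral_two_equiv :
    Nonempty (DihedralGroup (2 ^ (0 + 1)) ≃*
      Multiplicative (ZMod (2 ^ 1)) × Multiplicative (ZMod (2 ^ 1))) := by
  refine ⟨(⟨⟨fun x => match x with
              | .r i => (Multiplicative.ofAdd i, 1)
              | .sr i => (Multiplicative.ofAdd i, Multiplicative.ofAdd 1),
            fun x => if x.2 = 1 then .r x.1.toAdd else .sr x.1.toAdd,
            by unfold Function.LeftInverse; decide,
            by unfold Function.RightInverse Function.LeftInverse; decide⟩, by decide⟩ :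
    DihedralGroup 2 ≃* Multiplicative (ZMod 2) × Multiplicative (ZMod 2))⟩

end Cfsg.Agent.H24
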