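import Cfsg.Agent.H24.MaxClassUniform
import Cfsg.Agent.H24.MaxClassPower
import Cfsg.Agent.H89.RegularPowers

/-!
Blackburn: in a `p`-group of maximal class of order `p ^ n`, `p` odd, the two-step centralizers
`twoStep G i`, `2 ≤ i ≤ n - 3`, coincide, and so does the last one if `p + 2 ≤ n`.  In particular
there is an element with centralizer of order at most `p ^ 2`.
-/

set_option linter.unusedSectionVars false

namespace Cfsg.Agent.H24

open Subgroup
open scoped commutatorElement

universe u

variable {G : Type*} [Group G] [Finite G] {p : ℕ} [hp : Fact p.Prime]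

theorem map_lcs_top_succ (K : Subgroup G) (k : ℕ) :
    ((⊤ : Subgroup K).lowerCentralSeries (k + 1)).map K.subtype =
      ⁅((⊤ : Subgroup K).lowerCentralSeries k).map K.subtype, K⁆ := by
  rw [Subgroup.lowerCentralSeries_succ, map_commutator, ← MonoidHom.range_eq_map, range_subtype]

theorem regular_of_lcs_le (hG : IsPGroup p G) (K : Subgroup G)
    (h : ((⊤ : Subgroup K).lowerCentralSeries (p - 1)).map K.subtype ≤ ⊥) :
    Cfsg.IsRegularPGroup p K :=
  H89.isRegularPGroup_of_class_lt (hG.to_subgroup K)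
    ((map_eq_bot_iff_of_injective _ K.subtype_injective).mp (le_bot_iff.mp h))

variable {n : ℕ} (S : MaxSetting G p n)
include S

theorem MaxSetting.lcw_eq_bot {i : ℕ} (hi : n ≤ i) : lcw G i = ⊥ :=
  le_bot_iff.mp (le_of_le_of_eq (lcw_le hi) S.lcw_top_eq)

theorem MaxSetting.lcw_regular {i : ℕ} (hi : 2 ≤ i) (hn : n ≤ p * i) :
    Cfsg.IsRegularPGroup p (lcw G i) := by
  have key : ∀ k : ℕ, ((⊤ : Subgroup (lcw G i)).lowerCentralSeries k).map (lcw G i).subtype ≤
      lcw G ((k + 1) * i) := by
    intro k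
    induction k with
    | zero =>
      rw [Subgroup.lowerCentralSeries_zero, ← MonoidHom.range_eq_map, range_subtype]
      simp
    | succ k ih =>
      rw [map_lcs_top_succ]
      refine (commutator_mono ih le_rfl).trans ((lcw_comm ?_ (by omega)).trans (lcw_le ?_))
      · exact Nat.one_le_iff_ne_zero.mpr (Nat.mul_ne_zero (by omega) (by omega))
      · exact le_of_eq (by ring)
  refine regular_of_lcs_le S.isP _ ((key _).trans (S.lcw_eq_bot ?_).le)
  rwa [Nat.sub_add_cancel hp.out.one_le]

theorem MaxSetting.comap_twoStep {m i : ℕ} (hi : i + 2 ≤ m) :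
    (twoStep (G ⧸ lcw G m) i).comap (QuotientGroup.mk' (lcw G m)) = twoStep G i := by
  set π := QuotientGroup.mk' (lcw G m)
  have hπ : Function.Surjective π := QuotientGroup.mk'_surjective _
  ext g
  rw [mem_comap, mem_twoStep, mem_twoStep]
  constructor
  · intro h u hu
    have h1 := h (π u) (map_lcw π hπ i ▸ mem_map_of_mem π hu)
    rw [← map_commutatorElement, ← map_lcw π hπ, ← mem_comap, comap_map_eq,
      QuotientGroup.ker_mk', sup_of_le_left (lcw_le hi)] at h1
    exact h1
  · intro h v hv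
    rw [← map_lcw π hπ] at hv
    obtain ⟨u, hu, rfl⟩ := hv
    rw [← map_commutatorElement, ← map_lcw π hπ]
    exact mem_map_of_mem π (h u hu)

theorem MaxSetting.twoStep_eq_of_le {i j : ℕ} (hi : 2 ≤ i) (hin : i + 2 ≤ n) (hj : 2 ≤ j)
    (hjn : j + 2 ≤ n) (h : twoStep G i ≤ twoStep G j) : twoStep G i = twoStep G j := by
  refine Subgroup.eq_of_le_of_card_ge h (le_of_eq ?_)
  have e1 := card_mul_index (twoStep G i)
  have e2 := card_mul_index (twoStep G j)
  rw [S.index_twoStep hi hin] at e1
  rw [S.index_twoStep hj hjn] at e2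
  exact Nat.eq_of_mul_eq_mul_right hp.out.pos (e2.trans e1.symm)

/-- An element outside all two-step centralizers has a centralizer of order at most `p ^ 2`. -/
theorem MaxSetting.card_centralizer_le {x : G} (hx : x ∉ lcw G 2)
    (hxi : ∀ i, 2 ≤ i → i + 2 ≤ n → x ∉ twoStep G i) :
    Nat.card (centralizer ({x} : Set G)) ≤ p ^ 2 := by
  have hP : p.Prime := hp.out
  have h3 := S.three
  set C := centralizer ({x} : Set G)
  have h1 : Nat.card (C ⊓ lcw G 2 : Subgroup G) ≤ p := by
    refine (Subgroup.card_le_of_le (K := lcw G (n - 1)) fun g hg => ?_).trans_eq ?_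
    · exact S.mem_last_of_commute hxi (Subgroup.mem_inf.mp hg).2
        (mem_centralizer_singleton_iff.mp (Subgroup.mem_inf.mp hg).1)
    · rw [S.card_lcw (by omega) (by omega), show n - (n - 1) = 1 by omega, pow_one]
  have h2 : (lcw G 2).relIndex C ≤ p := by
    have hCle : C ≤ zpowers x ⊔ lcw G 2 := by
      intro u hu
      by_contra hu2
      obtain ⟨e, he⟩ := S.exists_comm_not_mem hx
      set K := zpowers x ⊔ lcw G 2
      have hKcard : p ^ (n - 1) ≤ Nat.card K := by
        have h6 := le_relIndex_of_lt S.isP (H := lcw G 2) (K := K)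
          fun h => hx (h (mem_sup_left (mem_zpowers x)))
        rw [← card_mul_relIndex (le_sup_right : lcw G 2 ≤ K), S.card_two,
          show n - 1 = n - 2 + 1 by omega, pow_succ]
        exact Nat.mul_le_mul_left _ h6
      have htop : K ⊔ zpowers u = ⊤ := by
        apply Subgroup.eq_top_of_le_card
        have h5 := le_relIndex_of_lt S.isP (H := K) (K := K ⊔ zpowers u)
          fun h => hu2 (h (mem_sup_right (mem_zpowers u)))
        rw [S.card, ← card_mul_relIndex (le_sup_left : K ≤ K ⊔ zpowers u),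
          show n = n - 1 + 1 by omega, pow_succ]
        exact Nat.mul_le_mul hKcard h5
      refine he ?_
      have hle : K ⊔ zpowers u ≤ centralizerMod x := by
        refine sup_le (sup_le (zpowers_le.mpr ?_) fun v hv => ?_) (zpowers_le.mpr ?_)
        · show ⁅x, x⁆ ∈ lcw G 3
          simp
        · exact comm_mem_lcw (G := G) (by omega) le_rfl hv (lcw_one (G := G) ▸ mem_top x)
        · show ⁅u, x⁆ ∈ lcw G 3
          rw [commutatorElement_eq_one_iff_mul_comm.mpr (mem_centralizer_singleton_iff.mp hu)]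
          exact one_mem _
      exact (htop ▸ hle) (mem_top e)
    refine le_trans (relIndex_le_of_le_right hCle FiniteIndex.index_ne_zero) ?_
    rw [relIndex_sup_right]
    exact relIndex_zpowers_le (S.pow_mem_two x)
  rw [← card_mul_relIndex (inf_le_left : C ⊓ lcw G 2 ≤ C), inf_relIndex_left, sq]
  exact Nat.mul_le_mul h1 h2

theorem MaxSetting.pow_shift (h4 : 4 ≤ n) {x : G}
    (hCx : Nat.card (centralizer ({x} : Set G)) ≤ p ^ 2) {j : ℕ} (hj : 2 ≤ j) {u : G}
    (hu : u ∈ lcw G j) : u ^ p ∈ lcw G (j + (p - 1)) := by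
  have h1 := pow_mul_commIter_mem S.lcw_top_eq x (S.exists_comm_of_small h4 hCx)
    (S.pow_central_of_small h4 hCx) j hj u hu
  rw [show u ^ p = u ^ p * commIter x u (p - 1) * (commIter x u (p - 1))⁻¹ by group]
  exact mul_mem (lcw_le (by omega) h1) (inv_mem (commIter_mem (by omega) hu _))

omit S in
/-- The last two-step centralizer equals the first one if `p + 2 ≤ n`. -/
theorem twoStep_last_eq (hp2 : p ≠ 2) : ∀ (n : ℕ) (G : Type u) [Group G] [Finite G],
    MaxSetting G p n → p + 2 ≤ n → twoStep G (n - 2) = twoStep G 2 := by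
  have hP : p.Prime := hp.out
  have hp3 : 3 ≤ p := by have := hP.two_le; omega
  intro n
  induction n using Nat.strong_induction_on with
  | _ n ih =>
  intro G _ _ S hn
  have hB : ∀ h, 2 ≤ h → h + 3 ≤ n → twoStep G h = twoStep G 2 := by
    intro h h2 hh
    rcases Nat.lt_or_ge h (2 * p) with hlt | hge
    · exact S.twoStep_eq hp2 h h2 hh hlt
    · have e := ih (h + 2) (by omega) (G ⧸ lcw G (h + 2)) (S.quotient (by omega) (by omega))
        (by omega)
      rw [Nat.add_sub_cancel] at e
      rw [← S.comap_twoStep (m := h + 2) (i := h) le_rfl,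
        ← S.comap_twoStep (m := h + 2) (i := 2) (by omega), e]
  classical
  obtain ⟨x, hx⟩ := exists_not_mem_of_index (p := p)
    ({twoStep G 2, twoStep G (n - 2)} : Finset (Subgroup G))
    (le_trans Finset.card_le_two hP.two_le)
    (by
      intro C hC
      simp only [Finset.mem_insert, Finset.mem_singleton] at hC
      rcases hC with rfl | rfl
      · exact S.index_twoStep le_rfl (by omega)
      · exact S.index_twoStep (by omega) (by omega))
  have hxi : ∀ i, 2 ≤ i → i + 2 ≤ n → x ∉ twoStep G i := by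
    intro i hi hin
    rcases eq_or_ne i (n - 2) with rfl | hne
    · exact hx _ (by simp)
    · rw [hB i hi (by omega)]; exact hx _ (by simp)
  have hx2 : x ∉ lcw G 2 := fun h => hx _ (by simp) (lcw_two_le_twoStep (i := 2) (by omega) h)
  have hCx := S.card_centralizer_le hx2 hxi
  symm
  refine S.twoStep_eq_of_le le_rfl (by omega) (by omega) (by omega) ?_
  rcases Nat.lt_or_ge n (p + 3) with hlt | hge
  swap
  · -- the `p`-th power of weight `n - p - 1` generates weight `n - 2`
    intro g hg
    set i := n - p - 1 with hi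
    obtain ⟨v, hv, hv'⟩ :=
      SetLike.not_le_iff_exists.mp (S.lcw_not_le (i := i) (by omega) (by omega))
    obtain ⟨h1, h2⟩ := S.pow_weight (by omega) hCx (i := i) (by omega) (by omega) hv hv'
    rw [show i + (p - 1) = n - 2 by omega] at h1 h2
    refine S.mem_twoStep_of_gen (by omega) (by omega) h1 h2 ?_
    have hgi : g ∈ twoStep G i := by rw [hB i (by omega) (by omega)]; exact hg
    have hc : ⁅g, v⁆ ∈ lcw G (i + 2) := by
      rw [← commutatorElement_inv]; exact inv_mem (mem_twoStep.mp hgi v hv)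
    have hcp : ⁅g, v⁆ ^ p = 1 := by
      have h := S.pow_shift (by omega) hCx (j := i + 2) (by omega) hc
      rwa [S.lcw_eq_bot (by omega), mem_bot] at h
    have hreg : Cfsg.IsRegularPGroup p (lcw G i) := S.lcw_regular (by omega) (by
      obtain ⟨k, hk⟩ : ∃ k, i = k + 2 := ⟨i - 2, by omega⟩
      have := Nat.mul_le_mul_right k hp3
      rw [hk, Nat.mul_add]
      omega)
    have h := (H89.pow_eq_pow_iff_of_regular hreg
      ⟨g * v * g⁻¹, (lcw_normal _).conj_mem _ hv g⟩ ⟨v, hv⟩ 1).mpr (Subtype.ext (by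
        simpa [commutatorElement_def] using hcp))
    rw [pow_one] at h
    have h' : (g * v * g⁻¹) ^ p = v ^ p := congrArg Subtype.val h
    rw [conj_pow, mul_inv_eq_iff_eq_mul] at h'
    rw [commutatorElement_eq_one_iff_mul_comm.mpr h'.symm]
    exact one_mem _
  -- the case `n = p + 2`
  obtain rfl : n = p + 2 := by omega
  obtain ⟨g, hg, hg2⟩ : ∃ g ∈ twoStep G 2, g ∉ lcw G 2 := by
    by_contra hcon
    push Not at hcon
    have h := Subgroup.card_le_of_le hcon
    have e1 := card_mul_index (twoStep G 2)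
    rw [S.index_twoStep le_rfl (by omega), S.card] at e1
    rw [S.card_two] at h
    have h' : p ^ (p + 2) ≤ p ^ (p + 2 - 2) * p := e1 ▸ Nat.mul_le_mul_right _ h
    rw [← pow_succ, Nat.pow_le_pow_iff_right hP.one_lt] at h'
    omega
  set K := lcw G 2 ⊔ zpowers g with hK
  have hgen : K = twoStep G 2 := by
    refine eq_of_between_prime (p := p) le_sup_left (fun hh' => hg2 (hh'.symm ▸
      mem_sup_right (mem_zpowers g))) (sup_le (lcw_two_le_twoStep (by omega))
      (zpowers_le.mpr hg)) ?_
    have e1 := card_mul_index (twoStep G 2)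
    rw [S.index_twoStep le_rfl (by omega), S.card] at e1
    rw [S.card_two]
    apply Nat.eq_of_mul_eq_mul_right hP.pos
    rw [e1, mul_comm p, mul_assoc, ← sq, ← pow_add]
    congr 1
  have hK4 : ⁅lcw G 2, K⁆ ≤ lcw G 4 := by
    rw [commutator_le]
    intro u hu v hv
    rw [hgen] at hv
    exact mem_twoStep.mp hv u hu
  have hKK : ⁅K, K⁆ ≤ lcw G 4 := by
    let T : Subgroup G :=
      { carrier := {v | ⁅v, g⁆ ∈ lcw G 4}
        one_mem' := by simp
        mul_mem' := fun {a b} ha hb => by
          show ⁅a * b, g⁆ ∈ lcw G 4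
          rw [show ⁅a * b, g⁆ = a * ⁅b, g⁆ * a⁻¹ * ⁅a, g⁆ by
            simp [commutatorElement_def, mul_assoc]]
          exact mul_mem ((lcw_normal _).conj_mem _ hb a) ha
        inv_mem' := fun {a} ha => by
          show ⁅a⁻¹, g⁆ ∈ lcw G 4
          rw [show ⁅a⁻¹, g⁆ = a⁻¹ * ⁅a, g⁆⁻¹ * a by simp [commutatorElement_def, mul_assoc]]
          simpa using (lcw_normal (G := G) 4).conj_mem _ (inv_mem ha) a⁻¹ }
    have hT : K ≤ T := sup_le (fun u hu => hK4 (commutator_mem_commutator hu
      (mem_sup_right (mem_zpowers g)))) (zpowers_le.mpr (show ⁅g, g⁆ ∈ lcw G 4 by simp))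
    rw [commutator_le]
    intro u hu v hv
    obtain ⟨l, hl, w, ⟨k, rfl⟩, rfl⟩ := mem_sup_of_normal_left.mp hu
    rw [show ⁅l * g ^ k, v⁆ = l * ⁅g ^ k, v⁆ * l⁻¹ * ⁅l, v⁆ by
      simp [commutatorElement_def, mul_assoc]]
    refine mul_mem ((lcw_normal _).conj_mem _ ?_ l) (hK4 (commutator_mem_commutator hl hv))
    obtain ⟨l', hl', w, ⟨j, rfl⟩, rfl⟩ := mem_sup_of_normal_left.mp hv
    have hc : ⁅g ^ k, g ^ j⁆ = 1 :=
      commutatorElement_eq_one_iff_mul_comm.mpr ((Commute.refl g).zpow_zpow k j).eq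
    rw [show ⁅g ^ k, l' * g ^ j⁆ = ⁅g ^ k, l'⁆ * (l' * ⁅g ^ k, g ^ j⁆ * l'⁻¹) by
      simp [commutatorElement_def, mul_assoc], hc, mul_one, mul_inv_cancel, mul_one,
      ← commutatorElement_inv]
    exact inv_mem (hK4 (commutator_mem_commutator hl'
      (mem_sup_right (zpow_mem (mem_zpowers g) k))))
  have key : ∀ k : ℕ, 1 ≤ k →
      ((⊤ : Subgroup K).lowerCentralSeries k).map K.subtype ≤ lcw G (k + 3) := by
    intro k hk
    induction k, hk using Nat.le_induction with
    | base =>
      rw [map_lcs_top_succ, Subgroup.lowerCentralSeries_zero, ← MonoidHom.range_eq_map,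
        range_subtype]
      exact hKK
    | succ k _ ih =>
      rw [map_lcs_top_succ]
      refine (commutator_mono ih le_top).trans (le_of_eq ?_)
      rw [← lcw_succ (by omega)]
  have hreg : Cfsg.IsRegularPGroup p K :=
    regular_of_lcs_le S.isP K ((key (p - 1) (by omega)).trans (S.lcw_eq_bot (by omega)).le)
  set w := ⁅x, g⁆ with hw
  have hw2 : w ∈ lcw G 2 := comm_mem_lcw (i := 1) le_rfl le_rfl (mem_top x) (mem_top g)
  have htop : K ⊔ zpowers x = ⊤ := by
    apply Subgroup.eq_top_of_le_card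
    rw [hgen]
    have h5 := le_relIndex_of_lt S.isP (H := twoStep G 2) (K := twoStep G 2 ⊔ zpowers x)
      fun hh' => hx (twoStep G 2) (by simp) (hh' (mem_sup_right (mem_zpowers x)))
    rw [← card_mul_index (twoStep G 2), S.index_twoStep le_rfl (by omega),
      ← card_mul_relIndex (le_sup_left : twoStep G 2 ≤ twoStep G 2 ⊔ zpowers x)]
    exact Nat.mul_le_mul_left _ h5
  have hw3 : w ∉ lcw G 3 := by
    intro h
    obtain ⟨e, he⟩ := S.exists_comm_not_mem hx2
    refine he ?_
    have hle : K ⊔ zpowers x ≤ centralizerMod x := by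
      refine sup_le (sup_le (fun v hv => ?_) (zpowers_le.mpr ?_)) (zpowers_le.mpr ?_)
      · exact comm_mem_lcw (G := G) (by omega) le_rfl hv (lcw_one (G := G) ▸ mem_top x)
      · show ⁅g, x⁆ ∈ lcw G 3
        rw [← commutatorElement_inv]; exact inv_mem h
      · show ⁅x, x⁆ ∈ lcw G 3
        simp
    exact (htop ▸ hle) (mem_top e)
  obtain ⟨hwp, hwp'⟩ := S.pow_weight (by omega) hCx (i := 2) le_rfl (by omega) hw2 hw3
  rw [show 2 + (p - 1) = p + 1 by omega] at hwp hwp'
  have hgK : g ∈ K := mem_sup_right (mem_zpowers g)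
  have hwK : w ∈ K := mem_sup_left hw2
  have hconj : x * g ^ p * x⁻¹ = w ^ p * g ^ p := by
    obtain ⟨c, hc, he⟩ := hreg.2 ⟨w, hwK⟩ ⟨g, hgK⟩ 1
    have hc1 : c = 1 := by
      rw [← mem_bot]
      refine (closure_le _).mpr ?_ hc
      rintro y ⟨u, hu, rfl⟩
      refine mem_bot.mpr (Subtype.ext ?_)
      have hu4 : (u : G) ∈ lcw G 4 := by
        have h1 := mem_map_of_mem K.subtype hu
        rw [map_commutator] at h1
        exact hKK (commutator_mono (map_subtype_le _) (map_subtype_le _) h1)
      have h := S.pow_shift (by omega) hCx (j := 4) (by omega) hu4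
      rw [S.lcw_eq_bot (by omega), mem_bot] at h
      simpa using h
    rw [hc1, mul_one, pow_one] at he
    have he' : (w * g) ^ p = w ^ p * g ^ p := congrArg Subtype.val he
    rw [← he', ← conj_pow, hw]
    simp [commutatorElement_def]
  have hgp : g ^ p ∈ lcw G p := by
    suffices ∀ i, 2 ≤ i → i ≤ p → g ^ p ∈ lcw G i from this p (by omega) le_rfl
    intro i hi
    induction i, hi using Nat.le_induction with
    | base => exact fun _ => S.pow_mem_two g
    | succ i hi ihi =>
      intro hip
      by_contra hne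
      refine hxi i hi (by omega) (S.mem_twoStep_of_gen hi (by omega) (ihi (by omega)) hne ?_)
      rw [← commutatorElement_inv]
      refine inv_mem ?_
      rw [commutatorElement_def, hconj, mul_inv_cancel_right]
      exact lcw_le (by omega) hwp
  have hgp' : g ^ p ∉ lcw G (p + 1) := by
    intro h
    apply hwp'
    have h1 := comm_mem_lcw (G := G) (i := 1) (j := p + 1) le_rfl (by omega)
      (lcw_one (G := G) ▸ mem_top x) h
    rw [commutatorElement_def, hconj, mul_inv_cancel_right] at h1
    exact lcw_le (by omega) h1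
  rw [← hgen, Nat.add_sub_cancel]
  refine sup_le (lcw_two_le_twoStep (by omega)) (zpowers_le.mpr
    (S.mem_twoStep_of_gen (by omega) (by omega) hgp hgp' ?_))
  rw [commutatorElement_eq_one_iff_mul_comm.mpr (Commute.pow_self g p).eq]
  exact one_mem _

omit S in
theorem MaxSetting.twoStep_eq_all {G : Type u} [Group G] [Finite G] {n : ℕ}
    (S : MaxSetting G p n) (hp2 : p ≠ 2) {h : ℕ} (h2 : 2 ≤ h)
    (hn : h + 3 ≤ n ∨ h + 2 = n ∧ p + 2 ≤ n) : twoStep G h = twoStep G 2 := by
  have hp3 : 3 ≤ p := by have := hp.out.two_le; omega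
  rcases hn with hn | ⟨rfl, hn⟩
  · rcases Nat.lt_or_ge h (2 * p) with hlt | hge
    · exact S.twoStep_eq hp2 h h2 hn hlt
    · have e := twoStep_last_eq hp2 (h + 2) (G ⧸ lcw G (h + 2))
        (S.quotient (by omega) (by omega)) (by omega)
      rw [Nat.add_sub_cancel] at e
      rw [← S.comap_twoStep (m := h + 2) (i := h) le_rfl,
        ← S.comap_twoStep (m := h + 2) (i := 2) (by omega), e]
  · simpa using twoStep_last_eq hp2 (h + 2) G S hn

omit S in
/-- For odd `p` there is an element whose centralizer has order at most `p ^ 2`, outside all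
two-step centralizers. -/
theorem MaxSetting.exists_small {G : Type u} [Group G] [Finite G] {n : ℕ}
    (S : MaxSetting G p n) (hp2 : p ≠ 2) :
    ∃ x : G, x ∉ lcw G 2 ∧ (∀ i, 2 ≤ i → i + 2 ≤ n → x ∉ twoStep G i) ∧
      Nat.card (centralizer ({x} : Set G)) ≤ p ^ 2 := by
  rcases Nat.lt_or_ge (2 * p + 2) n with hlt | hge
  swap
  · obtain ⟨x, hx, hxi⟩ := S.exists_uniform hp2 hge
    exact ⟨x, hx, hxi, S.card_centralizer_le hx hxi⟩
  have := hp.out.two_le
  obtain ⟨x, -, hx⟩ := SetLike.exists_of_lt (lt_top_iff_ne_top.mpr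
    (S.twoStep_ne_top (i := 2) (by omega) (by omega)))
  have hxi : ∀ i, 2 ≤ i → i + 2 ≤ n → x ∉ twoStep G i := fun i hi hin => by
    rwa [S.twoStep_eq_all hp2 hi (by omega)]
  have hx2 : x ∉ lcw G 2 := fun h => hx (lcw_two_le_twoStep (by omega) h)
  exact ⟨x, hx2, hxi, S.card_centralizer_le hx2 hxi⟩

end Cfsg.Agent.H24
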