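import Cfsg.Agent.H95.Transvection
import Cfsg.Agent.H73.StronglyEmbedded

/-!
A group of automorphisms of an elementary abelian `p`-group with a strongly `p`-embedded subgroup: a
`p`-subgroup fixing the centre of one of its transvections is generated by that transvection, and some
automorphism commuting with the transvection inverts its centre.
-/

set_option autoImplicit false

namespace Cfsg.Agent.H24

open Subgroup

variable {X : Type*} [Group X] [Finite X] {M : Type*} [CommGroup M] [Finite M] {p : ℕ} [hp : Fact p.Prime]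

/-- Powers of an element moving `m` by a power of a fixed element. -/
theorem pow_apply_transvection {φ : X →* MulAut M} {t : X} {z m : M} {i : ℤ} (hz : φ t z = z)
    (h : φ t m = m * z ^ i) (k : ℤ) : φ (t ^ k) m = m * z ^ (i * k) := by
  rw [map_zpow, H95.zpow_apply_of_fixed (φ t) h (by rw [map_zpow, hz]) k, ← zpow_mul]

/-- Conjugating a transvection moves its centre. -/
theorem conj_transvection {φ : X →* MulAut M} {t : X} {z : M} (ht : ∀ m, ∃ i : ℤ, φ t m = m * z ^ i)
    (a : X) (m : M) : ∃ i : ℤ, φ (a * t * a⁻¹) m = m * φ a z ^ i := by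
  obtain ⟨i, hi⟩ := ht ((φ a)⁻¹ m)
  refine ⟨i, ?_⟩
  rw [map_mul, map_mul, map_inv, MulAut.mul_apply, MulAut.mul_apply, hi, map_mul, map_zpow,
    MulAut.apply_inv_self]

/-- The automorphisms moving every element inside `W`. -/
theorem closure_moves_into {W : Subgroup M} {s : Set (MulAut M)}
    (hs : ∀ g ∈ s, ∀ m, m⁻¹ * g m ∈ W) :
    ∀ g ∈ Subgroup.closure s, ∀ m, m⁻¹ * g m ∈ W := by
  intro g hg
  induction hg using Subgroup.closure_induction with
  | mem g hg => exact hs g hg
  | one => intro m; simp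
  | mul a b _ _ ha hb =>
    intro m
    have := mul_mem (hb m) (ha (b m))
    simpa [MulAut.mul_apply, mul_assoc] using this
  | inv a _ ha =>
    intro m
    have := inv_mem (ha (a⁻¹ m))
    rw [MulAut.apply_inv_self, _root_.mul_inv_rev, inv_inv] at this
    exact this

/-- The inner form, with the `p`-subgroup inside the strongly `p`-embedded subgroup. -/
theorem transvection_spe_aux (hexp : ∀ m : M, m ^ p = 1) (φ : X →* MulAut M) (hφ : Function.Injective φ)
    {H : Subgroup X} {T : Sylow p X} (d : H73.SpeData p H T) (hH : H ≠ ⊤) {U : Subgroup X}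
    (hU : IsPGroup p U) (hUH : U ≤ H) {t : X} (htU : t ∈ U) (ht1 : t ≠ 1) {z : M}
    (ht : ∀ m, ∃ i : ℤ, φ t m = m * z ^ i) (hfix : ∀ g ∈ U, φ g z = z) :
    U = zpowers t ∧ ∃ β : X, β * t = t * β ∧ φ β z = z⁻¹ ∧
      ∀ m, φ t m = m → m⁻¹ * φ β m ∈ zpowers z := by
  classical
  obtain ⟨a, -, ha⟩ := SetLike.exists_of_lt hH.lt_top
  obtain ⟨u, hud⟩ : ∃ u, u = a * t * a⁻¹ := ⟨_, rfl⟩
  obtain ⟨c, hc⟩ : ∃ c, c = φ a z := ⟨_, rfl⟩
  have hu : ∀ m, ∃ i : ℤ, φ u m = m * c ^ i := fun m => hc ▸ hud ▸ conj_transvection ht a m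
  have huc : φ u c = c := by
    rw [hc, hud, map_mul, map_mul, map_inv, MulAut.mul_apply, MulAut.mul_apply, MulAut.inv_apply_self,
      hfix t htU]
  -- a conjugate of a member of `U` never generates a `p`-group with it
  have hnp : ∀ s ∈ U, s ≠ 1 → ¬ IsPGroup p (Subgroup.closure ({φ s, φ u} : Set (MulAut M))) := by
    intro s hs hs1 h
    have hR : IsPGroup p (Subgroup.closure ({s, u} : Set X)) := by
      refine IsPGroup.of_injective ((h : IsPGroup p _).to_le ?_ : IsPGroup p
        ((Subgroup.closure ({s, u} : Set X)).map φ))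
        ((Subgroup.closure ({s, u} : Set X)).equivMapOfInjective φ hφ).toMonoidHom
        (MulEquiv.injective _)
      rw [MonoidHom.map_closure, Set.image_pair]
    have hle := d.pgroup_le hR fun hb => hs1 (mem_bot.1
      (hb.le (mem_inf.2 ⟨subset_closure (by simp), hUH hs⟩)))
    exact ha (d.mem_of_conj (hUH htU) ht1 (hU.to_le (zpowers_le.2 htU))
      (hud ▸ hle (subset_closure (Set.mem_insert_of_mem s rfl))))
  have huz : φ u z ≠ z := fun h => hnp t htU ht1 (by
    have := H95.transvection_pGroup hexp (φ u) (φ t) c z huc (hfix t htU) hu ht h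
    rwa [Set.pair_comm] at this)
  refine ⟨?_, ?_⟩
  · refine le_antisymm (fun x hx => ?_) (zpowers_le.2 htU)
    by_contra hxt
    have hx1 : x ≠ 1 := fun h => hxt (h ▸ one_mem _)
    -- `x⁻¹ t x` moves `c`
    have hμ : φ t (φ x c) ≠ φ x c := by
      intro h
      have hs : x⁻¹ * t * x ∈ U := mul_mem (mul_mem (inv_mem hx) htU) hx
      have hs1 : x⁻¹ * t * x ≠ 1 := fun e => ht1 (by
        have := congrArg (fun y => x * y * x⁻¹) e
        simpa [mul_assoc] using this)
      refine hnp _ hs hs1 (H95.transvection_pGroup hexp (φ (x⁻¹ * t * x)) (φ u) z c (hfix _ hs) huc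
        (fun m => ?_) hu ?_)
      · obtain ⟨i, hi⟩ := conj_transvection ht x⁻¹ m
        rw [inv_inv, hfix _ (inv_mem hx)] at hi
        exact ⟨i, hi⟩
      · rw [map_mul, map_mul, map_inv, MulAut.mul_apply, MulAut.mul_apply, h, MulAut.inv_apply_self]
    obtain ⟨μ, hμe⟩ := ht (φ x c)
    obtain ⟨lm, hlm⟩ := hu (φ x c)
    obtain ⟨lz, hlz⟩ := hu z
    have hzp : ∀ (y : M) (i : ℤ), (p : ℤ) ∣ i → y ^ i = 1 := by
      rintro y _ ⟨k, rfl⟩; rw [zpow_mul, zpow_natCast, hexp, one_zpow]
    have hpr := Nat.prime_iff_prime_int.1 hp.out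
    obtain ⟨a1, a2, ha12⟩ := (Prime.coprime_iff_not_dvd hpr).2 (fun h => (hpr.dvd_or_dvd h).elim
      (fun h1 => huz (by rw [hlz, hzp c _ h1, mul_one]))
      (fun h1 => hμ (by rw [hμe, hzp z _ h1, mul_one])) : ¬ (p : ℤ) ∣ lz * μ)
    obtain ⟨x', hx'⟩ : ∃ x', x' = t ^ (-lm * a2) * x := ⟨_, rfl⟩
    have hxU : x' ∈ U := hx' ▸ mul_mem (zpow_mem htU _) hx
    have hx'1 : x' ≠ 1 := fun h => hxt (by
      rw [hx', mul_eq_one_iff_inv_eq] at h
      rw [← h]
      exact inv_mem (zpow_mem (mem_zpowers t) _))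
    obtain ⟨c', hc'⟩ : ∃ c', c' = φ x' c := ⟨_, rfl⟩
    have huc' : φ u c' = c' := by
      rw [hc', hx', map_mul, MulAut.mul_apply, pow_apply_transvection (hfix t htU) hμe, map_mul,
        map_zpow, hlm, hlz, mul_zpow, ← zpow_mul, mul_mul_mul_comm, ← zpow_add,
        hzp c (lm + lz * (μ * (-lm * a2))) ⟨lm * a1, by linear_combination -lm * ha12⟩, mul_one]
    have hu'c : φ (x' * u * x'⁻¹) c' = c' := by
      rw [hc', map_mul, map_mul, map_inv, MulAut.mul_apply, MulAut.mul_apply, MulAut.inv_apply_self,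
        huc]
    have hR := H95.transvection_pGroup hexp (φ u) (φ (x' * u * x'⁻¹)) c c' huc hu'c hu
      (fun m => hc' ▸ conj_transvection hu x' m) huc'
    -- pull back along `a`
    have hR' : IsPGroup p (Subgroup.closure ({t, a⁻¹ * (x' * u * x'⁻¹) * a} : Set X)) := by
      have h1 : IsPGroup p ((Subgroup.closure ({t, a⁻¹ * (x' * u * x'⁻¹) * a} : Set X)).map
          (φ.comp (MulAut.conj a).toMonoidHom)) := by
        refine hR.to_le ?_
        rw [MonoidHom.map_closure, Set.image_pair,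
          show (φ.comp (MulAut.conj a).toMonoidHom) t = φ u by simp [hud],
          show (φ.comp (MulAut.conj a).toMonoidHom) (a⁻¹ * (x' * u * x'⁻¹) * a) = φ (x' * u * x'⁻¹) by
            simp [mul_assoc]]
      exact IsPGroup.of_injective h1 ((Subgroup.closure
        ({t, a⁻¹ * (x' * u * x'⁻¹) * a} : Set X)).equivMapOfInjective
          (φ.comp (MulAut.conj a).toMonoidHom)
          (hφ.comp (MulAut.conj a).injective)).toMonoidHom (MulEquiv.injective _)
    have hle := d.pgroup_le hR' fun hb => ht1 (mem_bot.1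
      (hb.le (mem_inf.2 ⟨subset_closure (by simp), hUH htU⟩)))
    have h2 : a⁻¹ * x' * a * t * (a⁻¹ * x' * a)⁻¹ ∈ H := by
      have := hle (subset_closure (show a⁻¹ * (x' * u * x'⁻¹) * a ∈
        ({t, a⁻¹ * (x' * u * x'⁻¹) * a} : Set X) by simp))
      simpa [hud, mul_assoc] using this
    have h3 := d.mem_of_conj (hUH htU) ht1 (hU.to_le (zpowers_le.2 htU)) h2
    have h4 := d.mem_of_conj (g := a⁻¹) (hUH hxU) hx'1 (hU.to_le (zpowers_le.2 hxU))
      (by rwa [inv_inv])
    exact ha (inv_inv a ▸ inv_mem h4)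
  · rcases H95.transvection_pair hexp (hfix t htU) huc ht hu with h | ⟨g, hg, hgt, hgz⟩
    · exact absurd h (hnp t htU ht1)
    have hgr : g ∈ φ.range := by
      refine (closure_le φ.range).2 ?_ hg
      rintro y (rfl | rfl) <;> exact ⟨_, rfl⟩
    obtain ⟨β, rfl⟩ := hgr
    refine ⟨β, hφ (by rw [map_mul, map_mul, hgt]), hgz, fun m hm => ?_⟩
    have hW := closure_moves_into (W := zpowers z ⊔ zpowers c) (s := {φ t, φ u}) (by
      rintro y (rfl | rfl) m
      · obtain ⟨i, hi⟩ := ht m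
        rw [hi, inv_mul_cancel_left]
        exact mem_sup_left (zpow_mem_zpowers z i)
      · obtain ⟨i, hi⟩ := hu m
        rw [hi, inv_mul_cancel_left]
        exact mem_sup_right (zpow_mem_zpowers c i)) _ hg m
    obtain ⟨y, ⟨i, rfl⟩, w, ⟨j, rfl⟩, hyw⟩ := mem_sup.1 hW
    simp only at hyw
    have hfw : φ t (c ^ j) = c ^ j := by
      have h0 : φ t (φ β m) = φ β m := by
        rw [← MulAut.mul_apply, ← hgt, MulAut.mul_apply, hm]
      have h1 : φ t (m⁻¹ * φ β m) = m⁻¹ * φ β m := by rw [map_mul, map_inv, hm, h0]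
      rw [← hyw, map_mul, map_zpow, hfix t htU] at h1
      exact mul_left_cancel h1
    have hcj : c ^ j = 1 := by
      by_cases hpj : (p : ℤ) ∣ j
      · obtain ⟨k, rfl⟩ := hpj
        rw [zpow_mul, zpow_natCast, hexp, one_zpow]
      exfalso
      obtain ⟨b1, b2, hb⟩ := (Prime.coprime_iff_not_dvd (Nat.prime_iff_prime_int.1 hp.out)).2 hpj
      refine hnp t htU ht1 (H95.transvection_pGroup hexp (φ t) (φ u) z c (hfix t htU) huc ht hu ?_)
      have e : c = (c ^ j) ^ b2 := by
        rw [← zpow_mul, show j * b2 = 1 + -(b1 * p) by linear_combination hb, zpow_add, zpow_one,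
          zpow_neg, mul_comm b1, zpow_mul, zpow_natCast, hexp, one_zpow, inv_one, mul_one]
      rw [e, map_zpow, hfw]
    rw [← hyw, hcj, mul_one]
    exact zpow_mem_zpowers z i

/-- A `p`-subgroup fixing the centre of one of its transvections is generated by it. -/
theorem transvection_spe (hexp : ∀ m : M, m ^ p = 1) (φ : X →* MulAut M) (hφ : Function.Injective φ)
    {H : Subgroup X} (hH : IsStronglyPEmbedded p H) {U : Subgroup X} (hU : IsPGroup p U) {t : X}
    (htU : t ∈ U) (ht1 : t ≠ 1) {z : M} (ht : ∀ m, ∃ i : ℤ, φ t m = m * z ^ i)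
    (hfix : ∀ g ∈ U, φ g z = z) :
    U = zpowers t ∧ ∃ β : X, β * t = t * β ∧ φ β z = z⁻¹ ∧
      ∀ m, φ t m = m → m⁻¹ * φ β m ∈ zpowers z := by
  obtain ⟨T, d⟩ := H73.exists_speData_of_isStronglyPEmbedded hH
  obtain ⟨R, hR⟩ := hU.exists_le_sylow
  obtain ⟨x, hx⟩ := MulAction.exists_smul_eq X T R
  let cj : X ≃* X := MulAut.conj x
  let φ' : X →* MulAut M := φ.comp cj.toMonoidHom
  have hU' : IsPGroup p (U.comap cj.toMonoidHom) := hU.comap_of_injective _ cj.injective
  have hUH : U.comap cj.toMonoidHom ≤ H := by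
    intro y hy
    refine d.sylow_le ?_
    have h1 : x * y * x⁻¹ ∈ (R : Subgroup X) := hR hy
    rw [← hx, Sylow.coe_subgroup_smul, Subgroup.mem_pointwise_smul_iff_inv_smul_mem] at h1
    simpa [mul_assoc] using h1
  have e : cj (cj.symm t) = t := cj.apply_symm_apply t
  obtain ⟨h1, β, hβ1, hβ2, hβ3⟩ := transvection_spe_aux hexp φ' (hφ.comp cj.injective) d hH.2.1 hU' hUH
    (t := cj.symm t) (by show cj (cj.symm t) ∈ U; rwa [e])
    (fun h => ht1 (by rw [← e, h, map_one]))
    (z := z) (fun m => by show ∃ i : ℤ, φ (cj (cj.symm t)) m = _; rw [e]; exact ht m)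
    (fun g hg => hfix (cj g) hg)
  refine ⟨?_, cj β, ?_, hβ2, fun m hm => hβ3 m (by show φ (cj (cj.symm t)) m = m; rwa [e])⟩
  · have := congrArg (Subgroup.map cj.toMonoidHom) h1
    rwa [map_comap_eq_self_of_surjective cj.surjective, MonoidHom.map_zpowers,
      show cj.toMonoidHom (cj.symm t) = t from e] at this
  · rw [← e, ← map_mul, ← map_mul, hβ1]

end Cfsg.Agent.H24
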