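import Cfsg.Agent.H24.MaxClassSmallSelfCentralizing
import Cfsg.Agent.H24.TransvectionSpe
import Cfsg.Agent.H93.Saturation
import Cfsg.Agent.H93.Essential
import Cfsg.Agent.H93.Mor
import Cfsg.Agent.H93.PearlData
import Cfsg.Agent.H95.NormalCriteria

/-!
An essential elementary abelian subgroup of order `p ^ 3` in a saturated fusion system over a group of maximal
class of order at least `p ^ 5` does not exist.
-/

set_option autoImplicit false

namespace Cfsg.Agent.H24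

open Subgroup Cfsg.FusionSystem
open Agent.H93

variable {Ω : Type*} [Group Ω] {S : Subgroup Ω} [Finite S] {p : ℕ} [hp : Fact p.Prime] {F : FusionSystem S}

omit [Finite S] in
theorem mor_zpow {X Y : Subgroup Ω} {f : Ω → Ω} (h : Mor F X Y f) {x : Ω} (hx : x ∈ X) (i : ℤ) :
    f (x ^ i) = f x ^ i := by
  obtain ⟨φ, -, -, hv⟩ := h
  rw [← hv ⟨x, hx⟩, ← map_zpow, hv]
  rfl

omit [Finite S] in
theorem mor_iterate {X : Subgroup Ω} {f : Ω → Ω} (h : Mor F X X f) : ∀ k : ℕ, Mor F X X f^[k]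
  | 0 => Mor.id F h.le_left
  | k + 1 => (Mor.comp h (mor_iterate h k)).congr fun x _ => (Function.iterate_succ_apply' f k x).symm

/-- A transvection induced by `N_S(E)` with centre fixed by `N_S(E)`. -/
theorem aut_cyclic (hS : IsPGroup p S) {E : Subgroup Ω} (hE : F.IsEssential p E)
    (hcard : Nat.card E = p ^ 3) (hab : IsMulCommutative E) (hexp : ∀ x ∈ E, x ^ p = 1)
    {t : Ω} (ht : t ∈ normalizerIn S E) (htE : t ∉ E) {z : Ω} (hz : z ∈ E)
    (move : ∀ x ∈ E, ∃ i : ℤ, t * x * t⁻¹ = x * z ^ i)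
    (fix : ∀ g ∈ normalizerIn S E, g * z * g⁻¹ = z) :
    Nat.card (normalizerIn S E) ≤ p ^ 4 ∧ ∃ f : Ω → Ω, Mor F E E f ∧
      (∀ g ∈ normalizerIn S E, ∀ x ∈ E, f (g * x * g⁻¹) = g * f x * g⁻¹) ∧ f z = z⁻¹ ∧
      ∀ x ∈ E, t * x * t⁻¹ = x → x⁻¹ * f x ∈ zpowers z := by
  classical
  obtain ⟨hc, hn, hnor, H, hH⟩ := hE
  have hES : E ≤ S := hn.1
  have hCE : centralizerIn S E ≤ E := hc.2 E (isConj_refl F hES)
  have := finite_of_le hES
  have := finite_mulAut hES
  have := finite_of_le (normalizerIn_le S E)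
  letI : CommGroup E := { (inferInstance : Group E) with mul_comm := hab.is_comm.comm }
  set A := F.autGroup E
  set I := (Inn E).subgroupOf A
  have hI : ∀ a ∈ I, (a : MulAut E) = 1 := by
    rintro a ⟨g, hg⟩
    change MulAut.conj g = (a : MulAut E) at hg
    rw [← hg]
    refine MulEquiv.ext fun x => ?_
    show g * x * g⁻¹ = x
    rw [mul_comm g x, mul_inv_cancel_right]
  let φ : (A ⧸ I) →* MulAut E := QuotientGroup.lift I A.subtype fun a ha => hI a ha
  have hφ : Function.Injective φ := by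
    intro a b
    induction a using QuotientGroup.induction_on with | H a => ?_
    induction b using QuotientGroup.induction_on with | H b => ?_
    intro h
    exact congrArg _ (Subtype.ext (a1 := a) (a2 := b) h)
  have hmem : ∀ g : normalizerIn S E, conjAut S E g ∈ A := fun g =>
    autInducedBy_le_autGroup F hES (by rw [autInducedBy_eq_range]; exact ⟨g, rfl⟩)
  let ι : normalizerIn S E →* A ⧸ I := (QuotientGroup.mk' I).comp ((conjAut S E).codRestrict A hmem)
  have hι : ∀ (g : normalizerIn S E) (x : E), ((φ (ι g) x : E) : Ω) = g * x * (g : Ω)⁻¹ :=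
    fun g x => rfl
  have hker : ∀ g : normalizerIn S E, ι g = 1 → (g : Ω) ∈ E := fun g hg => hCE (mem_centralizerIn.2
    ⟨g.2.1, fun x hx => by
      have := hι g ⟨x, hx⟩
      rwa [hg, map_one, MulAut.one_apply, eq_comm] at this⟩)
  have hU : IsPGroup p ι.range :=
    (isPGroup_of_le hS (normalizerIn_le S E)).of_surjective _ ι.rangeRestrict_surjective
  have hEexp : ∀ m : E, m ^ p = 1 := fun m => Subtype.ext (by simpa using hexp m m.2)
  have hmove : ∀ m : E, ∃ i : ℤ, φ (ι ⟨t, ht⟩) m = m * ⟨z, hz⟩ ^ i := fun m => by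
    obtain ⟨i, hi⟩ := move m m.2
    exact ⟨i, Subtype.ext (by rw [hι]; simpa using hi)⟩
  have hfix : ∀ g ∈ ι.range, φ g ⟨z, hz⟩ = ⟨z, hz⟩ := by
    rintro _ ⟨g, rfl⟩
    exact Subtype.ext (by rw [hι]; exact fix g g.2)
  obtain ⟨hU', β, hβt, hβz, hβfix⟩ := transvection_spe hEexp φ hφ hH hU ⟨⟨t, ht⟩, rfl⟩
    (fun h => htE (hker _ h)) hmove hfix
  refine ⟨?_, ?_⟩
  · have h1 : Nat.card ι.range ≤ p := by
      rw [hU', Nat.card_zpowers]
      refine Nat.le_of_dvd hp.out.pos (orderOf_dvd_of_pow_eq_one (hφ ?_))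
      rw [map_one]
      refine MulEquiv.ext fun m => ?_
      obtain ⟨i, hi⟩ := hmove m
      rw [← zpow_natCast, pow_apply_transvection (hfix _ ⟨_, rfl⟩) hi, MulAut.one_apply, zpow_mul,
        zpow_natCast, hEexp, mul_one]
    have h2 : Nat.card ι.ker ≤ p ^ 3 := hcard ▸ Nat.card_le_card_of_injective
      (fun g : ι.ker => (⟨g, hker g g.2⟩ : E)) (fun a b h => Subtype.ext (Subtype.ext (congrArg (fun y : E => (y : Ω)) h)))
    rw [← index_ker] at h1
    calc Nat.card (normalizerIn S E) = Nat.card ι.ker * ι.ker.index := ι.ker.card_mul_index.symm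
      _ ≤ p ^ 3 * p := Nat.mul_le_mul h2 h1
      _ = p ^ 4 := by ring
  · obtain ⟨⟨b, hb⟩, rfl⟩ := QuotientGroup.mk'_surjective I β
    obtain ⟨f, hf, hfb⟩ := exists_mor_of_aut hES hb
    refine ⟨f, hf, fun g hg x hx => ?_, ?_, fun x hx htx => ?_⟩
    · obtain ⟨k, hk⟩ : ι ⟨g, hg⟩ ∈ zpowers (ι ⟨t, ht⟩) := hU' ▸ ⟨_, rfl⟩
      have hcomm : QuotientGroup.mk' I ⟨b, hb⟩ * ι ⟨g, hg⟩ = ι ⟨g, hg⟩ * QuotientGroup.mk' I ⟨b, hb⟩ := by
        rw [← hk]; exact ((show Commute _ _ from hβt).zpow_right k).eq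
      have h1 : φ (QuotientGroup.mk' I ⟨b, hb⟩ * ι ⟨g, hg⟩) ⟨x, hx⟩ =
          φ (ι ⟨g, hg⟩ * QuotientGroup.mk' I ⟨b, hb⟩) ⟨x, hx⟩ := by rw [hcomm]
      rw [map_mul, map_mul, MulAut.mul_apply, MulAut.mul_apply] at h1
      have h2 := congrArg (fun y : E => (y : Ω)) h1
      simp only [hι] at h2
      have e1 : (⟨g * x * g⁻¹, (mem_normalizer_iff.1 hg.2 x).1 hx⟩ : E) = φ (ι ⟨g, hg⟩) ⟨x, hx⟩ :=
        Subtype.ext (hι ⟨g, hg⟩ ⟨x, hx⟩).symm
      rw [← e1] at h2
      rw [show f (g * x * g⁻¹) = _ from hfb ⟨_, _⟩, show f x = _ from hfb ⟨x, hx⟩]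
      exact h2
    · rw [show f z = _ from hfb ⟨z, hz⟩]
      exact congrArg (fun y : E => (y : Ω)) hβz
    · obtain ⟨i, hi⟩ := hβfix ⟨x, hx⟩ (Subtype.ext (by rw [hι]; exact htx))
      refine ⟨i, ?_⟩
      show z ^ i = x⁻¹ * f x
      have h := congrArg (fun y : E => (y : Ω)) hi
      simp only [SubgroupClass.coe_zpow, Subgroup.coe_mul, InvMemClass.coe_inv] at h
      rw [show f x = _ from hfb ⟨x, hx⟩]
      exact h

/-- The group-theoretic data attached to an essential elementary abelian subgroup of order `p ^ 3`. -/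
theorem MaxSetting.no_small_essential {n : ℕ} (M : MaxSetting S p n) (hp2 : p ≠ 2) (h5 : 5 ≤ n)
    (hF : F.IsSaturated p) {E : Subgroup Ω} (hE : F.IsEssential p E) (hcard : Nat.card E = p ^ 3)
    (hab : IsMulCommutative E) (hexp : ∀ x ∈ E, x ^ p = 1) : False := by
  classical
  have hS : IsPGroup p S := M.isP
  have hES : E ≤ S := hE.2.1.1
  have hCE : centralizerIn S E ≤ E := hE.1.2 E (isConj_refl F hES)
  have := finite_of_le hES
  -- translate to the group `S`
  set E₀ := E.subgroupOf S with hE₀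
  have hE₀c : Nat.card E₀ = p ^ 3 := by
    rw [Nat.card_congr (subgroupOfEquivOfLe hES).toEquiv, hcard]
  have hN₀ : normalizer (E₀ : Set S) = (normalizerIn S E).subgroupOf S := by
    ext g
    rw [mem_normalizer_iff, mem_subgroupOf]
    constructor
    · intro h
      refine ⟨g.2, mem_normalizer_iff.2 fun x => ⟨fun hx => (h ⟨x, hES hx⟩).1 hx, fun hx => ?_⟩⟩
      have hxS : x ∈ S := by simpa [mul_assoc] using mul_mem (mul_mem (inv_mem g.2) (hES hx)) g.2
      exact (h ⟨x, hxS⟩).2 hx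
    · intro h x
      exact mem_normalizer_iff.1 h.2 x
  have hab₀ : IsMulCommutative E₀ := ⟨⟨fun a b => Subtype.ext (Subtype.ext
    (congrArg (fun y : E => (y : Ω)) (hab.is_comm.comm ⟨_, a.2⟩ ⟨_, b.2⟩)))⟩⟩
  have hCE₀ : centralizer (E₀ : Set S) ≤ E₀ := fun g hg => hCE (mem_centralizerIn.2 ⟨g.2, fun x hx => by
    have := congrArg Subtype.val (mem_centralizer_iff.1 hg ⟨x, hES hx⟩ hx)
    simp only [Subgroup.coe_mul] at this
    show (g : Ω) * x * (g : Ω)⁻¹ = x
    rw [← this, mul_inv_cancel_right]⟩)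
  have hNcard : Nat.card (normalizer (E₀ : Set S)) = Nat.card (normalizerIn S E) := by
    rw [hN₀, Nat.card_congr (subgroupOfEquivOfLe (normalizerIn_le S E)).toEquiv]
  have memN : ∀ g : S, g ∈ normalizer (E₀ : Set S) → (g : Ω) ∈ normalizerIn S E := fun g hg => by
    rw [hN₀] at hg; exact hg
  have := finite_of_le (normalizerIn_le S E)
  -- the normalizer has order `p ^ 4`
  have hN4 : Nat.card (normalizer (E₀ : Set S)) = p ^ 4 := by
    have hle : Nat.card (normalizer (E₀ : Set S)) ≤ p ^ 4 := by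
      rcases exists_fixed_transvection hS hE₀c hab₀ hCE₀ with h | ⟨t, ht, htE, z, hz, hmv, hfx⟩
      · exact h
      rw [hNcard]
      refine (aut_cyclic hS hE hcard hab hexp (memN t ht) htE (z := z) hz (fun x hx => ?_)
        (fun g hg => ?_)).1
      · obtain ⟨i, hi⟩ := hmv ⟨x, hES hx⟩ hx
        exact ⟨i, by simpa using congrArg Subtype.val hi⟩
      · exact congrArg Subtype.val (hfx ⟨g, hg.1⟩ (by rw [hN₀]; exact hg))
    have hlt : E < S := lt_of_le_of_ne hES (IsEssential.ne_self hS hF hE)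
    obtain ⟨k, hk⟩ := (isPGroup_of_le hS (normalizerIn_le S E)).exists_card_eq
    have h3 : p ^ 3 < p ^ k := by
      rw [← hk, ← hcard]
      refine lt_of_le_of_ne (Subgroup.card_le_of_le (le_normalizerIn hES)) fun e => ?_
      exact (lt_normalizerIn hS hlt).ne (Subgroup.eq_of_le_of_card_ge (le_normalizerIn hES) e.ge)
    rw [hNcard, hk] at hle ⊢
    rw [le_antisymm ((Nat.pow_le_pow_iff_right hp.out.one_lt).1 hle)
      ((Nat.pow_lt_pow_iff_right hp.out.one_lt).1 h3)]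
  obtain ⟨t, u, D⟩ := M.exists_smallData hp2 h5 hE₀c hab₀ hCE₀ hN4
  rw [hNcard] at hN4
  obtain ⟨f, hf, hfN, hfu, hffix⟩ := (aut_cyclic hS hE hcard hab hexp (memN t D.tN) D.tE
    (z := (u : Ω)) D.uE (fun x hx => by
      obtain ⟨i, hi⟩ := D.move ⟨x, hES hx⟩ hx
      exact ⟨i, by simpa using congrArg Subtype.val hi⟩)
    (fun g hg => congrArg Subtype.val (D.fix ⟨g, hg.1⟩ (by rw [hN₀]; exact hg)))).2
  -- extend to the normalizer
  have hEr : F.IsReceptive E := IsFullyNormalized.isReceptive hS hF hE.2.1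
  obtain ⟨f₁, X, hf₁, hf₁E, hf₁EE⟩ := hf.extend hEr (M := normalizerIn S E)
    fun m hm => ⟨hm, m, hm.1, fun x hx => hfN m hm x hx⟩
  have hXeq : E ⊔ normalizerIn S E = normalizerIn S E := sup_eq_right.2 (le_normalizerIn hES)
  rw [hXeq] at hf₁
  have hf₁N : Mor F (normalizerIn S E) (normalizerIn S E) f₁ := by
    have hle : X ≤ normalizerIn S E := fun y hy => by
      obtain ⟨x, hx, rfl⟩ := hf₁.surj hy
      exact hf₁.map_mem_normalizerIn hf₁EE (le_normalizerIn hES) hx hx.2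
    rwa [Subgroup.eq_of_le_of_card_ge hle hf₁.card_eq.le] at hf₁
  -- the subgroup `P`
  set P₀ := lcw S (n - 3) with hP₀
  set P := P₀.map S.subtype with hP
  have hPmem : ∀ {g : S}, (g : Ω) ∈ P ↔ g ∈ P₀ := fun {g} => Subgroup.mem_map_iff_mem Subtype.val_injective
  have hPS : P ≤ S := map_subtype_le _
  have hPN : P ≤ normalizerIn S E := by
    rintro _ ⟨g, hg, rfl⟩
    exact memN g (D.le_N hg)
  have hPcard : Nat.card P = p ^ 3 := by
    rw [hP, Subgroup.card_map_of_injective Subtype.val_injective, hP₀, M.card_lcw (by omega) (by omega),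
      show n - (n - 3) = 3 by omega]
  have hPnorm : normalizerIn S P = S := by
    refine le_antisymm (normalizerIn_le S P) fun g hg => ⟨hg, mem_normalizer_iff.2 fun x => ?_⟩
    constructor
    · rintro ⟨y, hy, rfl⟩
      exact ⟨_, (lcw_normal _).conj_mem y hy ⟨g, hg⟩, rfl⟩
    · rintro ⟨y, hy, hyx⟩
      exact ⟨_, (lcw_normal _).conj_mem y hy ⟨g, hg⟩⁻¹, by
        simp only [Subgroup.subtype_apply] at hyx
        simp [hyx, mul_assoc]⟩
  have hPfull : F.IsFullyNormalized P := ⟨hPS, fun Q _ => by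
    rw [hPnorm]
    exact Subgroup.card_le_of_le (normalizerIn_le S Q)⟩
  -- `f₁` stabilizes `P`
  obtain ⟨R, hR, hRm⟩ := hf₁N.restrict hPN
  have hRP : R = P := by
    have hRS : R ≤ S := hRm.le_right
    have hRab : IsMulCommutative (R.subgroupOf S) := by
      refine ⟨⟨fun a b => Subtype.ext (Subtype.ext ?_)⟩⟩
      show (a : Ω) * b = b * a
      obtain ⟨x, hx, hxa⟩ := hRm.surj a.2
      obtain ⟨y, hy, hyb⟩ := hRm.surj b.2
      simp only [Subgroup.subtype_apply] at hxa hyb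
      rw [← hxa, ← hyb, ← hRm.map_mul hx hy, ← hRm.map_mul hy hx]
      congr 1
      obtain ⟨x', hx', rfl⟩ := hx
      obtain ⟨y', hy', rfl⟩ := hy
      exact congrArg (fun y : S => (y : Ω))
        (congrArg Subtype.val ((M.commutative_three h5).is_comm.comm ⟨x', hx'⟩ ⟨y', hy'⟩))
    rcases D.others (R.subgroupOf S) (by rw [hN₀]; exact fun g hg => hR hg)
      (by rw [Nat.card_congr (subgroupOfEquivOfLe hRS).toEquiv, ← hRm.card_eq, hPcard]) hRab
      with h | ⟨g, hg⟩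
    · rw [hP, hP₀, ← h, map_subgroupOf_eq_of_le hRS]
    exfalso
    have hconj : F.IsConj E R := by
      refine ⟨conjHom E (g : Ω), F.conj_mem hES g.2, ?_⟩
      have e : R = (E₀.map (MulAut.conj g).toMonoidHom).map S.subtype := by
        rw [← hg, map_subgroupOf_eq_of_le hRS]
      rw [e]
      ext y
      constructor
      · rintro ⟨x, rfl⟩
        exact ⟨_, ⟨⟨x, hES x.2⟩, x.2, rfl⟩, rfl⟩
      · rintro ⟨_, ⟨x, hx, rfl⟩, rfl⟩
        exact ⟨⟨x, hx⟩, rfl⟩
    have h1 := hE.2.1.2 P (isConj_trans hconj (isConj_symm hRm.isConj))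
    rw [hPnorm, hN4, M.card] at h1
    have := (Nat.pow_le_pow_iff_right hp.out.one_lt).1 h1
    omega
  subst hRP
  -- elements of `P`
  have hPcomm : ∀ {a b : Ω}, a ∈ P → b ∈ P → a * b = b * a := by
    rintro _ _ ⟨a, ha, rfl⟩ ⟨b, hb, rfl⟩
    exact congrArg (fun y : S => (y : Ω))
      (congrArg Subtype.val ((M.commutative_three h5).is_comm.comm ⟨a, ha⟩ ⟨b, hb⟩))
  have huP : (u : Ω) ∈ P := hPmem.2 (lcw_le (by omega) D.uP)
  have htP : (t : Ω) ∈ P := hPmem.2 D.tP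
  have hfuu : f₁ u = (u : Ω)⁻¹ := by rw [hf₁E (u : Ω) D.uE, hfu]
  have hfU : ∀ v ∈ zpowers (u : Ω), f₁ v ∈ zpowers (u : Ω) := by
    rintro _ ⟨i, rfl⟩
    show f₁ ((u : Ω) ^ i) ∈ _
    rw [mor_zpow hRm huP, hfuu]
    exact zpow_mem (inv_mem (mem_zpowers _)) i
  have hUP : zpowers (u : Ω) ≤ P := zpowers_le.2 huP
  have hfD : ∀ d ∈ E, d ∈ P → d⁻¹ * f₁ d ∈ zpowers (u : Ω) := by
    intro d hd hdP
    rw [hf₁E d hd]
    refine hffix d hd ?_
    obtain ⟨d', hd', rfl⟩ := hdP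
    have := congrArg (fun y : S => (y : Ω)) (D.cent d' hd hd').eq
    simp only [Subgroup.coe_mul] at this
    rw [Subgroup.subtype_apply, this, mul_inv_cancel_right]
  obtain ⟨w, hw⟩ : ∃ w, w = (t : Ω)⁻¹ * f₁ t := ⟨_, rfl⟩
  have hwP : w ∈ P := hw ▸ mul_mem (inv_mem htP) (hRm.map_mem htP)
  have hwE : w ∈ E := by
    refine hCE (mem_centralizerIn.2 ⟨hPS hwP, fun y hy => ?_⟩)
    obtain ⟨x, hx, rfl⟩ := hf.surj hy
    have hxN := le_normalizerIn hES hx
    have htN := memN t D.tN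
    have h1 := hf₁N.map_conj htN hxN
    rw [hf₁E _ (mem_normalizerIn_conj htN hx), hfN _ htN x hx, hf₁E x hx] at h1
    have h2 := congrArg (fun y => (t : Ω)⁻¹ * y * t) h1
    rw [hw]
    simpa [mul_assoc] using h2.symm
  have hit : ∀ k : ℕ, (∀ d ∈ E, d ∈ P → d⁻¹ * f₁^[k] d ∈ zpowers (u : Ω)) ∧
      ((t : Ω) * w ^ k)⁻¹ * f₁^[k] t ∈ zpowers (u : Ω) := by
    intro k
    induction k with
    | zero => exact ⟨fun d _ _ => by simp, by simp⟩
    | succ k ih =>
      refine ⟨fun d hd hdP => ?_, ?_⟩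
      · rw [Function.iterate_succ_apply']
        have h1 := ih.1 d hd hdP
        generalize f₁^[k] d = y at h1
        obtain ⟨v, hv, rfl⟩ : ∃ v ∈ zpowers (u : Ω), y = d * v :=
          ⟨_, h1, (mul_inv_cancel_left _ _).symm⟩
        rw [hRm.map_mul hdP (hUP hv), ← mul_assoc]
        exact mul_mem (hfD d hd hdP) (hfU v hv)
      · rw [Function.iterate_succ_apply']
        have h1 := ih.2
        generalize f₁^[k] (t : Ω) = y at h1
        obtain ⟨v, hv, rfl⟩ : ∃ v ∈ zpowers (u : Ω), y = (t : Ω) * w ^ k * v :=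
          ⟨_, h1, (mul_inv_cancel_left _ _).symm⟩
        obtain ⟨a, ha, hfw⟩ : ∃ a ∈ zpowers (u : Ω), f₁ w = w * a :=
          ⟨_, hfD w hwE hwP, (mul_inv_cancel_left _ _).symm⟩
        rw [hRm.map_mul (mul_mem htP (pow_mem hwP k)) (hUP hv), hRm.map_mul htP (pow_mem hwP k),
          ← zpow_natCast w k, mor_zpow hRm hwP, zpow_natCast, hfw,
          (show Commute w a from hPcomm hwP (hUP ha)).mul_pow, show f₁ (t : Ω) = t * w by
            rw [hw, mul_inv_cancel_left],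
          show ((t : Ω) * w ^ (k + 1))⁻¹ * (t * w * (w ^ k * a ^ k) * f₁ v) = a ^ k * f₁ v by
            rw [pow_succ']; simp [mul_assoc]]
        exact mul_mem (pow_mem ha k) (hfU v hv)
  set f₂ := f₁^[p] with hf₂
  have hf₂P : Mor F P P f₂ := mor_iterate hRm p
  have hrefl : ∀ y ∈ P, y⁻¹ * f₂ y ∈ zpowers (u : Ω) := by
    intro y hy
    obtain ⟨y', hy', rfl⟩ := hy
    obtain ⟨a, haE, haP⟩ := D.coords y' hy'
    obtain ⟨d, hd, hdP, rfl⟩ : ∃ d : S, d ∈ E₀ ∧ d ∈ P₀ ∧ y' = t ^ a * d :=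
      ⟨_, haE, haP, (mul_inv_cancel_left _ _).symm⟩
    have h1 := (hit p).2
    rw [hexp w hwE, mul_one, ← hf₂] at h1
    have h2 := (hit p).1 (d : Ω) hd (hPmem.2 hdP)
    rw [← hf₂] at h2
    obtain ⟨v, hv, hv'⟩ : ∃ v ∈ zpowers (u : Ω), f₂ t = (t : Ω) * v :=
      ⟨_, h1, (mul_inv_cancel_left _ _).symm⟩
    obtain ⟨v₂, hv₂, hv₂'⟩ : ∃ v ∈ zpowers (u : Ω), f₂ d = (d : Ω) * v :=
      ⟨_, h2, (mul_inv_cancel_left _ _).symm⟩
    simp only [Subgroup.subtype_apply, Subgroup.coe_mul, SubmonoidClass.coe_pow]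
    have hta : f₂ ((t : Ω) ^ a) = (t : Ω) ^ a * v ^ a := by
      rw [← zpow_natCast, mor_zpow hf₂P htP, zpow_natCast, hv',
        (show Commute (t : Ω) v from hPcomm htP (hUP hv)).mul_pow, zpow_natCast]
    rw [hf₂P.map_mul (pow_mem htP a) (hPmem.2 hdP), hta, hv₂', show (t : Ω) ^ a * v ^ a * ((d : Ω) * v₂) = (t : Ω) ^ a * d * (v ^ a * v₂) by
        rw [show (t : Ω) ^ a * v ^ a * ((d : Ω) * v₂) = (t : Ω) ^ a * (v ^ a * d) * v₂ by
          simp [mul_assoc], hPcomm (pow_mem (hUP hv) a) (hPmem.2 hdP)]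
        simp [mul_assoc],
      inv_mul_cancel_left]
    exact mul_mem (pow_mem hv a) hv₂
  have hf₂u : f₂ u = (u : Ω)⁻¹ := by
    have h : ∀ k : ℕ, f₁^[2 * k + 1] (u : Ω) = (u : Ω)⁻¹ := by
      intro k
      induction k with
      | zero => exact hfuu
      | succ k ih =>
        rw [show 2 * (k + 1) + 1 = (2 * k + 1) + 1 + 1 by ring, Function.iterate_succ_apply',
          Function.iterate_succ_apply', ih, hRm.map_inv huP, hfuu, inv_inv, hfuu]
    obtain ⟨k, hk⟩ := hp.out.odd_of_ne_two hp2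
    rw [hf₂, hk, h k]
  -- the reflection on the group `S`
  let σ : ↥P₀ →* ↥S := MonoidHom.mk' (fun y => ⟨f₂ ((y : S) : Ω), hf₂P.le_right (hf₂P.map_mem (hPmem.2 y.2))⟩)
    fun a b => Subtype.ext (hf₂P.map_mul (hPmem.2 a.2) (hPmem.2 b.2))
  have hσ : ∀ y : ↥P₀, ((σ y : S) : Ω) = f₂ ((y : S) : Ω) := fun _ => rfl
  have hσP : ∀ y : ↥P₀, σ y ∈ P₀ := fun y => hPmem.1 (hf₂P.map_mem (hPmem.2 y.2))
  refine M.no_reflection hp2 h5 u D.uP D.u1 ?_ D.une σ (fun y => ?_) (Subtype.ext hf₂u) fun K hK => ?_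
  · exact Subtype.ext (by simpa using hexp _ D.uE)
  · obtain ⟨i, hi⟩ := hrefl _ (hPmem.2 y.2)
    exact ⟨i, Subtype.ext (by simpa [hσ] using hi)⟩
  -- transported conjugations are induced by elements of `S`
  have := finite_of_le hPS
  have := finite_mulAut hPS
  let W : ℕ → Subgroup P := fun i => (lcw S (n - i)).comap (Subgroup.inclusion hPS)
  have hW0 : W 0 = ⊥ := by
    rw [eq_bot_iff]
    intro x hx
    have hx' : Subgroup.inclusion hPS x ∈ lcw S n := hx
    rw [M.lcw_top_eq, Subgroup.mem_bot] at hx'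
    exact Subgroup.mem_bot.2 ((Subgroup.inclusion_injective hPS) (hx'.trans (map_one _).symm))
  have hW3 : W 3 = ⊤ := eq_top_iff.2 fun x _ => hPmem.1 x.2
  have hstab : autInducedBy S P ≤ F.autGroup P ⊓ H95.chainStab W 3 := by
    refine le_inf (autInducedBy_le_autGroup F hPS) fun α hα i hi x hx => ?_
    obtain ⟨s, hs, hα⟩ := mem_autInducedBy.1 hα
    have e : Subgroup.inclusion hPS (α x) = ⟨s, hs⟩ * Subgroup.inclusion hPS x * ⟨s, hs⟩⁻¹ :=
      Subtype.ext (hα x)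
    have h1 := comm_mem_lcw (i := n - (i + 1)) (j := 1) (by omega) le_rfl
      (inv_mem (show Subgroup.inclusion hPS x ∈ lcw S (n - (i + 1)) from hx))
      (lcw_one (G := S) ▸ mem_top (⟨s, hs⟩ : S))
    rw [show n - (i + 1) + 1 = n - i by omega] at h1
    have h2 : x⁻¹ * α x ∈ W i := by
      show Subgroup.inclusion hPS (x⁻¹ * α x) ∈ lcw S (n - i)
      rw [map_mul, map_inv, e]
      convert h1 using 1
      simp [commutatorElement_def, mul_assoc]
    refine ⟨h2, ?_⟩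
    have h3 := mul_mem hx (show x⁻¹ * α x ∈ W (i + 1) from lcw_le (by omega) h2)
    rwa [mul_inv_cancel_left] at h3
  have hsyl : F.autGroup P ⊓ H95.chainStab W 3 ≤ autInducedBy S P := by
    have hT : IsPGroup p (F.autGroup P ⊓ H95.chainStab W 3 : Subgroup (MulAut P)) :=
      (H95.isPGroup_chainStab (isPGroup_of_le hS hPS) hW0 hW3).to_le inf_le_right
    obtain ⟨β, -, hβ⟩ := exists_conj_le_autInducedBy
      (IsFullyNormalized.isFullyAutomized hS hF hPfull) inf_le_left hT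
    have h1 : (F.autGroup P ⊓ H95.chainStab W 3).map (MulAut.conj β).toMonoidHom ≤ autInducedBy S P := by
      rintro _ ⟨α, hα, rfl⟩
      exact hβ α hα
    have h2 := Subgroup.card_le_of_le h1
    rw [Subgroup.card_map_of_injective (MulAut.conj β).injective] at h2
    exact (Subgroup.eq_of_le_of_card_ge hstab h2).ge
  obtain ⟨f', X', hf', hf'P, -⟩ := hf₂P.extend (IsFullyNormalized.isReceptive hS hF hPfull)
    (M := K.map S.subtype) (fun m hm => by
      obtain ⟨g, hg, rfl⟩ := hm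
      have hgN : (g : Ω) ∈ normalizerIn S P := hPnorm.symm ▸ g.2
      refine ⟨hgN, ?_⟩
      obtain ⟨fi, hfi, hfi1, hfi2⟩ := hf₂P.exists_inv
      have hγ := Mor.comp hf₂P (Mor.comp (mor_conj F hPS hgN) hfi)
      obtain ⟨α, hα, hαv⟩ := hγ.exists_aut
      have hαs : α ∈ H95.chainStab W 3 := by
        intro i hi x hx
        obtain ⟨y, hy, hyx⟩ := hf₂P.surj x.2
        obtain ⟨y', hy', rfl⟩ := hy
        simp only [Subgroup.subtype_apply] at hyx
        obtain ⟨hK2, hK1, hK0⟩ := hK g hg ⟨y', hy'⟩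
        have ex : Subgroup.inclusion hPS x = σ ⟨y', hy'⟩ := Subtype.ext hyx.symm
        have eα : Subgroup.inclusion hPS (α x) =
            σ ⟨g * y' * g⁻¹, (lcw_normal _).conj_mem _ hy' g⟩ := by
          refine Subtype.ext ((hαv x).trans ?_)
          rw [← hyx, hfi1 (y' : Ω) (hPmem.2 hy')]
          rfl
        have h2 : x⁻¹ * α x ∈ W i := by
          show Subgroup.inclusion hPS (x⁻¹ * α x) ∈ lcw S (n - i)
          rw [map_mul, map_inv, eα, ex]
          replace hx : σ ⟨y', hy'⟩ ∈ lcw S (n - (i + 1)) := ex ▸ hx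
          rcases (show i = 0 ∨ i = 1 ∨ i = 2 by omega) with rfl | rfl | rfl
          · rw [hK0 hx, inv_mul_cancel]; exact one_mem _
          · exact hK1 hx
          · exact hK2
        refine ⟨h2, ?_⟩
        have h3 := mul_mem hx (show x⁻¹ * α x ∈ W (i + 1) from lcw_le (by omega) h2)
        rwa [mul_inv_cancel_left] at h3
      obtain ⟨s, hs, hse⟩ := mem_autInducedBy.1 (hsyl ⟨hα, hαs⟩)
      refine ⟨s, hs, fun x hx => ?_⟩
      have h1 := hαv ⟨f₂ x, hf₂P.map_mem hx⟩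
      rw [hse, hfi1 x hx] at h1
      exact h1.symm)
  have hKmem : ∀ y : ↥K, ((y : S) : Ω) ∈ P ⊔ K.map S.subtype := fun y =>
    mem_sup_right (mem_map_of_mem S.subtype y.2)
  refine ⟨MonoidHom.mk' (fun y => (⟨f' ((y : S) : Ω), hf'.le_right (hf'.map_mem (hKmem y))⟩ : S))
    (fun a b => Subtype.ext (hf'.map_mul (hKmem a) (hKmem b))), ?_, fun y h => ?_⟩
  · intro a b hab'
    exact Subtype.ext (Subtype.ext (hf'.injOn (hKmem a) (hKmem b) (congrArg Subtype.val hab')))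
  · exact Subtype.ext (hf'P _ (hPmem.2 h))

end Cfsg.Agent.H24
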