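import Cfsg.Agent.H24.SupersolubleFailures
import Cfsg.Agent.H24.ResistantMetacyclic

/-!
Dihedral, semidihedral and quaternion Sylow 2-subgroups with fused involutions or elements of
order 4 do not allow a chain of strongly closed subgroups with cyclic steps.
-/

namespace Cfsg.Agent.H24

open Subgroup

variable {Ω : Type*} [Group Ω] {S : Subgroup Ω} [Finite S]

/-- A step of a chain, read in a group having `S` as a Sylow subgroup. -/
theorem exists_closed_step {p : ℕ} [Fact p.Prime] {G : Type*} [Group G] [Finite G] (T : Sylow p G)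
    (e : S ≃* (T : Subgroup G)) (h : ∀ F : FusionSystem S, F.IsSaturated p → HasCyclicChain F)
    (P : Subgroup G → Prop) (h0 : P ⊥) (hT : ¬ P T) :
    ∃ C : Subgroup G, ∃ x : G, C ≤ T ∧ x ∈ (T : Subgroup G) ∧ P C ∧ ¬ P (C ⊔ zpowers x) ∧
      ∀ u ∈ C ⊔ zpowers x, ∀ g : G, g * u * g⁻¹ ∈ (T : Subgroup G) →
        g * u * g⁻¹ ∈ C ⊔ zpowers x := by
  obtain ⟨F, hF, hfus⟩ := exists_realized T e
  let ι : S →* G := (T : Subgroup G).subtype.comp e.toMonoidHom
  have hrange : ι.range = (T : Subgroup G) := by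
    ext g
    exact ⟨fun ⟨s, hs⟩ => hs ▸ (e s).2, fun hg => ⟨e.symm ⟨g, hg⟩, by simp [ι]⟩⟩
  obtain ⟨C, D, x, hx, hC, hD, hPC, hPD, rfl⟩ := chain_step (h F hF)
    (fun X => P ((X.subgroupOf S).map ι))
    (by simpa using h0) (by rw [subgroupOf_self, ← MonoidHom.range_eq_map, hrange]; exact hT)
  have hsup : ((C ⊔ zpowers x).subgroupOf S).map ι =
      (C.subgroupOf S).map ι ⊔ zpowers (ι ⟨x, hx⟩) := by
    rw [← MonoidHom.map_zpowers, ← Subgroup.map_sup, subgroupOf_sup hC.1 (zpowers_le.mpr hx)]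
    congr 2
    ext u
    rw [mem_subgroupOf, mem_zpowers_iff, mem_zpowers_iff]
    exact exists_congr fun k => ⟨fun hk => Subtype.ext (by simpa using hk),
      fun hk => by simpa using congrArg Subtype.val hk⟩
  refine ⟨(C.subgroupOf S).map ι, ι ⟨x, hx⟩, ?_, (e ⟨x, hx⟩).2, hPC, by rwa [← hsup], ?_⟩
  · rintro _ ⟨s, -, rfl⟩; exact (e s).2
  rw [← hsup]
  rintro _ ⟨⟨v, hv⟩, hvD, rfl⟩ g hg
  obtain ⟨⟨y, hy⟩, hey⟩ : ∃ s : S, ι s = g * ι ⟨v, hv⟩ * g⁻¹ := by rwa [← hrange] at hg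
  obtain ⟨φ, hφ, hφv⟩ := hfus v y hv hy ⟨g, hey⟩
  have := hD.2 (zpowers v) (zpowers_le.mpr hvD) φ hφ ⟨v, mem_zpowers v⟩
  rw [hφv] at this
  exact ⟨⟨y, hy⟩, this, hey⟩

section

variable {G : Type*} [Group G] [Finite G] {g s : G} {a : ℕ}

theorem eq_half_of_involution {b : ℕ} (hg : orderOf g = 2 ^ (b + 1)) {x : G} (hx : x ∈ zpowers g)
    (h2 : x ^ 2 = 1) (h1 : x ≠ 1) : x = g ^ 2 ^ b := by
  obtain ⟨i, rfl⟩ := mem_zpowers_iff.1 hx
  rw [← zpow_natCast, ← zpow_mul, ← orderOf_dvd_iff_zpow_eq_one, hg, pow_succ] at h2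
  obtain ⟨j, rfl⟩ : ((2 ^ b : ℕ) : ℤ) ∣ i := by
    refine Int.dvd_of_mul_dvd_mul_right two_ne_zero ?_
    exact_mod_cast h2
  rw [zpow_mul, zpow_natCast] at h1 ⊢
  rcases eq_pow_of_mem_zpowers_sq' (q := g ^ 2 ^ b) (by
    rw [← pow_mul, ← pow_succ, ← hg, pow_orderOf_eq_one]) j with h | h
  · exact absurd h h1
  · exact h
where
  eq_pow_of_mem_zpowers_sq' {q : G} (hq : q ^ 2 = 1) (j : ℤ) : q ^ j = 1 ∨ q ^ j = q := by
    rcases Int.even_or_odd' j with ⟨k, rfl | rfl⟩
    · left; rw [zpow_mul, zpow_two, ← pow_two, hq, one_zpow]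
    · right; rw [zpow_add, zpow_mul, zpow_two, ← pow_two, hq, one_zpow, one_mul, zpow_one]

/-- A nontrivial element of a `2`-group has a power which is an involution. -/
theorem exists_pow_involution {x : G} {n : ℕ} (hx : x ^ 2 ^ n = 1) (h1 : x ≠ 1) :
    ∃ k : ℕ, (x ^ 2 ^ k) ^ 2 = 1 ∧ x ^ 2 ^ k ≠ 1 := by
  induction n with
  | zero => exact absurd (by simpa using hx) h1
  | succ n ih =>
    by_cases h : x ^ 2 ^ n = 1
    · exact ih h
    · exact ⟨n, by rw [← pow_mul, ← pow_succ, hx], h⟩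

/-- Dihedral Sylow subgroup with a fused central involution. -/
theorem not_chain_of_dihedral_sylow (T : Sylow 2 G) (e : S ≃* (T : Subgroup G)) (ha : 2 ≤ a)
    (hg : orderOf g = 2 ^ a) (hs : s * s = 1) (hsg : s * g * s = g⁻¹) (hns : s ∉ zpowers g)
    (hgT : g ∈ (T : Subgroup G)) (hsT : s ∈ (T : Subgroup G))
    (hmem : ∀ t ∈ (T : Subgroup G), ∃ i : ℤ, t = g ^ i ∨ t = g ^ i * s)
    (hfus : ∃ c : G, c * g ^ 2 ^ (a - 1) * c⁻¹ = g * s) :
    ¬ ∀ F : FusionSystem S, F.IsSaturated 2 → HasCyclicChain F := by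
  intro h
  obtain ⟨b, rfl⟩ : ∃ b, a = b + 2 := ⟨a - 2, by omega⟩
  have hTne : ¬ (T : Subgroup G) = ⊥ := fun hb => hns (by
    rw [hb, Subgroup.mem_bot] at hsT; rw [hsT]; exact one_mem _)
  obtain ⟨C, x, -, hxT, rfl, hne, hcl⟩ := exists_closed_step T e h (fun X => X = ⊥) rfl hTne
  rw [bot_sup_eq] at hne hcl
  have hx1 : x ≠ 1 := fun h1 => hne (by rw [h1, zpowers_one_eq_bot])
  have hconj : ∀ i : ℤ, s * g ^ i * s = g ^ (-i) := fun i => by
    have hi : s⁻¹ = s := inv_eq_of_mul_eq_one_right hs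
    rw [zpow_neg, ← inv_zpow, ← hsg]
    nth_rw 2 4 [← hi]
    rw [conj_zpow]
  have hxg : x ∈ zpowers g := by
    obtain ⟨i, rfl | rfl⟩ := hmem x hxT
    · exact zpow_mem (mem_zpowers g) i
    exfalso
    have hx2 : (g ^ i * s) ^ 2 = 1 := by
      rw [pow_two, show g ^ i * s * (g ^ i * s) = g ^ i * (s * g ^ i * s) by simp only [mul_assoc],
        hconj, ← zpow_add, add_neg_cancel, zpow_zero]
    have hmem' := hcl _ (mem_zpowers _) g (mul_mem (mul_mem hgT hxT) (inv_mem hgT))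
    have hc : g * (g ^ i * s) * g⁻¹ = g ^ (i + 2) * s := by
      have : s * g⁻¹ = g * s := by
        calc s * g⁻¹ = s * g ^ (-1 : ℤ) * s * s := by rw [mul_assoc _ s s, hs, mul_one, zpow_neg_one]
          _ = g * s := by rw [hconj, neg_neg, zpow_one]
      rw [mul_assoc g, mul_assoc (g ^ i), this]
      group
    rw [hc] at hmem'
    obtain ⟨j, hj⟩ := mem_zpowers_iff.1 hmem'
    rcases eq_half_of_involution.eq_pow_of_mem_zpowers_sq' hx2 j with h1 | h1 <;> rw [hj] at h1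
    · apply hns
      rw [← inv_eq_of_mul_eq_one_right h1]
      exact inv_mem (zpow_mem (mem_zpowers g) _)
    · have h2 : g ^ (2 : ℤ) = 1 := by
        have := mul_right_cancel h1
        rwa [zpow_add, mul_eq_left] at this
      rw [zpow_two, ← pow_two, ← orderOf_dvd_iff_pow_eq_one, hg] at h2
      have := Nat.le_of_dvd two_pos h2
      have : 4 ≤ 2 ^ (b + 2) := by
        calc 4 = 2 ^ 2 := rfl
          _ ≤ _ := Nat.pow_le_pow_right two_pos (by omega)
      omega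
  obtain ⟨k, hk2, hk1⟩ := exists_pow_involution (n := b + 2) (x := x) (by
    obtain ⟨i, rfl⟩ := mem_zpowers_iff.1 hxg
    rw [← zpow_natCast, ← zpow_mul, mul_comm, zpow_mul, zpow_natCast, ← hg, pow_orderOf_eq_one,
      one_zpow]) hx1
  have hh : x ^ 2 ^ k = g ^ 2 ^ (b + 1) := eq_half_of_involution hg (pow_mem hxg _) hk2 hk1
  obtain ⟨c, hc⟩ := hfus
  rw [show b + 2 - 1 = b + 1 by omega, ← hh] at hc
  have h1 := hcl _ (pow_mem (mem_zpowers x) (2 ^ k)) c (by rw [hc]; exact mul_mem hgT hsT)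
  rw [hc] at h1
  exact hns ((Subgroup.mul_mem_cancel_left _ (mem_zpowers g)).1 (zpowers_le.mpr hxg h1))

/-- Semidihedral or quaternion Sylow subgroup with fused elements of order 4. -/
theorem not_chain_of_order_four_fused (H : Subgroup G) (T : Sylow 2 H) (e : S ≃* (T : Subgroup H))
    (ha : 2 ≤ a) (hg : orderOf g = 2 ^ (a + 1)) (hs : s * s = 1)
    (hsg : s * g * s = g ^ 2 ^ a * g⁻¹) (hns : s ∉ zpowers g)
    (hz : g ^ 2 ^ a ∈ Subgroup.center G) (hmem : ∀ t ∈ (T : Subgroup H), ∃ i : ℤ, (t : G) = g ^ i ∨ (t : G) = g ^ i * s)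
    (hh : g ^ 2 ^ (a - 1) ∈ (T : Subgroup H).map H.subtype)
    (hgs : g * s ∈ (T : Subgroup H).map H.subtype)
    (heven : ∀ i : ℤ, g ^ i * s ∈ (T : Subgroup H).map H.subtype → Even i →
      g ∈ (T : Subgroup H).map H.subtype)
    (hfus : ∀ y y' : G, y ∈ H → y' ∈ H → y * y = g ^ 2 ^ a → y' * y' = g ^ 2 ^ a →
      ∃ c ∈ H, c * y * c⁻¹ = y') :
    ¬ ∀ F : FusionSystem S, F.IsSaturated 2 → HasCyclicChain F := by
  intro h
  obtain ⟨b, rfl⟩ : ∃ b, a = b + 2 := ⟨a - 2, by omega⟩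
  set z := g ^ 2 ^ (b + 2) with hzdef
  have hzz : z * z = 1 := by rw [hzdef, ← pow_add, ← two_mul, ← pow_succ', ← hg, pow_orderOf_eq_one]
  have hzc : ∀ u : G, Commute z u := fun u => (Subgroup.mem_center_iff.1 hz u).symm
  have hz1 : z ≠ 1 := by
    rw [hzdef, Ne, ← orderOf_dvd_iff_pow_eq_one, hg, Nat.pow_dvd_pow_iff_le_right (le_refl 2)]
    omega
  set hv : G := g ^ 2 ^ (b + 2 - 1) with hhv
  have hh2 : hv * hv = z := by
    rw [hhv, hzdef, ← pow_add, ← two_mul, ← pow_succ']; rfl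
  have hi : s⁻¹ = s := inv_eq_of_mul_eq_one_right hs
  have hconj : ∀ i : ℤ, s * g ^ i * s = z ^ i * g ^ (-i) := fun i => by
    rw [zpow_neg, ← inv_zpow, ← (hzc g⁻¹).mul_zpow, ← hsg]
    nth_rw 2 4 [← hi]
    rw [conj_zpow]
  have hsq : ∀ i : ℤ, (g ^ i * s) * (g ^ i * s) = z ^ i := fun i => by
    rw [show g ^ i * s * (g ^ i * s) = g ^ i * (s * g ^ i * s) by simp only [mul_assoc], hconj,
      ← mul_assoc, ← ((hzc (g ^ i)).zpow_left i).eq, mul_assoc, ← zpow_add, add_neg_cancel, zpow_zero,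
      mul_one]
  let Z : Subgroup H := (zpowers z).subgroupOf H
  obtain ⟨h₀, hh₀T, hh₀⟩ := hh
  obtain ⟨w₀, hw₀T, hw₀⟩ := hgs
  have hh₀Z : h₀ ∉ Z := fun hm => by
    obtain ⟨j, hj⟩ := mem_zpowers_iff.1 (mem_subgroupOf.1 hm)
    rw [show (h₀ : G) = hv from hh₀] at hj
    have : hv * hv = 1 := by
      rw [← hj, ← zpow_add, ← two_mul, zpow_mul, zpow_two, hzz, one_zpow]
    exact hz1 (hh2 ▸ this)
  obtain ⟨C, x, hCT, hxT, hC, hD, hcl⟩ :=
    exists_closed_step T e h (fun X => X ≤ Z) bot_le fun hle => hh₀Z (hle hh₀T)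
  set D := C ⊔ zpowers x with hDdef
  have hDT : D ≤ (T : Subgroup H) := sup_le hCT (zpowers_le.mpr hxT)
  have hab : ∀ u ∈ D, ∀ v ∈ D, Commute u v := by
    have key : ∀ u ∈ D, ∀ v ∈ D, v ∈ centralizer ({u} : Set H) := by
      have hCc : ∀ c ∈ C, ∀ v : H, Commute c v := fun c hc v => by
        obtain ⟨j, hj⟩ := mem_zpowers_iff.1 (mem_subgroupOf.1 (hC hc))
        refine Subtype.ext ?_
        show (c : G) * v = v * c
        rw [← hj]
        exact ((hzc (v : G)).zpow_left j).eq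
      intro u hu
      suffices D ≤ centralizer ({u} : Set H) from this
      refine sup_le (fun c hc => mem_centralizer_singleton_iff.2 (hCc c hc u)) (zpowers_le.mpr ?_)
      refine mem_centralizer_singleton_iff.2 (Commute.symm ?_)
      have : D ≤ centralizer ({x} : Set H) :=
        sup_le (fun c hc => mem_centralizer_singleton_iff.2 (hCc c hc x))
          (zpowers_le.mpr (mem_centralizer_singleton_iff.2 rfl))
      exact mem_centralizer_singleton_iff.1 (this hu)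
    exact fun u hu v hv => (mem_centralizer_singleton_iff.1 (key u hu v hv)).symm
  -- an element of `D` squaring to `z`
  obtain ⟨v, hvD, hv2⟩ : ∃ v ∈ D, (v : G) * v = z := by
    obtain ⟨u, huD, huZ⟩ := SetLike.not_le_iff_exists.1 hD
    by_cases hall : ∀ w ∈ D, (w : G) * w = 1
    · exfalso
      obtain ⟨i, hiu | hiu⟩ := hmem u (hDT huD)
      · refine huZ (mem_subgroupOf.2 ?_)
        by_cases h1 : (u : G) = 1
        · rw [h1]; exact one_mem _
        · rw [eq_half_of_involution (b := b + 2) hg (hiu ▸ zpow_mem (mem_zpowers g) i)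
            (by rw [pow_two]; exact hall u huD) h1]
          exact mem_zpowers z
      · have hzi : z ^ i = 1 := by rw [← hsq i, ← hiu]; exact hall u huD
        rcases Int.even_or_odd' i with ⟨j, rfl | rfl⟩
        · obtain ⟨g₀, hg₀T, hg₀⟩ := heven (2 * j) ⟨u, hDT huD, hiu⟩ ⟨j, two_mul j⟩
          have hmem' := mul_mem (hcl u huD g₀ (mul_mem (mul_mem hg₀T (hDT huD)) (inv_mem hg₀T)))
            (inv_mem huD)
          have h4 := hall _ hmem'
          have hval : ((g₀ * u * g₀⁻¹ * u⁻¹ : H) : G) = g * g * z := by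
            simp only [Subgroup.coe_mul, Subgroup.coe_inv]
            rw [show (g₀ : G) = g from hg₀, hiu, mul_inv_rev, hi,
              show g * (g ^ (2 * j) * s) * g⁻¹ * (s * (g ^ (2 * j))⁻¹) =
                g * g ^ (2 * j) * (s * g ^ (-1 : ℤ) * s) * (g ^ (2 * j))⁻¹ by group,
              hconj, neg_neg, zpow_one, zpow_neg_one, inv_eq_of_mul_eq_one_right hzz,
              mul_assoc (g * g ^ (2 * j)), mul_assoc g g]
            rw [show z * g * (g ^ (2 * j))⁻¹ = z * (g ^ (2 * j))⁻¹ * g by group,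
              (hzc (g ^ (2 * j))⁻¹).eq, ← (hzc g).eq]
            group
          rw [hval, show g * g * z * (g * g * z) = g ^ 4 * (z * z) by
            rw [show g * g * z * (g * g * z) = g * g * (z * (g * g)) * z by simp only [mul_assoc],
              (hzc (g * g)).eq]
            simp only [pow_succ, pow_zero, one_mul, mul_assoc], hzz, mul_one,
            ← orderOf_dvd_iff_pow_eq_one, hg] at h4
          have := Nat.le_of_dvd (by norm_num) h4
          have : 8 ≤ 2 ^ (b + 2 + 1) := by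
            calc 8 = 2 ^ 3 := rfl
              _ ≤ _ := Nat.pow_le_pow_right two_pos (by omega)
          omega
        · exact hz1 (by rwa [zpow_add, zpow_mul, zpow_two, hzz, one_zpow, one_mul, zpow_one] at hzi)
    push Not at hall
    obtain ⟨w, hwD, hw⟩ := hall
    obtain ⟨n, hn⟩ := T.isPGroup' ⟨w, hDT hwD⟩
    have hn' : (w : G) ^ 2 ^ n = 1 :=
      congrArg (fun r : T => ((r : H) : G)) hn
    obtain ⟨m, rfl⟩ : ∃ m, n = m + 1 := by
      refine ⟨n - 1, ?_⟩
      rcases n with _ | n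
      · exact absurd (by rw [pow_zero, pow_one] at hn'; rw [hn', mul_one]) hw
      · simp
    obtain ⟨k, hk2, hk1⟩ := exists_pow_involution (x := (w : G) * w) (n := m)
      (by rw [← pow_two, ← pow_mul, ← pow_succ']; exact hn') hw
    refine ⟨w ^ 2 ^ k, pow_mem hwD _, ?_⟩
    rw [Subgroup.coe_pow, ← (Commute.refl (w : G)).mul_pow]
    refine eq_half_of_involution (b := b + 2) hg (pow_mem ?_ _) hk2 hk1
    rcases hmem w (hDT hwD) with ⟨i, hi' | hi'⟩ <;> rw [hi']
    · exact mul_mem (zpow_mem (mem_zpowers g) i) (zpow_mem (mem_zpowers g) i)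
    · rw [hsq, hzdef]; exact zpow_mem (pow_mem (mem_zpowers g) _) _
  have hall4 : ∀ y ∈ (T : Subgroup H), (y : G) * y = z → y ∈ D := by
    intro y hy hy2
    obtain ⟨c, hc, hcy⟩ := hfus v y v.2 y.2 hv2 hy2
    have hy' : (⟨c, hc⟩ * v * ⟨c, hc⟩⁻¹ : H) = y := Subtype.ext hcy
    have := hcl v hvD ⟨c, hc⟩ (by rw [hy']; exact hy)
    rwa [hy'] at this
  have h1 := hall4 h₀ hh₀T (by rw [show (h₀ : G) = hv from hh₀]; exact hh2)
  have h2 := hall4 w₀ hw₀T (by
    rw [show (w₀ : G) = g * s from hw₀]; simpa using hsq 1)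
  have h3 := congrArg (Subtype.val : H → G) (hab _ h1 _ h2).eq
  simp only [Subgroup.coe_mul] at h3
  rw [show (h₀ : G) = hv from hh₀, show (w₀ : G) = g * s from hw₀] at h3
  apply hz1
  -- `g * s` inverts `hv`
  have h5 : s * hv * s = hv⁻¹ := by
    have := hconj ((2 ^ (b + 2 - 1) : ℕ) : ℤ)
    rw [zpow_natCast, zpow_natCast, zpow_neg, zpow_natCast] at this
    rw [this, show b + 2 - 1 = b + 1 from by omega, pow_succ' 2 b, pow_mul, pow_two, hzz,
      one_pow, one_mul, hhv, show b + 2 - 1 = b + 1 from by omega, pow_succ' 2 b]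
  have h6 : hv * g = g * hv := (Commute.self_pow g _).eq.symm
  rw [← mul_assoc, h6, mul_assoc, mul_assoc] at h3
  have h7 := mul_left_cancel h3
  rw [← hh2]
  calc hv * hv = hv * s * s * hv := by rw [mul_assoc hv s s, hs, mul_one]
    _ = s * hv * s * hv := by rw [h7]
    _ = 1 := by rw [h5, inv_mul_cancel]

end

end Cfsg.Agent.H24
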