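import Cfsg.Agent.H24.MaxClassDegree
import Cfsg.Agent.H35.MaxClass

/-!
Subgroups of a `p`-group of maximal class containing a uniform element, and the fact that their
automorphisms do not move uniform elements into a given large enough normal subgroup's complement.
-/

set_option linter.unusedSectionVars false

namespace Cfsg.Agent.H24

open Subgroup
open scoped commutatorElement

/-- Outside `lcw 2` and outside all two-step centralizers. -/
def Uniform {G : Type*} [Group G] (n : ℕ) (x : G) : Prop :=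
  x ∉ lcw G 2 ∧ ∀ i, 2 ≤ i → i + 2 ≤ n → x ∉ twoStep G i

variable {G : Type*} [Group G] [Finite G] {p : ℕ} [hp : Fact p.Prime] {n : ℕ}
  (S : MaxSetting G p n)
include S

theorem MaxSetting.twoStep_eq_of_two (hp2 : p = 2) {i : ℕ} (hi : 2 ≤ i) (hin : i + 2 ≤ n) :
    twoStep G i = twoStep G 2 := by
  subst hp2
  have := S.isP.isNilpotent
  obtain ⟨C, hC, hCi⟩ := (two_group_commutator_index_four G n S.card (by omega)
    ((index_commutator_of_max_class G 2 n S.card (by omega) S.class_eq).1.trans rfl)).1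
  have hCn : C.Normal := normal_of_index_eq_two hCi
  have hle2 : lcw G 2 ≤ C := by
    have : IsCyclic (G ⧸ C) := isCyclic_of_prime_card (p := 2) (by rw [← index_eq_card, hCi])
    rw [lcw_two, commutator_def, commutator_le]
    intro u _ v _
    rw [← QuotientGroup.eq_one_iff, ← QuotientGroup.mk'_apply, map_commutatorElement,
      commutatorElement_eq_one_iff_mul_comm]
    exact IsCyclic.isMulCommutative.is_comm.comm _ _
  have hCj : ∀ j, 2 ≤ j → j + 2 ≤ n → twoStep G j = C := by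
    intro j hj hjn
    have hle : C ≤ twoStep G j := fun g hg u hu => by
      have h1 : (⟨u, hle2 (lcw_le hj hu)⟩ : C) * ⟨g, hg⟩ = ⟨g, hg⟩ * ⟨u, hle2 (lcw_le hj hu)⟩ :=
        IsCyclic.isMulCommutative.is_comm.comm _ _
      rw [commutatorElement_eq_one_iff_mul_comm.mpr
        (show u * g = g * u from congrArg Subtype.val h1)]
      exact one_mem _
    refine (Subgroup.eq_of_le_of_card_ge hle (le_of_eq ?_)).symm
    have e1 := card_mul_index C
    have e2 := card_mul_index (twoStep G j)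
    rw [hCi] at e1
    rw [S.index_twoStep hj hjn] at e2
    exact Nat.eq_of_mul_eq_mul_right two_pos (e2.trans e1.symm)
  rw [hCj i hi hin, hCj 2 le_rfl (by omega)]

theorem MaxSetting.twoStep_eq_two_or_last {i : ℕ} (hi : 2 ≤ i) (hin : i + 2 ≤ n) :
    twoStep G i = twoStep G 2 ∨ twoStep G i = twoStep G (n - 2) := by
  rcases eq_or_ne i (n - 2) with h | h
  · exact .inr (by rw [h])
  left
  by_cases hp2 : p = 2
  · exact S.twoStep_eq_of_two hp2 hi hin
  · exact S.twoStep_eq_all hp2 hi (.inl (by omega))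

omit S in
/-- A proper subgroup of a `p`-group lies in a subgroup of index `p`. -/
theorem exists_index_prime_ge (hG : IsPGroup p G) {K : Subgroup G} (hK : K ≠ ⊤) :
    ∃ M : Subgroup G, K ≤ M ∧ M.index = p := by
  obtain ⟨M, hM, hKM⟩ := (eq_top_or_exists_le_coatom K).resolve_left hK
  refine ⟨M, hKM, ?_⟩
  have := hG.isNilpotent
  have hMn : M.Normal := NormalizerCondition.normal_of_coatom M
    Group.normalizerCondition_of_isNilpotent hM
  obtain ⟨m, hm⟩ := IsPGroup.iff_card.mp (hG.to_quotient M)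
  rw [index_eq_card, hm]
  rcases m with _ | m
  · exfalso
    rw [pow_zero, ← index_eq_card, index_eq_one] at hm
    exact hM.1 hm
  · obtain ⟨g, hg⟩ := exists_prime_orderOf_dvd_card' (G := G ⧸ M) p
      (by rw [hm]; exact dvd_pow_self p (by omega))
    have hne : zpowers g ≠ ⊥ := fun h => by
      rw [zpowers_eq_bot.mp h, orderOf_one] at hg
      exact hp.out.ne_one hg.symm
    have hcom : (zpowers g).comap (QuotientGroup.mk' M) = ⊤ := by
      refine hM.2 _ (lt_of_le_of_ne ?_ fun h => hne ?_)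
      · intro u hu
        rw [mem_comap, QuotientGroup.mk'_apply, (QuotientGroup.eq_one_iff u).mpr hu]
        exact one_mem _
      · apply comap_injective (QuotientGroup.mk'_surjective M)
        rw [← h, MonoidHom.comap_bot, QuotientGroup.ker_mk']
    have h2 : zpowers g = ⊤ :=
      comap_injective (QuotientGroup.mk'_surjective M) (by rw [hcom, comap_top])
    rw [← hm, ← card_top, ← h2, Nat.card_zpowers, hg]

theorem MaxSetting.exists_uniform_avoid {K : Subgroup G} (hK : K ≠ ⊤) :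
    ∃ x : G, x ∉ K ∧ Uniform n x := by
  classical
  obtain ⟨M, hKM, hM⟩ := exists_index_prime_ge S.isP hK
  have h3 := S.three
  have := S.isP.isNilpotent
  have h2M : lcw G 2 ≤ M := by
    rw [lcw_two]
    refine (commutator_le_frattini S.isP).trans (frattini_le_coatom ?_)
    refine ⟨fun h => ?_, fun b hb => ?_⟩
    · rw [h, index_top] at hM; exact hp.out.ne_one hM.symm
    · have h1 := index_dvd_of_le hb.le
      rw [hM] at h1
      rcases (Nat.dvd_prime hp.out).mp h1 with h | h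
      · exact index_eq_one.mp h
      · exact absurd (Subgroup.eq_of_le_of_card_ge hb.le (le_of_eq
          (Nat.eq_of_mul_eq_mul_right hp.out.pos
            ((h ▸ card_mul_index b).trans (hM ▸ card_mul_index M).symm)))) hb.ne
  rcases Nat.lt_or_ge n 4 with h4 | h4
  · obtain ⟨x, -, hx⟩ := SetLike.exists_of_lt (lt_top_iff_ne_top.mpr
      (fun h : M = ⊤ => by rw [h, index_top] at hM; exact hp.out.ne_one hM.symm))
    exact ⟨x, fun h => hx (hKM h), fun h => hx (h2M h), fun i h1 h2 => absurd h2 (by omega)⟩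
  have hidx : ∀ C ∈ ({M, twoStep G 2, twoStep G (n - 2)} : Finset (Subgroup G)), C.index = p := by
    intro C hC
    simp only [Finset.mem_insert, Finset.mem_singleton] at hC
    rcases hC with rfl | rfl | rfl
    · exact hM
    · exact S.index_twoStep le_rfl (by omega)
    · exact S.index_twoStep (by omega) (by omega)
  have hcard : ({M, twoStep G 2, twoStep G (n - 2)} : Finset (Subgroup G)).card ≤ p := by
    by_cases hp2 : p = 2
    · have heq : twoStep G (n - 2) = twoStep G 2 :=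
        S.twoStep_eq_of_two hp2 (by omega) (by omega)
      rw [heq, hp2]
      refine le_trans (Finset.card_insert_le _ _) ?_
      simp
    · have := hp.out.two_le
      exact Finset.card_le_three.trans (by omega)
  obtain ⟨x, hx⟩ := exists_not_mem_of_index (p := p) _ hcard hidx
  refine ⟨x, fun h => hx M (by simp) (hKM h), fun h => hx M (by simp) (h2M h), fun i h1 h2 => ?_⟩
  rcases S.twoStep_eq_two_or_last h1 h2 with h | h <;> rw [h] <;> exact hx _ (by simp)

theorem MaxSetting.card_centralizer_eq {x : G} (hx : Uniform n x) :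
    Nat.card (centralizer ({x} : Set G)) = p ^ 2 := by
  have hP : p.Prime := hp.out
  have h3 := S.three
  refine le_antisymm (S.card_centralizer_le hx.1 hx.2) ?_
  set Z := lcw G (n - 1)
  have hZ : Z ≤ centralizer ({x} : Set G) := fun u hu => by
    have := comm_mem_lcw (G := G) (by omega) le_rfl hu (lcw_one (G := G) ▸ mem_top x)
    rw [show n - 1 + 1 = n by omega, S.lcw_top_eq, mem_bot] at this
    exact mem_centralizer_singleton_iff.mpr (commutatorElement_eq_one_iff_mul_comm.mp this)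
  have h := le_relIndex_of_lt S.isP (H := Z) (K := centralizer ({x} : Set G))
    fun h => hx.1 (lcw_le (by omega : 2 ≤ n - 1) (h (mem_centralizer_singleton_iff.mpr rfl)))
  rw [← card_mul_relIndex hZ, S.card_lcw (by omega) (by omega), show n - (n - 1) = 1 by omega,
    pow_one, sq]
  exact Nat.mul_le_mul_left _ h

section WithUniform

variable {x : G} (hx : Uniform n x)
include hx

theorem MaxSetting.comm_exact {i : ℕ} (hi : 2 ≤ i) (hin : i + 2 ≤ n) {u : G} (hu : u ∈ lcw G i)
    (hu' : u ∉ lcw G (i + 1)) : ⁅u, x⁆ ∉ lcw G (i + 2) :=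
  fun h => hx.2 i hi hin (S.mem_twoStep_of_gen hi (by omega) hu hu' h)

/-- A subgroup of `lcw 2` invariant under conjugation by a uniform element is a term of the series. -/
theorem MaxSetting.eq_lcw_of_invariant {J : Subgroup G} (hJ : J ≤ lcw G 2)
    (hinv : ∀ u ∈ J, x * u * x⁻¹ ∈ J) : ∃ i, 2 ≤ i ∧ i ≤ n ∧ J = lcw G i := by
  have h3 := S.three
  have hcomm : ∀ u ∈ J, ⁅u, x⁆ ∈ J := fun u hu => by
    rw [show ⁅u, x⁆ = u * (x * u⁻¹ * x⁻¹) by simp [commutatorElement_def, mul_assoc]]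
    exact mul_mem hu (hinv _ (inv_mem hu))
  suffices ∀ d i, i + d = n → 2 ≤ i → J ≤ lcw G i → ∃ j, 2 ≤ j ∧ j ≤ n ∧ J = lcw G j from
    this (n - 2) 2 (by omega) le_rfl hJ
  intro d
  induction d with
  | zero =>
    intro i hi hi2 hle
    exact ⟨i, hi2, by omega, le_antisymm hle (by
      rw [show i = n by omega, S.lcw_top_eq]; exact bot_le)⟩
  | succ d ih =>
    intro i hi hi2 hle
    by_cases hn' : J ≤ lcw G (i + 1)
    · exact ih (i + 1) (by omega) (by omega) hn'
    refine ⟨i, hi2, by omega, le_antisymm hle ?_⟩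
    obtain ⟨u, hu, hu'⟩ := SetLike.not_le_iff_exists.mp hn'
    have hexact : ∀ r, i + r < n →
        ∃ w ∈ J, w ∈ lcw G (i + r) ∧ w ∉ lcw G (i + r + 1) := by
      intro r
      induction r with
      | zero => exact fun _ => ⟨u, hu, hle hu, hu'⟩
      | succ r ihr =>
        intro hr
        obtain ⟨w, hwJ, hw, hw'⟩ := ihr (by omega)
        have h1 := comm_mem_lcw (G := G) (i := i + r) (j := 1) (by omega) le_rfl hw
          (lcw_one (G := G) ▸ mem_top x)
        have h2 := S.comm_exact hx (i := i + r) (by omega) (by omega) hw hw'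
        exact ⟨⁅w, x⁆, hcomm w hwJ, h1, h2⟩
    suffices ∀ e j, j + e = n → i ≤ j → lcw G j ≤ J from this (n - i) i (by omega) le_rfl
    intro e
    induction e with
    | zero => intro j hj _; rw [show j = n by omega, S.lcw_top_eq]; exact bot_le
    | succ e ihe =>
      intro j hj hij g hg
      obtain ⟨w, hwJ, hw, hw'⟩ := hexact (j - i) (by omega)
      rw [show i + (j - i) = j by omega] at hw hw'
      obtain ⟨a, ha⟩ := S.exists_pow (by omega) (by omega) hw hw' hg
      rw [show g = w ^ a * ((w ^ a)⁻¹ * g) by group]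
      exact mul_mem (pow_mem hwJ a) (ihe (j + 1) (by omega) (by omega) ha)

/-- The shape of a proper subgroup containing a uniform element. -/
theorem MaxSetting.exists_shape {E : Subgroup G} (hE : E ≠ ⊤) (hxE : x ∈ E) :
    ∃ i, 2 ≤ i ∧ i ≤ n ∧ E ⊓ lcw G 2 = lcw G i ∧
      ∀ u ∈ E, ∃ a : ℕ, (x ^ a)⁻¹ * u ∈ lcw G i := by
  obtain ⟨i, hi, hin, he⟩ := S.eq_lcw_of_invariant hx (J := E ⊓ lcw G 2) inf_le_right fun u hu =>
    Subgroup.mem_inf.mpr ⟨mul_mem (mul_mem hxE (Subgroup.mem_inf.mp hu).1) (inv_mem hxE),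
      (lcw_normal 2).conj_mem u (Subgroup.mem_inf.mp hu).2 x⟩
  refine ⟨i, hi, hin, he, fun u hu => ?_⟩
  by_cases huK : u ∈ zpowers x ⊔ lcw G 2
  · obtain ⟨v, hv, l, hl, rfl⟩ := mem_sup_of_normal_right.mp huK
    rw [← mem_powers_iff_mem_zpowers] at hv
    obtain ⟨a, rfl⟩ := hv
    refine ⟨a, ?_⟩
    rw [← he]
    exact Subgroup.mem_inf.mpr ⟨mul_mem (inv_mem (pow_mem hxE a)) hu, by simpa using hl⟩
  exfalso
  apply hE
  have := S.isP.isNilpotent
  refine frattini_nongenerating (eq_top_iff.mpr ?_)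
  refine le_trans ?_ (sup_le_sup_left ((lcw_two (G := G)).le.trans (commutator_le_frattini S.isP)) E)
  set K := zpowers x ⊔ lcw G 2
  refine le_trans ?_ (sup_le (sup_le ((zpowers_le.mpr hxE).trans le_sup_left) le_sup_right)
    ((zpowers_le.mpr hu).trans le_sup_left) : K ⊔ zpowers u ≤ E ⊔ lcw G 2)
  refine (Subgroup.eq_top_of_le_card _ ?_).ge
  have h3 := S.three
  have h5 := le_relIndex_of_lt S.isP (H := K) (K := K ⊔ zpowers u)
    fun h => huK (h (mem_sup_right (mem_zpowers u)))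
  have h6 := le_relIndex_of_lt S.isP (H := lcw G 2) (K := K)
    fun h => hx.1 (h (mem_sup_left (mem_zpowers x)))
  rw [S.card, ← card_mul_relIndex (le_sup_left : K ≤ K ⊔ zpowers u),
    show n = n - 2 + 1 + 1 by omega, pow_succ, pow_succ]
  refine Nat.mul_le_mul ?_ h5
  rw [← card_mul_relIndex (le_sup_right : lcw G 2 ≤ K), S.card_two]
  exact Nat.mul_le_mul_left _ h6

omit S hx in
theorem mem_of_pow_mem {C : Subgroup G} {y : G} (hy : y ^ p ∈ C) {a : ℕ} (ha : ¬ p ∣ a)
    (h : y ^ a ∈ C) : y ∈ C := by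
  have hc : Nat.gcd p a = 1 := (hp.out.coprime_iff_not_dvd.mpr ha)
  have h1 := Nat.gcd_eq_gcd_ab p a
  rw [hc] at h1
  rw [show y = y ^ ((1 : ℕ) : ℤ) by simp, h1, zpow_add, zpow_mul, zpow_mul, zpow_natCast,
    zpow_natCast]
  exact mul_mem (zpow_mem hy _) (zpow_mem h _)

theorem MaxSetting.uniform_pow_mul {a : ℕ} (ha : ¬ p ∣ a) {l : G} (hl : l ∈ lcw G 2) :
    Uniform n (x ^ a * l) := by
  refine ⟨fun h => hx.1 (mem_of_pow_mem (S.pow_mem_two x) ha ?_), fun i hi hin h => ?_⟩
  · simpa using mul_mem h (inv_mem hl)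
  · refine hx.2 i hi hin
      (mem_of_pow_mem (lcw_two_le_twoStep (by omega) (S.pow_mem_two x)) ha ?_)
    simpa using mul_mem h (inv_mem (lcw_two_le_twoStep (i := i) (by omega) hl))

theorem MaxSetting.comm_lcw_eq {E : Subgroup G} (hxE : x ∈ E) {i j : ℕ} (hi : 2 ≤ i)
    (hij : i ≤ j) (hiE : lcw G i ≤ E) : ⁅lcw G j, E⁆ = lcw G (j + 1) := by
  refine le_antisymm ?_ ?_
  · rw [lcw_succ (by omega)]
    exact commutator_mono le_rfl le_top
  rcases Nat.lt_or_ge (j + 1) n with hjn | hjn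
  swap
  · rw [S.lcw_eq_bot hjn]; exact bot_le
  have hnorm : ∀ u ∈ ⁅lcw G j, E⁆, x * u * x⁻¹ ∈ ⁅lcw G j, E⁆ := by
    have hle : ⁅lcw G j, E⁆.map (MulAut.conj x).toMonoidHom ≤ ⁅lcw G j, E⁆ := by
      rw [map_commutator]
      refine commutator_mono ?_ ?_
      · rintro _ ⟨v, hv, rfl⟩
        exact (lcw_normal j).conj_mem v hv x
      · rintro _ ⟨v, hv, rfl⟩
        exact mul_mem (mul_mem hxE hv) (inv_mem hxE)
    exact fun u hu => hle (mem_map_of_mem _ hu)
  have hle2 : ⁅lcw G j, E⁆ ≤ lcw G 2 :=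
    ((commutator_mono le_rfl le_top).trans (lcw_succ (by omega)).ge).trans (lcw_le (by omega))
  obtain ⟨k, hk, -, he⟩ := S.eq_lcw_of_invariant hx hle2 hnorm
  obtain ⟨e, he1, he2⟩ := SetLike.not_le_iff_exists.mp (S.lcw_not_le (i := j) (by omega) (by omega))
  have hc : ⁅e, x⁆ ∈ ⁅lcw G j, E⁆ := commutator_mem_commutator he1 hxE
  rw [he] at hc ⊢
  refine lcw_le ?_
  by_contra hlt
  exact S.comm_exact hx (by omega) (by omega) he1 he2 (lcw_le (by omega) hc)

/-- The lower central series of a proper subgroup containing a uniform element. -/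
theorem MaxSetting.map_lcs_shape {E : Subgroup G} (hxE : x ∈ E) {i : ℕ} (hi : 2 ≤ i)
    (hiE : lcw G i ≤ E) (hrep : ∀ u ∈ E, ∃ a : ℕ, (x ^ a)⁻¹ * u ∈ lcw G i) :
    ∀ k, 1 ≤ k → ((⊤ : Subgroup E).lowerCentralSeries k).map E.subtype = lcw G (i + k) := by
  intro k hk
  induction k, hk using Nat.le_induction with
  | base =>
    rw [map_lcs_top_succ, Subgroup.lowerCentralSeries_zero, ← MonoidHom.range_eq_map,
      range_subtype]
    refine le_antisymm ?_ ((S.comm_lcw_eq hx hxE hi le_rfl hiE).ge.trans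
      (commutator_mono hiE le_rfl))
    rw [commutator_le]
    intro u hu v hv
    obtain ⟨a, ha⟩ := hrep u hu
    obtain ⟨b, hb⟩ := hrep v hv
    rw [← QuotientGroup.eq_one_iff, ← QuotientGroup.mk'_apply, map_commutatorElement,
      commutatorElement_eq_one_iff_mul_comm]
    set π := QuotientGroup.mk' (lcw G (i + 1))
    have hcen : ∀ l ∈ lcw G i, ∀ g : G, Commute (π l) (π g) := fun l hl g => by
      refine commutatorElement_eq_one_iff_commute.mp ?_
      rw [← map_commutatorElement, QuotientGroup.mk'_apply, QuotientGroup.eq_one_iff]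
      exact comm_mem_lcw (by omega) le_rfl hl (lcw_one (G := G) ▸ mem_top g)
    rw [show u = x ^ a * ((x ^ a)⁻¹ * u) by group, show v = x ^ b * ((x ^ b)⁻¹ * v) by group,
      map_mul π (x ^ a)]
    refine Commute.eq (Commute.mul_left ?_ (hcen _ ha _))
    rw [map_mul π (x ^ b)]
    refine Commute.mul_right ?_ (hcen _ hb _).symm
    rw [map_pow, map_pow]
    exact (Commute.refl _).pow_pow a b
  | succ k hk ih =>
    rw [map_lcs_top_succ, ih, S.comm_lcw_eq hx hxE hi (by omega) hiE, ← Nat.add_assoc]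

/-- An automorphism of a subgroup containing a uniform element `x ∉ P₁` maps `x` to such an
element, provided it preserves `P₁` and `P₁` contains `lcw (max 2 (n - 2))`. -/
theorem MaxSetting.uniform_preserved {E P₁ : Subgroup G} (hxE : x ∈ E) (hxP : x ∉ P₁)
    (hP₁ : lcw G (max 2 (n - 2)) ≤ P₁) (φ : E ≃* E)
    (hφ : ∀ u : E, ((φ u : G) ∈ P₁ ↔ (u : G) ∈ P₁)) :
    (φ ⟨x, hxE⟩ : G) ∉ P₁ ∧ Uniform n (φ ⟨x, hxE⟩ : G) := by
  refine ⟨fun h => hxP ((hφ ⟨x, hxE⟩).mp h), ?_⟩
  by_cases hEtop : E = ⊤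
  · subst hEtop
    set ψ : G ≃* G := Subgroup.topEquiv.symm.trans (φ.trans Subgroup.topEquiv) with hψ
    have hmem : ∀ j u, u ∈ lcw G j → ψ u ∈ lcw G j := fun j u hu =>
      map_lcw ψ.toMonoidHom ψ.surjective j ▸ mem_map_of_mem ψ.toMonoidHom hu
    have hmem' : ∀ j u, ψ u ∈ lcw G j → u ∈ lcw G j := fun j u hu => by
      rw [← map_lcw ψ.toMonoidHom ψ.surjective j] at hu
      obtain ⟨v, hv, hve⟩ := hu
      rwa [← ψ.injective hve]
    show Uniform n (ψ x)
    refine ⟨fun h => hx.1 (hmem' 2 x h), fun i hi hin h => hx.2 i hi hin ?_⟩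
    intro u hu
    apply hmem' (i + 2)
    rw [map_commutatorElement]
    exact h (ψ u) (hmem i u hu)
  obtain ⟨i, hi, hin, he, hrep⟩ := S.exists_shape hx hEtop hxE
  have hiE : lcw G i ≤ E := he ▸ inf_le_left
  obtain ⟨a, ha⟩ := hrep _ (φ ⟨x, hxE⟩).2
  suffices ¬ p ∣ a by
    rw [show (φ ⟨x, hxE⟩ : G) = x ^ a * ((x ^ a)⁻¹ * φ ⟨x, hxE⟩) by group]
    exact S.uniform_pow_mul hx this (lcw_le hi ha)
  intro hdvd
  have hxa : x ^ a ∈ lcw G i := by
    obtain ⟨c, rfl⟩ := hdvd
    rw [← he, pow_mul]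
    exact Subgroup.mem_inf.mpr ⟨pow_mem (pow_mem hxE p) c, pow_mem (S.pow_mem_two x) c⟩
  have hφx : (φ ⟨x, hxE⟩ : G) ∈ lcw G i := by
    simpa using mul_mem hxa ha
  rcases Nat.lt_or_ge (i + 2) n with hlt | hge
  swap
  · exact hxP ((hφ ⟨x, hxE⟩).mp (hP₁ (lcw_le (max_le hi (by omega)) hφx)))
  -- `lcw i` is characteristic in `E`
  have hlcs := S.map_lcs_shape hx hxE hi hiE hrep
  have hchar : ∀ u : E, (∀ v ∈ (⊤ : Subgroup E).lowerCentralSeries 1,
      ⁅v, u⁆ ∈ (⊤ : Subgroup E).lowerCentralSeries 3) → ∀ v : G, v ∈ lcw G (i + 1) →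
        ⁅v, (u : G)⁆ ∈ lcw G (i + 3) := by
    intro u hu v hv
    rw [← hlcs 1 le_rfl] at hv
    obtain ⟨w, hw, rfl⟩ := hv
    rw [← hlcs 3 (by omega)]
    exact ⟨⁅w, u⁆, hu w hw, rfl⟩
  have hback : ∀ v ∈ (⊤ : Subgroup E).lowerCentralSeries 1,
      ⁅v, φ ⟨x, hxE⟩⁆ ∈ (⊤ : Subgroup E).lowerCentralSeries 3 := by
    intro v hv
    have h1 : ⁅(v : G), (φ ⟨x, hxE⟩ : G)⁆ ∈ lcw G (i + 3) := by
      have h2 := comm_mem_lcw (G := G) (i := i + 1) (j := i) (by omega) (by omega)
        (hlcs 1 le_rfl ▸ mem_map_of_mem E.subtype hv) hφx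
      exact lcw_le (by omega) h2
    rw [← hlcs 3 (by omega)] at h1
    obtain ⟨w, hw, hwe⟩ := h1
    exact (Subtype.ext hwe : w = ⁅v, φ ⟨x, hxE⟩⁆) ▸ hw
  refine hx.2 (i + 1) (by omega) (by omega) fun v hv => hchar ⟨x, hxE⟩ (fun w hw => ?_) v hv
  have hmap : ∀ k, ((⊤ : Subgroup E).lowerCentralSeries k).map φ.toMonoidHom =
      (⊤ : Subgroup E).lowerCentralSeries k := fun k => by
    rw [Subgroup.map_lowerCentralSeries, map_top_of_surjective _ φ.surjective]
  have h3' := hback (φ w) (hmap 1 ▸ mem_map_of_mem φ.toMonoidHom hw)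
  rw [← map_commutatorElement, ← hmap 3] at h3'
  obtain ⟨z, hz, hze⟩ := h3'
  exact φ.injective hze ▸ hz

end WithUniform

end Cfsg.Agent.H24
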