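import Cfsg.Agent.H24.SemidihedralModel

/-!
Dihedral, semidihedral and generalized quaternion 2-groups carry saturated systems without a chain
of strongly closed subgroups with cyclic steps.
-/

set_option autoImplicit false

namespace Cfsg.Agent.H24

open Subgroup

section

variable {Ω : Type*} [Group Ω] {S : Subgroup Ω} [Finite S]

/-- A quasi-dihedral group has a saturated system without a cyclic chain. -/
theorem not_chain_of_quasiDihedral (hS : Cfsg.IsQuasiDihedral S) :
    ¬ ∀ F : FusionSystem S, F.IsSaturated 2 → HasCyclicChain F := by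
  obtain ⟨k, ⟨eS⟩⟩ := H49.exists_equiv_QD hS
  obtain ⟨G, _, _, g, s, H, d⟩ := exists_sdData (k + 2) (by omega)
  have hM : Cfsg.IsQuasiDihedral d.sylow := by
    refine ⟨k + 3, by omega, d.card_sylow, ⟨g, d.g_mem⟩, ⟨s, d.s_mem⟩, ?_, ?_, Subtype.ext ?_⟩
    · rw [Subgroup.orderOf_mk, d.order]
    · refine orderOf_eq_prime (Subtype.ext (by simpa [pow_two] using d.s_sq)) fun h => d.s_not ?_
      rw [show s = 1 from congrArg Subtype.val h]; exact one_mem _
    · simp only [Subgroup.coe_mul, Subgroup.coe_inv, Subgroup.coe_pow]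
      rw [inv_eq_of_mul_eq_one_right d.s_sq, d.conj, ← zpow_natCast g, ← zpow_natCast g,
        ← zpow_neg_one g, ← zpow_add, Nat.cast_sub Nat.one_le_two_pow]
      rfl
  obtain ⟨j, ⟨eM⟩⟩ := H49.exists_equiv_QD hM
  obtain rfl : j = k := by
    have h := Nat.card_congr eM.toEquiv
    rw [H49.QD.card, d.card_sylow] at h
    have := Nat.pow_right_injective (le_refl 2) h
    omega
  let T : Sylow 2 (⊤ : Subgroup G) := Sylow.ofCard (d.sylow.subgroupOf ⊤) (by
    rw [Nat.card_congr (subgroupOfEquivOfLe le_top).toEquiv, d.card_sylow, card_top, d.v_top])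
  have hT : (T : Subgroup (⊤ : Subgroup G)).map (⊤ : Subgroup G).subtype = d.sylow := by
    simp [T, subgroupOf_map_subtype]
  refine not_chain_of_order_four_fused ⊤ T
    (eS.symm.trans (eM.trans (subgroupOfEquivOfLe le_top).symm)) d.two_le d.order d.s_sq d.conj
    d.s_not d.central (fun t ht => d.mem_cases ht) ?_ ?_ ?_ ?_
  · rw [hT]; exact pow_mem d.g_mem _
  · rw [hT]; exact mul_mem d.g_mem d.s_mem
  · rw [hT]; exact fun _ _ _ => d.g_mem
  · intro y y' _ _ h h'
    obtain ⟨c, -, hc⟩ := d.fused y y' h h'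
    exact ⟨c, mem_top c, hc⟩

/-- A generalized quaternion group has a saturated system without a cyclic chain. -/
theorem not_chain_of_quaternion {b : ℕ} (eS : S ≃* QuaternionGroup (2 ^ (b + 1))) :
    ¬ ∀ F : FusionSystem S, F.IsSaturated 2 → HasCyclicChain F := by
  obtain ⟨G, _, _, g, s, H, d⟩ := exists_sdData (b + 2) (by omega)
  have := d.normal
  let Q := d.sylow ⊓ H
  have hi : s⁻¹ = s := inv_eq_of_mul_eq_one_right d.s_sq
  have hz : g ^ 2 ^ (b + 2) * g ^ 2 ^ (b + 2) = 1 := by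
    rw [← pow_add, ← two_mul, ← pow_succ', ← d.order, pow_orderOf_eq_one]
  have hzc : ∀ u : G, Commute (g ^ 2 ^ (b + 2)) u := fun u =>
    (Subgroup.mem_center_iff.1 d.central u).symm
  have hgs2 : g * s * (g * s) = g ^ 2 ^ (b + 2) := by
    rw [show g * s * (g * s) = g * (s * g * s) by simp only [mul_assoc], d.conj,
      ← mul_assoc, ← (hzc g).eq, mul_inv_cancel_right]
  obtain ⟨eQ⟩ : Nonempty (Q ≃* QuaternionGroup (2 ^ (b + 1))) := by
    refine H49.nonempty_equiv_quaternion Q (A := g * g) (B := g * s)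
      ⟨mul_mem d.g_mem d.g_mem, d.g_sq⟩ ⟨mul_mem d.g_mem d.s_mem, d.gs_mem⟩ ?_ ?_ ?_ ?_ ?_
    · rw [d.sylow_inf]; ring
    · rw [← pow_two, orderOf_pow, d.order, Nat.gcd_eq_right (dvd_pow_self 2 (by omega)),
        pow_succ' 2 (b + 2), Nat.mul_div_cancel_left _ two_pos]
      ring
    · rw [hgs2, ← pow_two, ← pow_mul, ← pow_succ']
    · have h1 : s * (g * g) * s = g⁻¹ * g⁻¹ := by
        rw [show s * (g * g) * s = (s * g * s) * (s * g * s) by
          simp only [mul_assoc, ← mul_assoc s s, d.s_sq, one_mul], d.conj,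
          (hzc g⁻¹).symm.mul_mul_mul_comm, hz, one_mul]
      rw [_root_.mul_inv_rev, hi, show g * s * (g * g) * (s * g⁻¹) = g * (s * (g * g) * s) * g⁻¹ by
        simp only [mul_assoc], h1]
      group
    · intro h
      have hm : g * s ∈ zpowers g := zpowers_le.mpr (mul_mem (mem_zpowers g) (mem_zpowers g)) h
      exact d.s_not ((Subgroup.mul_mem_cancel_left _ (mem_zpowers g)).1 hm)
  let T : Sylow 2 H := Sylow.ofCard (Q.subgroupOf H) (by
    rw [Nat.card_congr (subgroupOfEquivOfLe inf_le_right).toEquiv, d.sylow_inf, d.v_H])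
  have hT : (T : Subgroup H).map H.subtype = Q := by
    simp [T, Q, subgroupOf_map_subtype]
  refine not_chain_of_order_four_fused H T
    (eS.trans (eQ.symm.trans (subgroupOfEquivOfLe inf_le_right).symm)) d.two_le d.order d.s_sq
    d.conj d.s_not d.central (fun t ht => d.mem_cases ht.1) ?_ ?_ ?_ ?_
  · rw [hT]
    refine ⟨pow_mem d.g_mem _, ?_⟩
    rw [show b + 2 - 1 = b + 1 by omega, pow_succ', pow_mul, pow_two]
    exact pow_mem d.g_sq _
  · rw [hT]; exact ⟨mul_mem d.g_mem d.s_mem, d.gs_mem⟩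
  · rw [hT]
    intro i hi hev
    exfalso
    apply d.g_not
    obtain ⟨j, rfl⟩ := hev
    have h1 : g ^ (j + j) ∈ H := by
      rw [← two_mul, zpow_mul, zpow_two]; exact zpow_mem d.g_sq j
    have hsH : s ∈ H := (Subgroup.mul_mem_cancel_left _ h1).1 hi.2
    exact (Subgroup.mul_mem_cancel_right _ hsH).1 d.gs_mem
  · intro y y' _ _ h h'
    exact d.fused y y' h h'

/-- A dihedral group of order at least 8 has a saturated system without a cyclic chain. -/
theorem not_chain_of_dihedral {b : ℕ} (eS : S ≃* DihedralGroup (2 ^ (b + 2))) :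
    ¬ ∀ F : FusionSystem S, F.IsSaturated 2 → HasCyclicChain F := by
  obtain ⟨G, _, _, g, s, H, d⟩ := exists_sdData (b + 2) (by omega)
  set z := g ^ 2 ^ (b + 2) with hzdef
  have hzn : (zpowers z).Normal := normal_of_le_center (zpowers_le.mpr d.central)
  set π := QuotientGroup.mk' (zpowers z) with hπ
  have hπs : Function.Surjective π := QuotientGroup.mk'_surjective _
  let T₀ : Sylow 2 G := Sylow.ofCard d.sylow (by rw [d.card_sylow, d.v_top])
  let T : Sylow 2 (G ⧸ zpowers z) := T₀.mapSurjective hπs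
  have hT : ∀ u, u ∈ (T : Subgroup (G ⧸ zpowers z)) ↔ ∃ t ∈ d.sylow, π t = u := fun u => Iff.rfl
  have hgT : π g ∈ (T : Subgroup (G ⧸ zpowers z)) := (hT _).2 ⟨g, d.g_mem, rfl⟩
  have hsT : π s ∈ (T : Subgroup (G ⧸ zpowers z)) := (hT _).2 ⟨s, d.s_mem, rfl⟩
  have hker : ∀ u, π u = 1 ↔ u ∈ zpowers z := fun u => QuotientGroup.eq_one_iff u
  have hord : orderOf (π g) = 2 ^ (b + 2) := by
    refine orderOf_eq_prime_pow ?_ ?_
    · rw [← map_pow, hker]
      intro h
      have h2 : (g ^ 2 ^ (b + 1)) * (g ^ 2 ^ (b + 1)) = z := by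
        rw [← pow_add, ← two_mul, ← pow_succ']
      obtain ⟨j, hj⟩ := mem_zpowers_iff.1 h
      have hz2 : z * z = 1 := by
        rw [hzdef, ← pow_add, ← two_mul, ← pow_succ', ← d.order, pow_orderOf_eq_one]
      rw [← hj, ← zpow_add, ← two_mul, zpow_mul, zpow_two, hz2, one_zpow] at h2
      have := d.order ▸ orderOf_dvd_of_pow_eq_one (hzdef ▸ h2.symm : g ^ 2 ^ (b + 2) = 1)
      rw [Nat.pow_dvd_pow_iff_le_right (le_refl 2)] at this
      omega
    · rw [← map_pow, hker]; exact mem_zpowers z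
  have hns : π s ∉ zpowers (π g) := by
    intro h
    obtain ⟨j, hj⟩ := mem_zpowers_iff.1 h
    rw [← map_zpow, hπ, QuotientGroup.mk'_apply, QuotientGroup.mk'_apply, QuotientGroup.eq] at hj
    have := mul_mem (zpow_mem (mem_zpowers g) j) ((zpowers_le.mpr (pow_mem (mem_zpowers g) _)) hj)
    rw [mul_inv_cancel_left] at this
    exact d.s_not this
  have hs : π s * π s = 1 := by rw [← map_mul, d.s_sq, map_one]
  have hsg : π s * π g * π s = (π g)⁻¹ := by
    rw [← map_mul, ← map_mul, d.conj, map_mul, map_inv, (hker _).2 (mem_zpowers z), one_mul]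
  have hmem : ∀ t ∈ (T : Subgroup (G ⧸ zpowers z)), ∃ i : ℤ, t = π g ^ i ∨ t = π g ^ i * π s := by
    intro t ht
    obtain ⟨t', ht', rfl⟩ := (hT t).1 ht
    obtain ⟨i, rfl | rfl⟩ := d.mem_cases ht'
    · exact ⟨i, .inl (map_zpow π g i)⟩
    · exact ⟨i, .inr (by rw [map_mul, map_zpow])⟩
  have : NeZero (2 ^ (b + 2)) := ⟨pow_ne_zero _ two_ne_zero⟩
  obtain ⟨eT⟩ : Nonempty ((T : Subgroup (G ⧸ zpowers z)) ≃* DihedralGroup (2 ^ (b + 2))) := by
    refine H49.nonempty_equiv_dihedral _ hgT hsT ?_ hord hs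
      (by rw [inv_eq_of_mul_eq_one_right hs]; exact hsg) hns
    let M := H58.PSLThree.extendInvol (zpowers (π g)) (π s) hs fun x hx => by
      obtain ⟨i, rfl⟩ := mem_zpowers_iff.1 hx
      nth_rw 2 [← inv_eq_of_mul_eq_one_right hs]
      rw [← conj_zpow, inv_eq_of_mul_eq_one_right hs, hsg]
      exact zpow_mem (inv_mem (mem_zpowers _)) _
    have hTM : (T : Subgroup (G ⧸ zpowers z)) = M := by
      refine le_antisymm (fun t ht => ?_) ?_
      · obtain ⟨i, rfl | rfl⟩ := hmem t ht
        · exact .inl (zpow_mem (mem_zpowers _) i)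
        · exact .inr (by rw [mul_assoc, hs, mul_one]; exact zpow_mem (mem_zpowers _) i)
      · rintro t (h | h)
        · exact zpowers_le.mpr hgT h
        · have := mul_mem (zpowers_le.mpr hgT h) hsT
          rwa [mul_assoc, hs, mul_one] at this
    rw [hTM, H58.PSLThree.card_extendInvol hns, Nat.card_zpowers, hord]
  refine not_chain_of_dihedral_sylow T (eS.trans eT.symm) d.two_le hord hs hsg hns hgT hsT hmem ?_
  have h1 : g ^ 2 ^ (b + 2 - 1) * g ^ 2 ^ (b + 2 - 1) = g ^ 2 ^ (b + 2) := by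
    rw [← pow_add, ← two_mul, ← pow_succ']; congr 2
  have h2 : g * s * (g * s) = g ^ 2 ^ (b + 2) := by
    rw [show g * s * (g * s) = g * (s * g * s) by simp only [mul_assoc], d.conj, ← mul_assoc,
      ← ((Subgroup.mem_center_iff.1 d.central g).symm), mul_inv_cancel_right]
  obtain ⟨c, -, hc⟩ := d.fused _ _ h1 h2
  exact ⟨π c, by rw [← map_pow, ← map_inv, ← map_mul, ← map_mul, hc, map_mul]⟩

end

end Cfsg.Agent.H24
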