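import Cfsg.Agent.H24.MaxClassFusion
import Mathlib.Data.ZMod.Basic

/-!
Reflections of `lcw G (n - 3)` in a `p`-group of maximal class: for `p` odd, an automorphism of
`lcw G (n - 3)` with a centre in `lcw G (n - 2)` that inverts its centre cannot be extended to all
the subgroups on which it preserves the action on that chain.
-/

set_option linter.unusedSectionVars false

namespace Cfsg.Agent.H24

open Subgroup
open scoped commutatorElement

variable {G : Type*} [Group G]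

/-- Commutators of powers when the commutator is central. -/
theorem commutator_zpow_zpow {u x : G} (hu : Commute ⁅u, x⁆ u) (hx : Commute ⁅u, x⁆ x) (a b : ℤ) :
    ⁅u ^ a, x ^ b⁆ = ⁅u, x⁆ ^ (a * b) := by
  set C := ⁅u, x⁆ with hC
  have h1 : u * x * u⁻¹ = C * x := by simp [hC, commutatorElement_def, mul_assoc]
  have h2 : u * x ^ b * u⁻¹ = C ^ b * x ^ b := by rw [← conj_zpow, h1, hx.mul_zpow]
  have h3 : x ^ b * u * (x ^ b)⁻¹ = C ^ (-b) * u := by
    have h4 : x ^ b * u * (x ^ b)⁻¹ = (u * x ^ b * u⁻¹ * (x ^ b)⁻¹)⁻¹ * u := by group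
    rw [h4, h2, mul_inv_cancel_right, zpow_neg]
  have h4 : x ^ b * u ^ a * (x ^ b)⁻¹ = C ^ (-b * a) * u ^ a := by
    rw [← conj_zpow, h3, (hu.zpow_left (-b)).mul_zpow, zpow_mul]
  have h5 : x ^ b * (u ^ a)⁻¹ * (x ^ b)⁻¹ = (C ^ (-b * a) * u ^ a)⁻¹ := by rw [← h4]; group
  calc ⁅u ^ a, x ^ b⁆ = u ^ a * (x ^ b * (u ^ a)⁻¹ * (x ^ b)⁻¹) := by
        simp [commutatorElement_def, mul_assoc]
    _ = C ^ (a * b) := by
        rw [h5, _root_.mul_inv_rev, mul_inv_cancel_left, ← zpow_neg]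
        congr 1; ring

/-- Commutators are bilinear on the sections of the lower central series. -/
theorem comm_power_mem [Finite G] {i j : ℕ} (hi : 1 ≤ i) (hj : 1 ≤ j) {u x u' x' : G}
    (hu : u ∈ lcw G i) (hx : x ∈ lcw G j) {a b : ℤ} (ha : (u ^ a)⁻¹ * u' ∈ lcw G (i + 1))
    (hb : (x ^ b)⁻¹ * x' ∈ lcw G (j + 1)) :
    (⁅u, x⁆ ^ (a * b))⁻¹ * ⁅u', x'⁆ ∈ lcw G (i + j + 1) := by
  set N := lcw G (i + j + 1)
  set q := QuotientGroup.mk' N
  have hq : ∀ g, g ∈ N → q g = 1 := fun g hg => (QuotientGroup.eq_one_iff g).2 hg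
  have hcom : ∀ g h, ⁅g, h⁆ ∈ N → Commute (q g) (q h) := fun g h hgh =>
    commutatorElement_eq_one_iff_mul_comm.1 (by rw [← map_commutatorElement]; exact hq _ hgh)
  have hC : ∀ g, Commute (q ⁅u, x⁆) (q g) := fun g =>
    hcom _ _ (comm_mem_lcw (by omega) le_rfl (comm_mem_lcw hi hj hu hx)
      (lcw_one (G := G) ▸ mem_top g))
  rw [← QuotientGroup.eq_one_iff]
  show q ((⁅u, x⁆ ^ (a * b))⁻¹ * ⁅u', x'⁆) = 1
  have e0 : q ⁅u', x'⁆ = q ⁅u ^ a, x ^ b⁆ := by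
    have h1 : Commute (q ((u ^ a)⁻¹ * u')) (q (x ^ b)) := hcom _ _ (lcw_le (by omega)
      (comm_mem_lcw (by omega) hj ha (zpow_mem hx b)))
    have h2 : Commute (q ((u ^ a)⁻¹ * u')) (q ((x ^ b)⁻¹ * x')) := hcom _ _ (lcw_le (by omega)
      (comm_mem_lcw (by omega) (by omega) ha hb))
    have h3 : Commute (q (u ^ a)) (q ((x ^ b)⁻¹ * x')) := hcom _ _ (lcw_le (by omega)
      (comm_mem_lcw hi (by omega) (zpow_mem hu a) hb))
    have eu : q u' = q (u ^ a) * q ((u ^ a)⁻¹ * u') := by rw [← map_mul, mul_inv_cancel_left]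
    have ex : q x' = q (x ^ b) * q ((x ^ b)⁻¹ * x') := by rw [← map_mul, mul_inv_cancel_left]
    rw [map_commutatorElement, map_commutatorElement, eu, ex]
    generalize q (u ^ a) = U at h3 ⊢
    generalize q (x ^ b) = X at h1 ⊢
    generalize q ((u ^ a)⁻¹ * u') = A at h1 h2 ⊢
    generalize q ((x ^ b)⁻¹ * x') = B at h2 h3 ⊢
    calc ⁅U * A, X * B⁆ = U * (A * (X * B) * A⁻¹) * U⁻¹ * (X * B)⁻¹ := by
          simp [commutatorElement_def, mul_assoc]
      _ = U * (X * B) * U⁻¹ * (X * B)⁻¹ := by rw [(h1.mul_right h2).eq, mul_inv_cancel_right]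
      _ = U * X * (B * U⁻¹) * B⁻¹ * X⁻¹ := by group
      _ = ⁅U, X⁆ := by rw [(h3.symm.inv_right).eq]; simp [commutatorElement_def, mul_assoc]
  have hc1 : Commute ⁅q u, q x⁆ (q u) := by rw [← map_commutatorElement]; exact hC u
  have hc2 : Commute ⁅q u, q x⁆ (q x) := by rw [← map_commutatorElement]; exact hC x
  rw [map_mul, map_inv, e0, map_zpow, map_commutatorElement q u x,
    map_commutatorElement q (u ^ a) (x ^ b), map_zpow, map_zpow,
    commutator_zpow_zpow hc1 hc2, inv_mul_cancel]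

/-- A power of an element outside `N`, but of order `p` modulo it, lies in `N` only trivially. -/
theorem dvd_of_zpow_mem {p : ℕ} [Fact p.Prime] {N : Subgroup G} {x : G} (hx : x ∉ N)
    (hp : x ^ p ∈ N) {k : ℤ} (hk : x ^ k ∈ N) : (p : ℤ) ∣ k := by
  by_contra h
  obtain ⟨a, b, hab⟩ := (Prime.coprime_iff_not_dvd
    (Nat.prime_iff_prime_int.1 (Fact.out : p.Prime))).2 h
  refine hx ?_
  have hk' : x ^ (a * p + b * k) ∈ N := by
    rw [zpow_add, mul_comm a, zpow_mul, zpow_natCast, mul_comm b, zpow_mul]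
    exact mul_mem (zpow_mem hp a) (zpow_mem hk b)
  rwa [hab, zpow_one] at hk'

section Setting

variable [Finite G] {p : ℕ} [hp : Fact p.Prime] {n : ℕ} (S : MaxSetting G p n)
include S

theorem MaxSetting.twoStep_mid (hp2 : p ≠ 2) {i : ℕ} (hi : 2 ≤ i) (hin : i + 3 ≤ n) :
    twoStep G i = twoStep G 2 := S.twoStep_eq_all hp2 hi (Or.inl hin)

theorem MaxSetting.exponent_congr {i : ℕ} (hi2 : 2 ≤ i) (hi : i < n) {x y : G}
    (hx : x ∈ lcw G i) (hx' : x ∉ lcw G (i + 1)) {a b : ℤ}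
    (ha : (x ^ a)⁻¹ * y ∈ lcw G (i + 1)) (hb : (x ^ b)⁻¹ * y ∈ lcw G (i + 1)) :
    (a : ZMod p) = b := by
  rw [← sub_eq_zero, ← Int.cast_sub, ZMod.intCast_zmod_eq_zero_iff_dvd]
  refine dvd_of_zpow_mem hx' (S.pow_mem_succ hi2 hi hx) ?_
  have h1 : (x ^ b)⁻¹ * y * ((x ^ a)⁻¹ * y)⁻¹ = x ^ (a - b) := by
    simp only [_root_.mul_inv_rev, inv_inv, ← mul_assoc, mul_inv_cancel_right]
    rw [← zpow_neg, ← zpow_add]; congr 1; ring
  exact h1 ▸ mul_mem hb (inv_mem ha)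

theorem MaxSetting.exists_zpow_of_index {N : Subgroup G} [N.Normal] (hN : N.index = p) {x : G}
    (hx : x ∉ N) (g : G) : ∃ k : ℤ, (x ^ k)⁻¹ * g ∈ N := by
  obtain ⟨a, ha⟩ := exists_pow_mul_mem (p := p) (le_top : N ≤ ⊤) (by
    rw [Subgroup.card_top, ← N.card_mul_index, hN, mul_comm]) (mem_top x) hx (mem_top g)
  exact ⟨a, by rwa [zpow_natCast]⟩

theorem MaxSetting.twoStep_inv (f : MulAut G) {i : ℕ} {g : G} (hg : g ∈ twoStep G i) :
    f g ∈ twoStep G i := by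
  intro u hu
  have hs : ∀ j, ∀ v ∈ lcw G j, f v ∈ lcw G j := fun j v hv =>
    map_lcw f.toMonoidHom f.surjective j ▸ mem_map_of_mem f.toMonoidHom hv
  have hu' : f.symm u ∈ lcw G i :=
    map_lcw f.symm.toMonoidHom f.symm.surjective i ▸ mem_map_of_mem f.symm.toMonoidHom hu
  have := hs _ _ (hg _ hu')
  rwa [map_commutatorElement, MulEquiv.apply_symm_apply] at this

theorem MaxSetting.commute_last {g : G} (hg : g ∈ twoStep G (n - 2)) {d : G}
    (hd : d ∈ lcw G (n - 2)) : Commute d g := by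
  have := hg d hd
  rw [show n - 2 + 2 = n by have := S.three; omega, S.lcw_top_eq, mem_bot] at this
  exact commutatorElement_eq_one_iff_mul_comm.1 this

theorem MaxSetting.commute_of_weight {i j : ℕ} (hi : 1 ≤ i) (hj : 1 ≤ j) (h : n ≤ i + j) {u v : G}
    (hu : u ∈ lcw G i) (hv : v ∈ lcw G j) : Commute u v := by
  have := lcw_le h (comm_mem_lcw hi hj hu hv)
  rw [S.lcw_top_eq, mem_bot] at this
  exact commutatorElement_eq_one_iff_mul_comm.1 this

omit S in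
/-- The sequence `⁅x, c⁆, ⁅x, c, c⁆, ...`. -/
def commSeq (x c : G) : ℕ → G
  | 0 => ⁅x, c⁆
  | k + 1 => ⁅commSeq x c k, c⁆

omit S in
theorem commSeq_mem (x c : G) (k : ℕ) : commSeq x c k ∈ lcw G (k + 2) := by
  induction k with
  | zero => exact comm_mem_lcw le_rfl le_rfl (lcw_one (G := G) ▸ mem_top x) (lcw_one (G := G) ▸ mem_top c)
  | succ k ih => exact comm_mem_lcw (by omega) le_rfl ih (lcw_one (G := G) ▸ mem_top c)

/-- What is needed of two generators when the last two-step centralizer is exceptional. -/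
structure Exceptional (G : Type*) [Group G] (n : ℕ) (x c : G) : Prop where
  xT : x ∈ twoStep G 2
  xC : x ∉ twoStep G (n - 2)
  cC : c ∈ twoStep G (n - 2)
  cT : c ∉ twoStep G 2

theorem MaxSetting.twoStep_normal {i : ℕ} (hi : 2 ≤ i) (hin : i + 2 ≤ n) :
    (twoStep G i).Normal := by
  refine ⟨fun g hg y u hu => ?_⟩
  have := (lcw_normal (G := G) (i + 2)).conj_mem _
    (hg (y⁻¹ * u * y) (by simpa using (lcw_normal (G := G) i).conj_mem _ hu y⁻¹)) y
  rwa [show y * ⁅y⁻¹ * u * y, g⁆ * y⁻¹ = ⁅u, y * g * y⁻¹⁆ by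
    simp [commutatorElement_def, mul_assoc]] at this

theorem MaxSetting.exists_exceptional (h4 : 4 ≤ n) (hne : twoStep G (n - 2) ≠ twoStep G 2) :
    ∃ x c : G, Exceptional G n x c := by
  have h1 := S.index_twoStep le_rfl (by omega : 2 + 2 ≤ n)
  have h2 := S.index_twoStep (by omega : 2 ≤ n - 2) (by omega)
  have key : ∀ {A B : Subgroup G}, A.index = p → B.index = p → A ≠ B → ∃ g ∈ A, g ∉ B := by
    intro A B hA hB hAB
    by_contra h
    push Not at h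
    refine hAB (Subgroup.eq_of_le_of_card_ge h ?_)
    have e1 := card_mul_index A
    have e2 := card_mul_index B
    rw [hA] at e1; rw [hB] at e2
    exact (Nat.eq_of_mul_eq_mul_right hp.out.pos (e2.trans e1.symm)).le
  obtain ⟨x, hx, hx'⟩ := key h1 h2 hne.symm
  obtain ⟨c, hc, hc'⟩ := key h2 h1 hne
  exact ⟨x, c, hx, hx', hc, hc'⟩

variable {x c : G}

theorem MaxSetting.inf_twoStep_le (h4 : 4 ≤ n) (hxc : Exceptional G n x c) :
    twoStep G 2 ⊓ twoStep G (n - 2) ≤ lcw G 2 := by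
  have hle : lcw G 2 ≤ twoStep G 2 ⊓ twoStep G (n - 2) :=
    le_inf (lcw_two_le_twoStep (by omega)) (lcw_two_le_twoStep (by omega))
  refine (Subgroup.eq_of_le_of_card_ge hle ?_).ge
  have h1 := card_mul_relIndex (inf_le_left : twoStep G 2 ⊓ twoStep G (n - 2) ≤ twoStep G 2)
  have h2 := le_relIndex_of_lt S.isP (H := twoStep G 2 ⊓ twoStep G (n - 2)) (K := twoStep G 2)
    (fun h => hxc.xC (h hxc.xT).2)
  have h3 := card_mul_index (twoStep G 2)
  rw [S.index_twoStep le_rfl (by omega), ← h1, S.card] at h3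
  rw [S.card_lcw le_rfl (by omega)]
  refine Nat.le_of_mul_le_mul_right (c := p * p) ?_ (Nat.mul_pos hp.out.pos hp.out.pos)
  calc Nat.card ↥(twoStep G 2 ⊓ twoStep G (n - 2)) * (p * p)
      ≤ Nat.card ↥(twoStep G 2 ⊓ twoStep G (n - 2)) *
        (twoStep G 2 ⊓ twoStep G (n - 2)).relIndex (twoStep G 2) * p := by
          rw [mul_assoc]; exact Nat.mul_le_mul_left _ (Nat.mul_le_mul_right _ h2)
    _ = p ^ n := h3
    _ = p ^ (n - 2) * (p * p) := by rw [← sq, ← pow_add]; congr 1; omega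

theorem MaxSetting.exists_coords (h4 : 4 ≤ n) (hxc : Exceptional G n x c) (g : G) :
    ∃ k l : ℤ, (x ^ l)⁻¹ * ((c ^ k)⁻¹ * g) ∈ lcw G 2 := by
  have := S.twoStep_normal le_rfl (by omega : 2 + 2 ≤ n)
  have := S.twoStep_normal (by omega : 2 ≤ n - 2) (by omega)
  obtain ⟨k, hk⟩ := S.exists_zpow_of_index (S.index_twoStep le_rfl (by omega)) hxc.cT g
  obtain ⟨l, hl⟩ := S.exists_zpow_of_index (S.index_twoStep (by omega : 2 ≤ n - 2) (by omega))
    hxc.xC ((c ^ k)⁻¹ * g)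
  exact ⟨k, l, S.inf_twoStep_le h4 hxc ⟨(twoStep G 2).mul_mem ((twoStep G 2).inv_mem ((twoStep G 2).zpow_mem hxc.xT l)) hk, hl⟩⟩

theorem MaxSetting.commSeq_not_mem (hp2 : p ≠ 2) (h4 : 4 ≤ n) (hxc : Exceptional G n x c) :
    ∀ {k : ℕ}, k + 4 ≤ n → commSeq x c k ∉ lcw G (k + 3) := by
  intro k
  induction k with
  | zero =>
    intro _ h
    have h0 : ⁅x, c⁆ ∈ lcw G 3 := h
    have htop : ∀ {z : G}, x ∈ centralizerMod z → c ∈ centralizerMod z →
        ∀ g, g ∈ centralizerMod z := by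
      intro z hx hc g
      obtain ⟨k, l, hm⟩ := S.exists_coords h4 hxc g
      have h2 : (x ^ l)⁻¹ * ((c ^ k)⁻¹ * g) ∈ centralizerMod z :=
        comm_mem_lcw (by omega) le_rfl hm (lcw_one (G := G) ▸ mem_top z)
      have := mul_mem (mul_mem (zpow_mem hc k) (zpow_mem hx l)) h2
      rwa [show c ^ k * x ^ l * ((x ^ l)⁻¹ * ((c ^ k)⁻¹ * g)) = g by group] at this
    have hcx : c ∈ centralizerMod x := by
      show ⁅c, x⁆ ∈ lcw G 3
      rw [← commutatorElement_inv x c]; exact inv_mem h0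
    have h1 : ∀ g, g ∈ centralizerMod x := htop (by show ⁅x, x⁆ ∈ lcw G 3; simp) hcx
    have h2 : ∀ g, g ∈ centralizerMod c := htop h0 (by show ⁅c, c⁆ ∈ lcw G 3; simp)
    have h3 : ∀ z g : G, ⁅g, z⁆ ∈ lcw G 3 := by
      intro z
      refine htop ?_ ?_
      · show ⁅x, z⁆ ∈ lcw G 3
        rw [← commutatorElement_inv z x]; exact inv_mem (h1 z)
      · show ⁅c, z⁆ ∈ lcw G 3
        rw [← commutatorElement_inv z c]; exact inv_mem (h2 z)
    refine S.lcw_not_le (i := 2) (by omega) (by omega) ?_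
    rw [lcw_two, _root_.commutator_def, commutator_le]
    exact fun g _ z _ => h3 z g
  | succ k ih =>
    intro hk h
    refine hxc.cT ?_
    rw [← S.twoStep_mid hp2 (i := k + 2) (by omega) (by omega)]
    exact S.mem_twoStep_of_gen (by omega) (by omega) (commSeq_mem x c k) (ih (by omega)) h

/-- In the exceptional case `lcw 2` does not centralize `lcw (n - 3)`. -/
theorem MaxSetting.comm_two_ne_one (hp2 : p ≠ 2) (h5 : 5 ≤ n) (hxc : Exceptional G n x c) :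
    ⁅commSeq x c (n - 5), commSeq x c 0⁆ ≠ 1 := by
  intro h
  obtain ⟨A, hA⟩ : ∃ A, A = commSeq x c (n - 5) := ⟨_, rfl⟩
  obtain ⟨B, hB⟩ : ∃ B, B = ⁅A, c⁆ := ⟨_, rfl⟩
  have hA2 : A ∈ lcw G (n - 3) := by
    have := commSeq_mem x c (n - 5)
    rwa [show n - 5 + 2 = n - 3 by omega, ← hA] at this
  have hB2 : B ∈ lcw G (n - 2) := by
    have := comm_mem_lcw (i := n - 3) (j := 1) (by omega) le_rfl hA2
      (lcw_one (G := G) ▸ mem_top c)
    rwa [show n - 3 + 1 = n - 2 by omega, ← hB] at this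
  have hB3 : B ∉ lcw G (n - 1) := by
    intro hh
    refine S.commSeq_not_mem hp2 (by omega) hxc (k := n - 4) (by omega) ?_
    rw [show n - 4 = n - 5 + 1 by omega, show n - 5 + 1 + 3 = n - 1 by omega, commSeq, ← hA, ← hB]
    exact hh
  apply hxc.xC
  refine S.mem_twoStep_of_gen (by omega) (by omega) hB2 (by
    rwa [show n - 2 + 1 = n - 1 by omega]) ?_
  rw [show n - 2 + 2 = n by omega, S.lcw_top_eq, mem_bot, commutatorElement_eq_one_iff_mul_comm]
  -- conjugation by `x` fixes `B`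
  have hz : ⁅x, A⁆ ∈ lcw G (n - 1) := by
    have := inv_mem ((S.twoStep_mid hp2 (i := n - 3) (by omega) (by omega)) ▸ hxc.xT :
      x ∈ twoStep G (n - 3)) 
    have h' := mem_twoStep.1 ((inv_mem_iff (x := x)).1 this) A hA2
    rw [← commutatorElement_inv A x, show n - 1 = n - 3 + 2 by omega]
    exact inv_mem h'
  have hzc : ∀ g : G, Commute ⁅x, A⁆ g := fun g =>
    S.commute_of_weight (i := n - 1) (j := 1) (by omega) le_rfl (by omega) hz
      (lcw_one (G := G) ▸ mem_top g)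
  have hcomm : Commute A ⁅x, c⁆ := by
    rw [hA]; exact commutatorElement_eq_one_iff_mul_comm.1 h
  have hcB : Commute ⁅x, c⁆ B :=
    S.commute_of_weight (i := 2) (j := n - 2) (by omega) (by omega) (by omega)
      (commSeq_mem x c 0) hB2
  have e1 : x * B * x⁻¹ = B := by
    calc x * B * x⁻¹ = ⁅⁅x, A⁆ * A, ⁅x, c⁆ * c⁆ := by
          simp [hB, commutatorElement_def, mul_assoc]
      _ = ⁅x, A⁆ * (A * (⁅x, c⁆ * c) * A⁻¹) * ⁅x, A⁆⁻¹ * (⁅x, c⁆ * c)⁻¹ := by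
          simp [commutatorElement_def, mul_assoc]
      _ = A * (⁅x, c⁆ * c) * A⁻¹ * (⁅x, c⁆ * c)⁻¹ := by
          rw [(hzc _).eq, mul_inv_cancel_right]
      _ = A * ⁅x, c⁆ * A⁻¹ * B * ⁅x, c⁆⁻¹ := by
          simp [hB, commutatorElement_def, mul_assoc]
      _ = B := by rw [hcomm.eq, mul_inv_cancel_right, hcB.eq, mul_inv_cancel_right]
  calc B * x = x * B * x⁻¹ * x := by rw [e1]
    _ = x * B := by group

theorem MaxSetting.comm_pair (h6 : 5 ≤ n) (hxc : Exceptional G n x c) {k m : ℕ}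
    (hkm : k + m + 1 = n - 5) :
    ⁅commSeq x c k, commSeq x c (m + 1)⁆ * ⁅commSeq x c (k + 1), commSeq x c m⁆ = 1 := by
  set A := commSeq x c k with hA
  set B := commSeq x c m with hB
  have hA' : commSeq x c (k + 1) = ⁅A, c⁆ := rfl
  have hB' : commSeq x c (m + 1) = ⁅B, c⁆ := rfl
  rw [hA', hB']
  have mA := commSeq_mem x c k
  have mB := commSeq_mem x c m
  have mA' := commSeq_mem x c (k + 1)
  have mB' := commSeq_mem x c (m + 1)
  rw [← hA] at mA; rw [← hB] at mB; rw [hA'] at mA'; rw [hB'] at mB'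
  have hAB : ⁅A, B⁆ ∈ lcw G (n - 2) := lcw_le (by omega) (comm_mem_lcw (by omega) (by omega) mA mB)
  have hcAB : Commute ⁅A, B⁆ c := S.commute_last hxc.cC hAB
  have hAB' : ⁅A, ⁅B, c⁆⁆ ∈ lcw G (n - 1) :=
    lcw_le (by omega) (comm_mem_lcw (by omega) (by omega) mA mB')
  have hA'B : ⁅⁅A, c⁆, B⁆ ∈ lcw G (n - 1) :=
    lcw_le (by omega) (comm_mem_lcw (by omega) (by omega) mA' mB)
  have hcen : ∀ {z : G}, z ∈ lcw G (n - 1) → ∀ g, Commute z g := fun hz g =>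
    S.commute_of_weight (i := n - 1) (j := 1) (by omega) le_rfl (by omega) hz
      (lcw_one (G := G) ▸ mem_top g)
  have hA'B' : Commute ⁅A, c⁆ ⁅B, c⁆ :=
    S.commute_of_weight (by omega) (by omega) (by omega) mA' mB'
  have hB'AB : Commute ⁅B, c⁆ ⁅A, B⁆ :=
    S.commute_of_weight (i := m + 1 + 2) (j := n - 2) (by omega) (by omega) (by omega) mB' hAB
  have hA'AB : Commute ⁅A, c⁆ ⁅A, B⁆ :=
    S.commute_of_weight (i := k + 1 + 2) (j := n - 2) (by omega) (by omega) (by omega) mA' hAB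
  have e : c * ⁅A, B⁆ * c⁻¹ = ⁅⁅A, c⁆⁻¹ * A, ⁅B, c⁆⁻¹ * B⁆ := by
    simp [commutatorElement_def, mul_assoc]
  rw [show c * ⁅A, B⁆ * c⁻¹ = ⁅A, B⁆ by rw [← hcAB.eq, mul_inv_cancel_right]] at e
  have e2 : ⁅A, ⁅B, c⁆⁻¹ * B⁆ = ⁅A, ⁅B, c⁆⁆⁻¹ * ⁅A, B⁆ := by
    calc ⁅A, ⁅B, c⁆⁻¹ * B⁆ = ⁅A, ⁅B, c⁆⁻¹⁆ * (⁅B, c⁆⁻¹ * ⁅A, B⁆ * ⁅B, c⁆) := by
          simp [commutatorElement_def, mul_assoc]
      _ = ⁅A, ⁅B, c⁆⁻¹⁆ * ⁅A, B⁆ := by rw [hB'AB.inv_left.eq, inv_mul_cancel_right]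
      _ = _ := by
          congr 1
          rw [show ⁅A, ⁅B, c⁆⁻¹⁆ = ⁅B, c⁆⁻¹ * ⁅A, ⁅B, c⁆⁆⁻¹ * ⁅B, c⁆ by
            simp [commutatorElement_def, mul_assoc], ← ((hcen hAB') _).inv_inv.eq,
            inv_mul_cancel_right]
  have e3 : ⁅⁅A, c⁆⁻¹, ⁅B, c⁆⁻¹ * B⁆ = ⁅⁅A, c⁆, B⁆⁻¹ := by
    calc ⁅⁅A, c⁆⁻¹, ⁅B, c⁆⁻¹ * B⁆
        = ⁅A, c⁆⁻¹ * ⁅B, c⁆⁻¹ * (B * ⁅A, c⁆ * B⁻¹) * ⁅B, c⁆ := by
          simp [commutatorElement_def, mul_assoc]
      _ = ⁅A, c⁆⁻¹ * ⁅B, c⁆⁻¹ * (⁅⁅A, c⁆, B⁆⁻¹ * ⁅A, c⁆) * ⁅B, c⁆ := by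
          simp [commutatorElement_def, mul_assoc]
      _ = ⁅A, c⁆⁻¹ * ⁅B, c⁆⁻¹ * ⁅A, c⁆ * ⁅B, c⁆ * ⁅⁅A, c⁆, B⁆⁻¹ := by
          have hz := (hcen (inv_mem hA'B))
          rw [(hz ⁅A, c⁆).eq]
          simp only [mul_assoc]
          rw [(hz ⁅B, c⁆).eq]
      _ = _ := by rw [hA'B'.inv_inv.eq]; group
  have e4 : ⁅⁅A, c⁆⁻¹ * A, ⁅B, c⁆⁻¹ * B⁆ =
      ⁅A, c⁆⁻¹ * ⁅A, ⁅B, c⁆⁻¹ * B⁆ * ⁅A, c⁆ * ⁅⁅A, c⁆⁻¹, ⁅B, c⁆⁻¹ * B⁆ := by
    simp [commutatorElement_def, mul_assoc]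
  rw [e4, e2, e3, ← mul_assoc, ← ((hcen (inv_mem hAB')) _).eq, mul_assoc _ ⁅A, c⁆⁻¹ ⁅A, B⁆,
    hA'AB.inv_left.eq] at e
  simp only [mul_assoc, inv_mul_cancel_left] at e
  have h9 := hcen (inv_mem hA'B) ⁅A, B⁆
  rw [← h9.eq, ← mul_assoc] at e
  have e5 : ⁅A, ⁅B, c⁆⁆⁻¹ * ⁅⁅A, c⁆, B⁆⁻¹ = 1 := mul_eq_right.mp e.symm
  rw [← inv_inj, _root_.mul_inv_rev, inv_one]
  rw [← (hcen (inv_mem hAB') ⁅⁅A, c⁆, B⁆⁻¹).eq]
  exact e5

/-- In the exceptional case `n` is even. -/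
theorem MaxSetting.odd_sub_five (hp2 : p ≠ 2) (h5 : 5 ≤ n) (hxc : Exceptional G n x c) :
    Odd (n - 5) := by
  by_contra hev
  obtain ⟨t, ht⟩ := Nat.not_odd_iff_even.1 hev
  have hall : ∀ i, i ≤ n - 5 → ⁅commSeq x c (n - 5 - i), commSeq x c i⁆ ≠ 1 := by
    intro i
    induction i with
    | zero => exact fun _ => S.comm_two_ne_one hp2 h5 hxc
    | succ i ih =>
      intro hi he
      have := S.comm_pair h5 hxc (k := n - 5 - (i + 1)) (m := i) (by omega)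
      rw [he, one_mul, show n - 5 - (i + 1) + 1 = n - 5 - i by omega] at this
      exact ih (by omega) this
  have := hall t (by omega)
  rw [show n - 5 - t = t by omega] at this
  exact this (by simp)

omit S in
theorem mul_inv_mem_of_congr {N : Subgroup G} {g y : G} {k : ℤ} (h : g⁻¹ * y ∈ N) (h1 : k = 1) :
    (g ^ k)⁻¹ * y ∈ N := by rw [h1, zpow_one]; exact h

/-- The sections of an extension to `G` of a map on the last three of them. -/
theorem MaxSetting.section_signs (hp2 : p ≠ 2) (h5 : 5 ≤ n) (hxc : Exceptional G n x c) (f : MulAut G)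
    {τ γ : ℤ} (hτ : (x ^ τ)⁻¹ * f x ∈ lcw G 2) (hγ : (c ^ γ)⁻¹ * f c ∈ lcw G 2) :
    ∀ k, (commSeq x c k ^ (τ * γ ^ (k + 1)))⁻¹ * f (commSeq x c k) ∈ lcw G (k + 3) := by
  intro k
  induction k with
  | zero =>
    have := comm_power_mem (i := 1) (j := 1) le_rfl le_rfl (lcw_one (G := G) ▸ mem_top x)
      (lcw_one (G := G) ▸ mem_top c) hτ hγ
    rw [← map_commutatorElement] at this
    simpa [commSeq] using this
  | succ k ih =>
    have := comm_power_mem (i := k + 2) (j := 1) (by omega) le_rfl (commSeq_mem x c k)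
      (lcw_one (G := G) ▸ mem_top c) ih hγ
    rw [← map_commutatorElement] at this
    rw [show τ * γ ^ (k + 1 + 1) = τ * γ ^ (k + 1) * γ by ring]
    exact this

/-- An automorphism acting as `1, 1, -1` or as `1, -1, 1` on the last three sections. -/
theorem MaxSetting.no_signs (hp2 : p ≠ 2) (h5 : 5 ≤ n) (hxc : Exceptional G n x c) (f : MulAut G)
    {η ζ : ℤ} (hsign : (η = 1 ∧ ζ = -1) ∨ (η = -1 ∧ ζ = 1))
    (ha : ∀ a ∈ lcw G (n - 3), a⁻¹ * f a ∈ lcw G (n - 2))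
    (hb : ∀ b ∈ lcw G (n - 2), (b ^ η)⁻¹ * f b ∈ lcw G (n - 1))
    (hz : ∀ z ∈ lcw G (n - 1), f z = z ^ ζ) : False := by
  have := S.twoStep_normal le_rfl (by omega : 2 + 2 ≤ n)
  have := S.twoStep_normal (by omega : 2 ≤ n - 2) (by omega)
  have hfc : f c ∈ twoStep G (n - 2) := S.twoStep_inv f hxc.cC
  have hfx : f x ∈ twoStep G 2 := S.twoStep_inv f hxc.xT
  obtain ⟨τ, hτ⟩ := S.exists_zpow_of_index (S.index_twoStep (by omega : 2 ≤ n - 2) (by omega))
    hxc.xC (f x)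
  obtain ⟨γ, hγ⟩ := S.exists_zpow_of_index (S.index_twoStep le_rfl (by omega)) hxc.cT (f c)
  have hτ' : (x ^ τ)⁻¹ * f x ∈ lcw G 2 := S.inf_twoStep_le (by omega) hxc
    ⟨(twoStep G 2).mul_mem ((twoStep G 2).inv_mem ((twoStep G 2).zpow_mem hxc.xT τ)) hfx, hτ⟩
  have hγ' : (c ^ γ)⁻¹ * f c ∈ lcw G 2 := S.inf_twoStep_le (by omega) hxc
    ⟨hγ, (twoStep G (n - 2)).mul_mem ((twoStep G (n - 2)).inv_mem
      ((twoStep G (n - 2)).zpow_mem hxc.cC γ)) hfc⟩
  have hs := S.section_signs hp2 h5 hxc f hτ' hγ'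
  have hd := S.odd_sub_five hp2 h5 hxc
  set m := n - 5 with hm
  -- the three sections
  have mA : commSeq x c m ∈ lcw G (n - 3) := lcw_le (by omega) (commSeq_mem x c m)
  have mB : commSeq x c (m + 1) ∈ lcw G (n - 2) := lcw_le (by omega) (commSeq_mem x c (m + 1))
  have nA : commSeq x c m ∉ lcw G (n - 2) := by
    have := S.commSeq_not_mem hp2 (by omega) hxc (k := m) (by omega)
    rwa [show m + 3 = n - 2 by omega] at this
  have nB : commSeq x c (m + 1) ∉ lcw G (n - 1) := by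
    have := S.commSeq_not_mem hp2 (by omega) hxc (k := m + 1) (by omega)
    rwa [show m + 1 + 3 = n - 1 by omega] at this
  obtain ⟨Z, hZ⟩ : ∃ Z, Z = ⁅commSeq x c (m + 1), x⁆ := ⟨_, rfl⟩
  have hZ1 : Z ∉ lcw G n := by
    intro h
    refine hxc.xC (S.mem_twoStep_of_gen (by omega) (by omega) mB
      (by rwa [show n - 2 + 1 = n - 1 by omega]) ?_)
    rw [show n - 2 + 2 = n by omega, ← hZ]
    exact h
  have mZ : Z ∈ lcw G (n - 1) := by
    rw [hZ]
    exact lcw_le (by omega) (comm_mem_lcw (i := n - 2) (j := 1) (by omega) le_rfl mB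
      (lcw_one (G := G) ▸ mem_top x))
  have eA : ((τ * γ ^ (m + 1) : ℤ) : ZMod p) = ((1 : ℤ) : ZMod p) :=
    S.exponent_congr (i := n - 3) (by omega) (by omega) mA (by rwa [show n - 3 + 1 = n - 2 by omega])
      (by have := hs m; rwa [show m + 3 = n - 3 + 1 by omega] at this)
      (by rw [zpow_one, show n - 3 + 1 = n - 2 by omega]; exact ha _ mA)
  have eB : ((τ * γ ^ (m + 1 + 1) : ℤ) : ZMod p) = (η : ZMod p) :=
    S.exponent_congr (i := n - 2) (by omega) (by omega) mB (by rwa [show n - 2 + 1 = n - 1 by omega])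
      (by have := hs (m + 1); rwa [show m + 1 + 3 = n - 2 + 1 by omega] at this)
      (by rw [show n - 2 + 1 = n - 1 by omega]; exact hb _ mB)
  have hsZ := comm_power_mem (i := n - 2) (j := 1) (by omega) le_rfl mB
    (lcw_one (G := G) ▸ mem_top x)
    (by have := hs (m + 1); rwa [show m + 1 + 3 = n - 2 + 1 by omega] at this) hτ'
  rw [← map_commutatorElement, ← hZ, hz Z mZ, show n - 2 + 1 + 1 = n by omega] at hsZ
  have eZ : ((τ * γ ^ (m + 1 + 1) * τ : ℤ) : ZMod p) = (ζ : ZMod p) :=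
    S.exponent_congr (i := n - 1) (by omega) (by omega) mZ (by rwa [show n - 1 + 1 = n by omega])
      (by rwa [show n - 1 + 1 = n by omega]) (by simp)
  push_cast at eA eB eZ
  obtain ⟨T, hT⟩ : ∃ T : ZMod p, T = (τ : ZMod p) := ⟨_, rfl⟩
  obtain ⟨C, hC⟩ : ∃ C : ZMod p, C = (γ : ZMod p) := ⟨_, rfl⟩
  rw [← hT, ← hC] at eA eB eZ
  rw [pow_succ C (m + 1), ← mul_assoc, eA, one_mul] at eB
  rw [pow_succ C (m + 1), ← mul_assoc, eA, one_mul, eB] at eZ
  haveI : Fact (2 < p) := ⟨by have := hp.out.two_le; omega⟩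
  rcases hsign with ⟨rfl, rfl⟩ | ⟨rfl, rfl⟩ <;> push_cast at eB eZ
  · rw [one_mul] at eZ
    rw [eB, one_pow, mul_one, eZ] at eA
    exact ZMod.neg_one_ne_one (n := p) eA
  · have eT : T = -1 := by rw [← neg_neg T, ← neg_one_mul T, eZ]
    rw [eB, eT, (show Even (m + 1) from hd.add_one).neg_one_pow, mul_one] at eA
    exact ZMod.neg_one_ne_one (n := p) eA

/-- An extension to `G` without exceptional two-step centralizer. -/
theorem MaxSetting.no_signs_of_eq (hp2 : p ≠ 2) (h5 : 5 ≤ n)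
    (heq : twoStep G (n - 2) = twoStep G 2) (f : MulAut G)
    (ha : ∀ a ∈ lcw G (n - 3), a⁻¹ * f a ∈ lcw G (n - 2))
    (hb : ∀ b ∈ lcw G (n - 2), b⁻¹ * f b ∈ lcw G (n - 1))
    (hz : ∀ z ∈ lcw G (n - 1), f z = z⁻¹) : False := by
  have := S.twoStep_normal le_rfl (by omega : 2 + 2 ≤ n)
  obtain ⟨s, hs⟩ : ∃ s, s ∉ twoStep G 2 := by
    by_contra h
    push Not at h
    exact S.twoStep_ne_top (i := 2) (by omega) (by omega) (eq_top_iff.2 fun g _ => h g)
  obtain ⟨σ, hσ⟩ := S.exists_zpow_of_index (S.index_twoStep le_rfl (by omega)) hs (f s)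
  obtain ⟨B0, hB0, hB0'⟩ := SetLike.not_le_iff_exists.1 (S.lcw_not_le (i := n - 3) (by omega) (by omega))
  obtain ⟨B, hB⟩ : ∃ B, B = ⁅B0, s⁆ := ⟨_, rfl⟩
  obtain ⟨Z, hZ⟩ : ∃ Z, Z = ⁅B, s⁆ := ⟨_, rfl⟩
  have mB : B ∈ lcw G (n - 2) := by
    rw [hB]; exact lcw_le (by omega) (comm_mem_lcw (i := n - 3) (j := 1) (by omega) le_rfl hB0
      (lcw_one (G := G) ▸ mem_top s))
  have nB : B ∉ lcw G (n - 1) := by
    intro h
    refine hs ?_
    rw [← S.twoStep_mid hp2 (i := n - 3) (by omega) (by omega)]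
    refine S.mem_twoStep_of_gen (by omega) (by omega) hB0 hB0' ?_
    rw [show n - 3 + 2 = n - 1 by omega, ← hB]; exact h
  have mZ : Z ∈ lcw G (n - 1) := by
    rw [hZ]; exact lcw_le (by omega) (comm_mem_lcw (i := n - 2) (j := 1) (by omega) le_rfl mB
      (lcw_one (G := G) ▸ mem_top s))
  have nZ : Z ∉ lcw G n := by
    intro h
    refine hs ?_
    rw [← heq]
    refine S.mem_twoStep_of_gen (by omega) (by omega) mB (by rwa [show n - 2 + 1 = n - 1 by omega]) ?_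
    rw [show n - 2 + 2 = n by omega, ← hZ]; exact h
  have key : ∀ i, 2 ≤ i → i + 2 ≤ n → twoStep G i = twoStep G 2 := fun i hi hin => by
    rcases S.twoStep_eq_two_or_last hi hin with h | h
    · exact h
    · rw [h, heq]
  -- the exponent of `s` on the sections
  have hstep : ∀ i, 2 ≤ i → i + 2 ≤ n → ∀ u ∈ lcw G i, ∀ a : ℤ,
      (u ^ a)⁻¹ * f u ∈ lcw G (i + 1) →
      (⁅u, s⁆ ^ (a * σ))⁻¹ * f ⁅u, s⁆ ∈ lcw G (i + 2) := by
    intro i hi hin u hu a hua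
    obtain ⟨q, hq⟩ : ∃ q, q = (s ^ σ)⁻¹ * f s := ⟨_, rfl⟩
    have hq' : q ∈ twoStep G i := by rw [key i hi hin, hq]; exact hσ
    have h1 := comm_power_mem (i := i) (j := 1) (by omega) le_rfl hu
      (lcw_one (G := G) ▸ mem_top s) (a := a) (b := σ) (u' := f u) (x' := s ^ σ) hua
      (by rw [inv_mul_cancel]; exact one_mem _)
    rw [show i + 1 + 1 = i + 2 by omega] at h1
    have h2 : ⁅f u, s ^ σ⁆⁻¹ * ⁅f u, f s⁆ ∈ lcw G (i + 2) := by
      have hfu : f u ∈ lcw G i := map_lcw f.toMonoidHom f.surjective i ▸ mem_map_of_mem f.toMonoidHom hu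
      have := (lcw_normal (G := G) (i + 2)).conj_mem _ (hq' (f u) hfu) (s ^ σ)
      rw [show f s = s ^ σ * q by rw [hq, mul_inv_cancel_left]]
      rwa [show ⁅f u, s ^ σ⁆⁻¹ * ⁅f u, s ^ σ * q⁆ = s ^ σ * ⁅f u, q⁆ * (s ^ σ)⁻¹ by
        simp [commutatorElement_def, mul_assoc]]
    rw [map_commutatorElement]
    have := mul_mem h1 h2
    rwa [mul_assoc, mul_inv_cancel_left] at this
  have e1 : ((1 * σ : ℤ) : ZMod p) = ((1 : ℤ) : ZMod p) := by
    refine S.exponent_congr (i := n - 2) (by omega) (by omega) mB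
      (by rwa [show n - 2 + 1 = n - 1 by omega]) ?_ (by rw [zpow_one, show n - 2 + 1 = n - 1 by omega]; exact hb _ mB)
    have := hstep (n - 3) (by omega) (by omega) B0 hB0 1
      (by rw [zpow_one, show n - 3 + 1 = n - 2 by omega]; exact ha _ hB0)
    rwa [← hB, show n - 3 + 2 = n - 2 + 1 by omega] at this
  have e2 : ((1 * σ : ℤ) : ZMod p) = ((-1 : ℤ) : ZMod p) := by
    refine S.exponent_congr (i := n - 1) (by omega) (by omega) mZ
      (by rwa [show n - 1 + 1 = n by omega]) (y := f Z) ?_ (by simp [hz Z mZ])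
    have := hstep (n - 2) (by omega) (by omega) B mB 1
      (by rw [zpow_one, show n - 2 + 1 = n - 1 by omega]; exact hb _ mB)
    rwa [← hZ, show n - 2 + 2 = n - 1 + 1 by omega] at this
  haveI : Fact (2 < p) := ⟨by have := hp.out.two_le; omega⟩
  push_cast at e1 e2
  rw [e1] at e2
  exact ZMod.neg_one_ne_one (n := p) e2.symm

/-- Inside the exceptional two-step centralizer, `lcw 2` is recognized from `lcw (n - 4)`. -/
theorem MaxSetting.mem_two_iff (hp2 : p ≠ 2) (h7 : 7 ≤ n) (hxc : Exceptional G n x c)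
    {y : G} (hy : y ∈ twoStep G (n - 2)) :
    (∀ y' ∈ twoStep G (n - 2), ⁅y, y'⁆ ∈ lcw G (n - 3)) ↔ y ∈ lcw G (n - 4) := by
  constructor
  swap
  · intro h y' _
    exact lcw_le (by omega) (comm_mem_lcw (i := n - 4) (j := 1) (by omega) le_rfl h
      (lcw_one (G := G) ▸ mem_top y'))
  intro h
  have hy2 : y ∈ lcw G 2 := by
    refine S.inf_twoStep_le (by omega) hxc ⟨?_, hy⟩
    have hw : commSeq x c (n - 7) ∈ lcw G (n - 5) := lcw_le (by omega) (commSeq_mem x c (n - 7))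
    have hw' : commSeq x c (n - 7) ∉ lcw G (n - 4) := by
      have := S.commSeq_not_mem hp2 (by omega) hxc (k := n - 7) (by omega)
      rwa [show n - 7 + 3 = n - 4 by omega] at this
    rw [← S.twoStep_mid hp2 (i := n - 5) (by omega) (by omega)]
    refine S.mem_twoStep_of_gen (by omega) (by omega) hw (by rwa [show n - 5 + 1 = n - 4 by omega]) ?_
    rw [show n - 5 + 2 = n - 3 by omega, ← commutatorElement_inv y]
    exact inv_mem (h _ (lcw_two_le_twoStep (by omega) (lcw_le (by omega) hw)))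
  by_contra hcon
  obtain ⟨i, hi2, hi, hyi, hyi'⟩ : ∃ i, 2 ≤ i ∧ i + 5 ≤ n ∧ y ∈ lcw G i ∧ y ∉ lcw G (i + 1) := by
    by_contra hno
    push Not at hno
    have : ∀ i, 2 ≤ i → i + 4 ≤ n → y ∈ lcw G i := by
      intro i hi
      induction i, hi using Nat.le_induction with
      | base => exact fun _ => hy2
      | succ i hi ih => exact fun hin => hno i hi (by omega) (ih (by omega))
    exact hcon (this (n - 4) (by omega) (by omega))
  refine hxc.cT ?_
  rw [← S.twoStep_mid hp2 (i := i) hi2 (by omega)]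
  exact S.mem_twoStep_of_gen hi2 (by omega) hyi hyi' (lcw_le (by omega) (h c hxc.cC))

/-- A reflection of `lcw G (n - 3)` cannot be extended wherever it respects the chain. -/
theorem MaxSetting.no_reflection (hp2 : p ≠ 2) (h5 : 5 ≤ n) (u : G) (hu : u ∈ lcw G (n - 2))
    (hu1 : u ≠ 1) (hup : u ^ p = 1) (hne : u ∉ lcw G (n - 1) → twoStep G (n - 2) ≠ twoStep G 2)
    (σ : ↥(lcw G (n - 3)) →* G)
    (hrefl : ∀ y : ↥(lcw G (n - 3)), (y : G)⁻¹ * σ y ∈ zpowers u)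
    (hσu : σ ⟨u, lcw_le (by omega) hu⟩ = u⁻¹)
    (hext : ∀ K : Subgroup G,
      (∀ g ∈ K, ∀ y : ↥(lcw G (n - 3)),
        let y' : ↥(lcw G (n - 3)) := ⟨g * y * g⁻¹, (lcw_normal _).conj_mem _ y.2 g⟩
        (σ y)⁻¹ * σ y' ∈ lcw G (n - 2) ∧ (σ y ∈ lcw G (n - 2) → (σ y)⁻¹ * σ y' ∈ lcw G (n - 1)) ∧
          (σ y ∈ lcw G (n - 1) → σ y' = σ y)) →
      ∃ ψ : ↥K →* G, Function.Injective ψ ∧
        ∀ (y : ↥K) (h : (y : G) ∈ lcw G (n - 3)), ψ y = σ ⟨y, h⟩) : False := by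
  have hU : zpowers u ≤ lcw G (n - 2) := zpowers_le.2 hu
  have hin2 : lcw G (n - 2) ≤ lcw G (n - 3) := lcw_le (by omega)
  have hin1 : lcw G (n - 1) ≤ lcw G (n - 2) := lcw_le (by omega)
  -- `σ` is an involution
  have hσzp : ∀ (k : ℤ) (h : u ^ k ∈ lcw G (n - 3)), σ ⟨u ^ k, h⟩ = (u ^ k)⁻¹ := by
    intro k h
    have : (⟨u ^ k, h⟩ : ↥(lcw G (n - 3))) = ⟨u, hin2 hu⟩ ^ k := Subtype.ext (by simp)
    rw [this, map_zpow, hσu, inv_zpow]
  have hσ3 : ∀ y, σ y ∈ lcw G (n - 3) := fun y => by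
    have := mul_mem y.2 (hin2 (hU (hrefl y)))
    rwa [mul_inv_cancel_left] at this
  have hσσ : ∀ y, σ ⟨σ y, hσ3 y⟩ = y := by
    intro y
    obtain ⟨k, hk⟩ := hrefl y
    have hk' : σ y = (y : G) * u ^ k := by rw [show u ^ k = (y : G)⁻¹ * σ y from hk, mul_inv_cancel_left]
    have : (⟨σ y, hσ3 y⟩ : ↥(lcw G (n - 3))) = y * ⟨u ^ k, hin2 (zpow_mem hu k)⟩ :=
      Subtype.ext hk'
    rw [this, map_mul, hσzp, hk', mul_inv_cancel_right]
  have hσ2 : ∀ y, σ y ∈ lcw G (n - 2) ↔ (y : G) ∈ lcw G (n - 2) := fun y =>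
    ⟨fun h => by
      have := mul_mem h (inv_mem (hU (hrefl y)))
      rwa [_root_.mul_inv_rev, inv_inv, mul_inv_cancel_left] at this,
     fun h => by
      have := mul_mem h (hU (hrefl y))
      rwa [mul_inv_cancel_left] at this⟩
  have hσeq : ∀ (g h : G) (hg : g ∈ lcw G (n - 3)) (hh : h ∈ lcw G (n - 3)), g = h →
      σ ⟨g, hg⟩ = σ ⟨h, hh⟩ := by
    rintro g _ _ _ rfl; rfl
  have hdiv : ∀ (y y' : ↥(lcw G (n - 3))), (σ y)⁻¹ * σ y' = σ (y⁻¹ * y') := fun y y' => by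
    rw [map_mul, map_inv]
  have hgen : ∀ g : G, ∀ y : ↥(lcw G (n - 3)), ∀ i, n - 3 ≤ i → (y : G) ∈ lcw G i →
      (y : G)⁻¹ * (g * y * g⁻¹) ∈ lcw G (i + 1) := fun g y i hi h => conj_congr (by omega) h g
  -- extension to `G`, once `σ` fixes `lcw (n - 1)`
  have htop : (∀ y, σ y ∈ lcw G (n - 1) ↔ (y : G) ∈ lcw G (n - 1)) →
      ∃ f : MulAut G, ∀ (y : G) (h : y ∈ lcw G (n - 3)), f y = σ ⟨y, h⟩ := by
    intro h1
    obtain ⟨ψ, hψi, hψ⟩ := hext ⊤ (fun g _ y => by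
      refine ⟨?_, fun h => ?_, fun h => ?_⟩
      · rw [hdiv, hσ2]
        have := hgen g y (n - 3) le_rfl y.2
        rwa [show n - 3 + 1 = n - 2 by omega] at this
      · rw [hdiv, h1]
        have := hgen g y (n - 2) (by omega) ((hσ2 y).1 h)
        rwa [show n - 2 + 1 = n - 1 by omega] at this
      · congr 1
        refine Subtype.ext ?_
        have := hgen g y (n - 1) (by omega) ((h1 y).1 h)
        rw [show n - 1 + 1 = n by omega, S.lcw_top_eq, mem_bot, inv_mul_eq_one] at this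
        exact this.symm)
    let φ : G →* G := ψ.comp Subgroup.topEquiv.symm.toMonoidHom
    have hφi : Function.Injective φ := hψi.comp (Subgroup.topEquiv.symm.injective)
    exact ⟨MulEquiv.ofBijective φ ⟨hφi, (Finite.injective_iff_surjective.1 hφi)⟩,
      fun y h => hψ ⟨y, mem_top y⟩ h⟩
  by_cases huZ : u ∈ lcw G (n - 1)
  · -- the centre of the reflection lies in `lcw (n - 1)`
    have hUZ : zpowers u ≤ lcw G (n - 1) := zpowers_le.2 huZ
    have h1 : ∀ y, σ y ∈ lcw G (n - 1) ↔ (y : G) ∈ lcw G (n - 1) := fun y =>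
      ⟨fun h => by
        have := mul_mem h (inv_mem (hUZ (hrefl y)))
        rwa [_root_.mul_inv_rev, inv_inv, mul_inv_cancel_left] at this,
       fun h => by
        have := mul_mem h (hUZ (hrefl y))
        rwa [mul_inv_cancel_left] at this⟩
    obtain ⟨f, hf⟩ := htop h1
    have hrf : ∀ y (h : y ∈ lcw G (n - 3)), y⁻¹ * f y ∈ zpowers u := fun y h => by
      rw [hf y h]; exact hrefl ⟨y, h⟩
    have hz : ∀ z ∈ lcw G (n - 1), f z = z⁻¹ := by
      intro z hz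
      have : zpowers u = lcw G (n - 1) := eq_of_between_prime (p := p) (A := ⊥) bot_le
        (fun h => hu1 (zpowers_eq_bot.1 h.symm)) hUZ
        (by rw [Subgroup.card_bot, S.card_lcw (by omega) (by omega), show n - (n - 1) = 1 by omega,
          pow_one, mul_one])
      obtain ⟨k, hk⟩ := this ▸ hz
      have hk' : u ^ k = z := hk
      rw [← hk', hf _ (hin2 (zpow_mem hu k)), hσzp]
    by_cases heq : twoStep G (n - 2) = twoStep G 2
    · exact S.no_signs_of_eq hp2 h5 heq f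
        (fun a ha => hU (hrf a ha)) (fun b hb => hUZ (hrf b (hin2 hb))) hz
    · obtain ⟨x, c, hxc⟩ := S.exists_exceptional (by omega) heq
      exact S.no_signs hp2 h5 hxc f (η := 1) (ζ := -1) (Or.inl ⟨rfl, rfl⟩)
        (fun a ha => hU (hrf a ha)) (fun b hb => by rw [zpow_one]; exact hUZ (hrf b (hin2 hb)))
        (fun z hz' => by rw [hz z hz', zpow_neg, zpow_one])
  -- the centre lies outside `lcw (n - 1)`
  obtain ⟨x, c, hxc⟩ := S.exists_exceptional (by omega) (hne huZ)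
  have hodd := S.odd_sub_five hp2 h5 hxc
  have h6 : 6 ≤ n := by obtain ⟨k, hk⟩ := hodd; omega
  set C := twoStep G (n - 2) with hC
  obtain ⟨ψ, hψi, hψ⟩ := hext C (fun g hg y => by
    have hfix : (y : G) ∈ lcw G (n - 2) →
        (⟨g * y * g⁻¹, (lcw_normal _).conj_mem _ y.2 g⟩ : ↥(lcw G (n - 3))) = y := fun h =>
      Subtype.ext (by show g * (y : G) * g⁻¹ = y
                      rw [← (S.commute_last hg h).eq, mul_inv_cancel_right])
    refine ⟨?_, fun h => ?_, fun h => ?_⟩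
    · rw [hdiv, hσ2]
      have := hgen g y (n - 3) le_rfl y.2
      rwa [show n - 3 + 1 = n - 2 by omega] at this
    · rw [hfix ((hσ2 y).1 h), inv_mul_cancel]; exact one_mem _
    · rw [hfix ((hσ2 y).1 (hin1 h))])
  have hψC : ∀ y : ↥C, ψ y ∈ C := by
    intro y d hd
    have hd3 : d ∈ lcw G (n - 3) := hin2 hd
    have hd' : σ ⟨d, hd3⟩ ∈ lcw G (n - 2) := (hσ2 _).2 hd
    have hdC : σ ⟨d, hd3⟩ ∈ C := lcw_two_le_twoStep (by omega) (lcw_le (by omega) hd')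
    have e1 : ψ ⟨_, hdC⟩ = d := by rw [hψ _ (hin2 hd')]; exact hσσ ⟨d, hd3⟩
    have hcm : Commute d (ψ y) := by
      rw [← e1]
      exact (show Commute (⟨_, hdC⟩ : ↥C) y from Subtype.ext (S.commute_last y.2 hd').eq).map ψ
    rw [commutatorElement_eq_one_iff_mul_comm.2 hcm.eq]
    exact one_mem _
  let φ : ↥C →* ↥C := MonoidHom.mk' (fun y => ⟨ψ y, hψC y⟩) fun a b => Subtype.ext (map_mul ψ a b)
  have hφi : Function.Injective φ := fun a b h => hψi (congrArg Subtype.val h)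
  have hφs : Function.Surjective φ := Finite.injective_iff_surjective.1 hφi
  -- the pairing with a generator of `lcw (n - 3)`
  set m := n - 5 with hm
  obtain ⟨A, hA⟩ : ∃ A, A = commSeq x c m := ⟨_, rfl⟩
  obtain ⟨s0, hs0⟩ : ∃ s0, s0 = commSeq x c 0 := ⟨_, rfl⟩
  have mA : A ∈ lcw G (n - 3) := hA ▸ lcw_le (by omega) (commSeq_mem x c m)
  have nA : A ∉ lcw G (n - 2) := by
    have := S.commSeq_not_mem hp2 (by omega) hxc (k := m) (by omega)
    rwa [show m + 3 = n - 2 by omega, ← hA] at this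
  have hAC : A ∈ C := lcw_two_le_twoStep (by omega) (lcw_le (by omega) mA)
  have hpair : ∀ y ∈ C, ⁅A, y⁆ ∈ lcw G (n - 2) := fun y _ => lcw_le (by omega)
    (comm_mem_lcw (i := n - 3) (j := 1) (by omega) le_rfl mA (lcw_one (G := G) ▸ mem_top y))
  have hpm : ∀ y ∈ C, ∀ y' ∈ C, ⁅A, y * y'⁆ = ⁅A, y⁆ * ⁅A, y'⁆ := fun y hy y' hy' => by
    rw [show ⁅A, y * y'⁆ = ⁅A, y⁆ * (y * ⁅A, y'⁆ * y⁻¹) by simp [commutatorElement_def, mul_assoc],
      ← (S.commute_last hy (hpair y' hy')).eq, mul_inv_cancel_right]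
  have hpσ : ∀ y : ↥C, ⁅A, ψ y⁆ = σ ⟨⁅A, (y : G)⁆, hin2 (hpair y y.2)⟩ := by
    intro y
    obtain ⟨k, hk⟩ := hrefl ⟨A, mA⟩
    have e : σ ⟨A, mA⟩ = A * u ^ k := by
      rw [show u ^ k = A⁻¹ * σ ⟨A, mA⟩ from hk, mul_inv_cancel_left]
    have h2 : σ ⟨⁅A, (y : G)⁆, hin2 (hpair y y.2)⟩ = ⁅A * u ^ k, ψ y⁆ := by
      rw [← e, ← hψ ⟨A, hAC⟩ mA, ← map_commutatorElement,
        hψ (⁅(⟨A, hAC⟩ : ↥C), y⁆) (hin2 (hpair y y.2))]
      rfl
    rw [h2, show ⁅A * u ^ k, ψ y⁆ = A * ⁅u ^ k, ψ y⁆ * A⁻¹ * ⁅A, ψ y⁆ by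
      simp [commutatorElement_def, mul_assoc], commutatorElement_eq_one_iff_mul_comm.2
      (S.commute_last (hψC y) (zpow_mem hu k)).eq]
    group
  have hkill : ∀ y ∈ C, ⁅A, y⁆ = 1 → y ∈ lcw G 3 := by
    intro y hy h
    have hyT : y ∈ twoStep G 2 := by
      rw [← S.twoStep_mid hp2 (i := n - 3) (by omega) (by omega)]
      exact S.mem_twoStep_of_gen (by omega) (by omega) mA (by rwa [show n - 3 + 1 = n - 2 by omega])
        (h ▸ one_mem _)
    have hy2 : y ∈ lcw G 2 := S.inf_twoStep_le (by omega) hxc ⟨hyT, hy⟩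
    by_contra h3
    obtain ⟨a, ha⟩ := S.exists_pow (i := 2) le_rfl (by omega) hy2 h3 (commSeq_mem x c 0)
    refine S.comm_two_ne_one hp2 h5 hxc ?_
    rw [← hA, commutatorElement_eq_one_iff_mul_comm]
    have c1 : Commute A (y ^ a) :=
      (show Commute A y from commutatorElement_eq_one_iff_mul_comm.1 h).pow_right a
    have c2 : Commute A ((y ^ a)⁻¹ * commSeq x c 0) :=
      S.commute_of_weight (i := n - 3) (j := 3) (by omega) (by omega) (by omega) mA ha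
    have := c1.mul_right c2
    rwa [mul_inv_cancel_left] at this
  -- the element `z0` of `lcw (n - 1)`
  obtain ⟨z0, hz0⟩ : ∃ z0, z0 = ⁅A, s0⁆ := ⟨_, rfl⟩
  have hs0C : s0 ∈ C := hs0 ▸ lcw_two_le_twoStep (by omega) (commSeq_mem x c 0)
  have mz0 : z0 ∈ lcw G (n - 1) := by
    rw [hz0, hs0]; exact lcw_le (by omega) (comm_mem_lcw (i := n - 3) (j := 2) (by omega) (by omega)
      mA (commSeq_mem x c 0))
  have nz0 : z0 ≠ 1 := by rw [hz0, hA, hs0]; exact S.comm_two_ne_one hp2 h5 hxc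
  have hZgen : lcw G (n - 1) = zpowers z0 := (eq_of_between_prime (p := p) (A := ⊥) bot_le
    (fun h => nz0 (zpowers_eq_bot.1 h.symm)) (zpowers_le.2 mz0)
    (by rw [Subgroup.card_bot, S.card_lcw (by omega) (by omega), show n - (n - 1) = 1 by omega,
      pow_one, mul_one])).symm
  have hmem : ψ ⟨s0, hs0C⟩ ∈ lcw G 2 := by
    rcases Nat.lt_or_ge n 7 with h7 | h7
    · -- `n = 6`
      exfalso
      have hn : n = 6 := by omega
      obtain ⟨k, hk⟩ : ∃ k : ℤ, (commSeq x c (m + 1) ^ k)⁻¹ * u ∈ lcw G (n - 1) := by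
        obtain ⟨a, ha⟩ := S.exists_pow (i := n - 2) (by omega) (by omega)
          (lcw_le (by omega) (commSeq_mem x c (m + 1)))
          (by
            have := S.commSeq_not_mem hp2 (by omega) hxc (k := m + 1) (by omega)
            rwa [show m + 1 + 3 = n - 2 + 1 by omega] at this) hu
        exact ⟨a, by rwa [zpow_natCast, show n - 1 = n - 2 + 1 by omega]⟩
      rw [hZgen] at hk
      obtain ⟨l, hl⟩ := hk
      have hl' : z0 ^ l = (commSeq x c (m + 1) ^ k)⁻¹ * u := hl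
      -- a preimage of the centre
      let f : ↥C →* G := MonoidHom.mk' (fun y => ⁅A, (y : G)⁆) fun a b => hpm a a.2 b b.2
      obtain ⟨e0, he0⟩ : ∃ e0 : ↥C, f e0 = u := by
        refine ⟨⟨c, hxc.cC⟩ ^ k * ⟨s0, hs0C⟩ ^ l, ?_⟩
        rw [map_mul, map_zpow, map_zpow]
        show ⁅A, c⁆ ^ k * ⁅A, s0⁆ ^ l = u
        rw [← hz0, hl', hA]
        exact mul_inv_cancel_left _ u
      have he0' : ⁅A, (e0 : G)⁆ = u := he0
      have he0T : (e0 : G) ∉ twoStep G 2 := by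
        intro h
        apply huZ
        rw [← he0', show n - 1 = n - 3 + 2 by omega]
        exact ((S.twoStep_mid hp2 (i := n - 3) (by omega) (by omega)).symm ▸ h :
          (e0 : G) ∈ twoStep G (n - 3)) A mA
      have hfψ : ∀ y : ↥C, f (φ y) = σ ⟨f y, hin2 (hpair y y.2)⟩ := hpσ
      have hfker : ∀ y : ↥C, f y = 1 → (y : G) ∈ lcw G 3 := fun y h => hkill y y.2 h
      -- the images of `e0` and `s0`
      have l1 : ((φ e0 : ↥C) : G) ∈ {g | (e0 : G) * g ∈ lcw G 3} := by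
        refine hfker (e0 * φ e0) ?_
        rw [map_mul, hfψ, hσeq _ u _ (hin2 hu) he0, hσu, he0, mul_inv_cancel]
      obtain ⟨j, hj⟩ := hrefl ⟨z0, hin2 (hin1 mz0)⟩
      have hj' : u ^ j = z0⁻¹ * σ ⟨z0, hin2 (hin1 mz0)⟩ := hj
      have l2 : ((e0 ^ j * ⟨s0, hs0C⟩)⁻¹ * φ ⟨s0, hs0C⟩ : G) ∈ lcw G 3 := by
        refine hfker ((e0 ^ j * ⟨s0, hs0C⟩)⁻¹ * φ ⟨s0, hs0C⟩) ?_
        rw [map_mul, map_inv, map_mul, map_zpow, he0, hfψ]
        have h1 : f ⟨s0, hs0C⟩ = z0 := hz0.symm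
        have h2 : σ ⟨f ⟨s0, hs0C⟩, hin2 (hpair s0 hs0C)⟩ = z0 * u ^ j := by
          rw [hσeq _ z0 _ (hin2 (hin1 mz0)) h1, hj', mul_inv_cancel_left]
        rw [h2, h1, ← (S.commute_of_weight (i := n - 2) (j := n - 2) (by omega) (by omega) (by omega)
          (hin1 mz0) (zpow_mem hu j)).eq, inv_mul_cancel]
      -- compare modulo `lcw 4`
      set q := QuotientGroup.mk' (lcw G 4)
      obtain ⟨w, hw⟩ : ∃ w, w = ⁅(e0 : G), s0⁆ := ⟨_, rfl⟩
      have mw : w ∈ lcw G 3 := by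
        rw [hw, hs0]; exact comm_mem_lcw (i := 1) (j := 2) le_rfl (by omega)
          (lcw_one (G := G) ▸ mem_top _) (commSeq_mem x c 0)
      have nw : w ∉ lcw G 4 := by
        intro h
        refine he0T (S.mem_twoStep_of_gen le_rfl (by omega) (commSeq_mem x c 0)
          (S.commSeq_not_mem hp2 (by omega) hxc (k := 0) (by omega)) ?_)
        rw [← hs0, ← commutatorElement_inv, ← hw]
        exact inv_mem h
      have hc3 : ∀ g v, v ∈ lcw G 3 → Commute (q g) (q v) := fun g v hv => by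
        apply commutatorElement_eq_one_iff_mul_comm.1
        rw [← map_commutatorElement, QuotientGroup.mk'_apply, QuotientGroup.eq_one_iff,
          ← commutatorElement_inv]
        exact inv_mem (comm_mem_lcw (i := 3) (j := 1) (by omega) le_rfl hv
          (lcw_one (G := G) ▸ mem_top g))
      have hψw : q ⁅((φ e0 : ↥C) : G), ((φ ⟨s0, hs0C⟩ : ↥C) : G)⁆ = q w := by
        have hwC : w ∈ C := lcw_two_le_twoStep (by omega) (lcw_le (by omega) mw)
        have hw3 : w ∈ lcw G (n - 3) := lcw_le (by omega) mw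
        have e : ⁅((φ e0 : ↥C) : G), ((φ ⟨s0, hs0C⟩ : ↥C) : G)⁆ = σ ⟨w, hw3⟩ := by
          rw [← hψ ⟨w, hwC⟩ hw3]
          show ⁅ψ e0, ψ ⟨s0, hs0C⟩⁆ = _
          rw [← map_commutatorElement]
          congr 1
          exact Subtype.ext hw.symm
        rw [e]
        refine QuotientGroup.eq.2 ?_
        have := inv_mem (hU (hrefl ⟨w, hw3⟩))
        rw [_root_.mul_inv_rev, inv_inv] at this
        exact lcw_le (by omega) this
      obtain ⟨V1, hV1, eV1⟩ : ∃ v, v ∈ lcw G 3 ∧ ((φ e0 : ↥C) : G) = (e0 : G)⁻¹ * v :=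
        ⟨_, l1, by group⟩
      obtain ⟨V2, hV2, eV2⟩ : ∃ v, v ∈ lcw G 3 ∧
          ((φ ⟨s0, hs0C⟩ : ↥C) : G) = (e0 : G) ^ j * s0 * v :=
        ⟨_, l2, by simp [mul_assoc]⟩
      rw [eV1, eV2, map_commutatorElement, map_mul, map_mul, map_mul, map_inv, map_zpow] at hψw
      have c1 : ∀ g, Commute (q g) (q V1) := fun g => hc3 g V1 hV1
      have c2 : ∀ g, Commute (q g) (q V2) := fun g => hc3 g V2 hV2
      have cw : ∀ g, Commute (q g) (q w) := fun g => hc3 g w mw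
      have hEw : ⁅q e0, q s0⁆ = q w := by rw [hw, map_commutatorElement]
      generalize hE : q (e0 : G) = E at hψw hEw
      generalize hS0 : q s0 = S0 at hψw hEw
      have hC1 : ∀ g, Commute g (q V1) := fun g => by
        obtain ⟨g, rfl⟩ := QuotientGroup.mk'_surjective _ g; exact c1 g
      have hC2 : ∀ g, Commute g (q V2) := fun g => by
        obtain ⟨g, rfl⟩ := QuotientGroup.mk'_surjective _ g; exact c2 g
      have hCw : Commute E (q w) := hE ▸ cw e0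
      have e3 : ⁅E⁻¹ * q V1, E ^ j * S0 * q V2⁆ = E⁻¹ * (E ^ j * S0) * E * (E ^ j * S0)⁻¹ := by
        simp only [commutatorElement_def, _root_.mul_inv_rev, inv_inv]
        calc E⁻¹ * q V1 * (E ^ j * S0 * q V2) * ((q V1)⁻¹ * E) * ((q V2)⁻¹ * (S0⁻¹ * (E ^ j)⁻¹))
            = E⁻¹ * (q V1 * (E ^ j * S0 * q V2)) * (q V1)⁻¹ * E * (q V2)⁻¹ * (S0⁻¹ * (E ^ j)⁻¹) := by
              simp only [mul_assoc]
          _ = E⁻¹ * (E ^ j * S0) * (q V2 * E) * (q V2)⁻¹ * (S0⁻¹ * (E ^ j)⁻¹) := by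
              rw [← (hC1 _).eq]; group
          _ = _ := by rw [← (hC2 E).eq]; group
      have e4 : E⁻¹ * (E ^ j * S0) * E * (E ^ j * S0)⁻¹ = E ^ j * (E⁻¹ * ⁅E, S0⁆⁻¹ * E) * (E ^ j)⁻¹ := by
        simp only [commutatorElement_def]; group
      rw [e3, e4, hEw, show E⁻¹ * (q w)⁻¹ * E = (q w)⁻¹ by
          rw [hCw.inv_inv.eq, inv_mul_cancel_right],
        ((hCw.inv_right).zpow_left j).eq, mul_inv_cancel_right] at hψw
      refine nw (mem_of_pow_mem (p := p) (C := lcw G 4) (y := w) ?_ (a := 2) ?_ ?_)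
      · exact S.pow_mem_succ (i := 3) (by omega) (by omega) mw
      · exact fun h => hp2 ((Nat.prime_dvd_prime_iff_eq hp.out Nat.prime_two).1 h)
      · rw [← QuotientGroup.eq_one_iff]
        show q (w ^ 2) = 1
        rw [map_pow, sq]
        nth_rewrite 1 [← hψw]
        exact inv_mul_cancel _
    · -- `7 ≤ n`: `lcw 2` is invariant
      have hD : ∀ d : ↥C, (d : G) ∈ lcw G (n - 4) → ψ d ∈ lcw G (n - 4) := by
        intro d hd
        refine (S.mem_two_iff hp2 h7 hxc (hψC d)).1 fun y' hy' => ?_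
        obtain ⟨y, hy⟩ := hφs ⟨y', hy'⟩
        have hy1 : ψ y = y' := congrArg Subtype.val hy
        have hdy : ⁅(d : G), (y : G)⁆ ∈ lcw G (n - 3) :=
          (S.mem_two_iff hp2 h7 hxc d.2).2 hd y y.2
        rw [← hy1, ← map_commutatorElement, hψ (⁅d, y⁆) hdy]
        exact hσ3 _
      refine S.inf_twoStep_le (by omega) hxc ⟨?_, hψC _⟩
      rw [← S.twoStep_mid hp2 (i := n - 4) (by omega) (by omega)]
      intro v hv
      have hvC : v ∈ C := lcw_two_le_twoStep (by omega) (lcw_le (by omega) hv)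
      -- write `v` as an image
      have hDφ : ∃ d : ↥C, (d : G) ∈ lcw G (n - 4) ∧ ψ d = v := by
        let L := (lcw G (n - 4)).subgroupOf C
        have hLe : L.map φ = L := by
          refine Subgroup.eq_of_le_of_card_ge ?_ ?_
          · rintro _ ⟨d, hd, rfl⟩; exact hD d hd
          · exact (Subgroup.card_map_of_injective (K := L) hφi).ge
        have : (⟨v, hvC⟩ : ↥C) ∈ L.map φ := by rw [hLe]; exact hv
        obtain ⟨d, hd, hd'⟩ := this
        exact ⟨d, hd, congrArg Subtype.val hd'⟩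
      obtain ⟨d, hd, rfl⟩ := hDφ
      have hds : ⁅(d : G), s0⁆ ∈ lcw G (n - 2) := by
        rw [hs0]
        exact lcw_le (by omega) (comm_mem_lcw (i := n - 4) (j := 2) (by omega) (by omega) hd
          (commSeq_mem x c 0))
      rw [← map_commutatorElement, show n - 4 + 2 = n - 2 by omega,
        hψ (⁅d, ⟨s0, hs0C⟩⁆) (hin2 hds)]
      exact (hσ2 _).2 hds
  -- `σ` fixes `z0`
  have hσz0 : σ ⟨z0, hin2 (hin1 mz0)⟩ ∈ lcw G (n - 1) := by
    have h := hpσ ⟨s0, hs0C⟩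
    simp only [← hz0] at h
    rw [← h]
    exact lcw_le (by omega) (comm_mem_lcw (i := n - 3) (j := 2) (by omega) (by omega) mA hmem)
  have hfixZ : ∀ (z : G) (hz : z ∈ lcw G (n - 1)), σ ⟨z, hin2 (hin1 hz)⟩ = z := by
    have h0 : σ ⟨z0, hin2 (hin1 mz0)⟩ = z0 := by
      obtain ⟨k, hk⟩ := hrefl ⟨z0, hin2 (hin1 mz0)⟩
      have hk' : u ^ k = z0⁻¹ * σ ⟨z0, hin2 (hin1 mz0)⟩ := hk
      have hmemZ : u ^ k ∈ lcw G (n - 1) := hk' ▸ mul_mem (inv_mem mz0) hσz0
      have hpk := dvd_of_zpow_mem (p := p) huZ (by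
        have := S.pow_mem_succ (i := n - 2) (by omega) (by omega) hu
        rwa [show n - 2 + 1 = n - 1 by omega] at this) hmemZ
      obtain ⟨l, rfl⟩ := hpk
      rw [← mul_inv_cancel_left z0 (σ ⟨z0, hin2 (hin1 mz0)⟩), ← hk', zpow_mul, zpow_natCast, hup,
        one_zpow, mul_one]
    intro z hz
    obtain ⟨a, ha⟩ := hZgen ▸ hz
    have ha' : z0 ^ a = z := ha
    subst ha'
    have : (⟨z0 ^ a, hin2 (hin1 hz)⟩ : ↥(lcw G (n - 3))) = ⟨z0, hin2 (hin1 mz0)⟩ ^ a :=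
      Subtype.ext (by simp)
    rw [this, map_zpow, h0]
  have h1 : ∀ y, σ y ∈ lcw G (n - 1) ↔ (y : G) ∈ lcw G (n - 1) := fun y => by
    constructor
    · intro h
      rw [← hσσ y, hfixZ _ h]
      exact h
    · intro h
      rw [hfixZ (y : G) h]
      exact h
  obtain ⟨f, hf⟩ := htop h1
  refine S.no_signs hp2 h5 hxc f (η := -1) (ζ := 1) (Or.inr ⟨rfl, rfl⟩)
    (fun a ha => by rw [hf a ha]; exact hU (hrefl ⟨a, ha⟩)) (fun b hb => ?_)
    (fun z hz => by rw [hf z (hin2 (hin1 hz)), hfixZ z hz, zpow_one])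
  obtain ⟨a, ha⟩ := S.exists_pow (i := n - 2) (by omega) (by omega) hu
    (by rwa [show n - 2 + 1 = n - 1 by omega]) hb
  rw [show n - 2 + 1 = n - 1 by omega] at ha
  obtain ⟨v, hv, rfl⟩ : ∃ v ∈ lcw G (n - 1), b = u ^ a * v := ⟨_, ha, by group⟩
  have hsplit : (⟨u ^ a * v, hin2 hb⟩ : ↥(lcw G (n - 3))) =
      ⟨u, hin2 hu⟩ ^ a * ⟨v, hin2 (hin1 hv)⟩ := Subtype.ext (by simp)
  rw [hf _ (hin2 hb), hsplit, map_mul, map_pow, hσu, hfixZ v hv, zpow_neg, zpow_one, inv_inv, inv_pow]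
  have hcv : Commute v (u ^ a)⁻¹ := (S.commute_of_weight (i := n - 1) (j := n - 2) (by omega)
    (by omega) (by omega) hv (pow_mem hu a)).inv_right
  rw [show u ^ a * v * ((u ^ a)⁻¹ * v) = u ^ a * (v * (u ^ a)⁻¹) * v by simp [mul_assoc],
    hcv.eq, mul_inv_cancel_left]
  exact mul_mem hv hv

end Setting

end Cfsg.Agent.H24
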