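import Cfsg.Agent.H24.SmallSelfCentralizing

/-!
In a group of maximal class of order at least `p ^ 5`, an elementary abelian self-centralizing subgroup of order
`p ^ 3` with normalizer of order `p ^ 4`: the normalizer contains `lcw (n - 3)`.
-/

set_option autoImplicit false

namespace Cfsg.Agent.H24

open Subgroup
open scoped commutatorElement

variable {G : Type*} [Group G]

/-- The configuration of `E` and `P = lcw (n - 3)` inside the normalizer of `E`. -/
structure SmallData (p n : ℕ) (E : Subgroup G) (t u : G) : Prop where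
  tP : t ∈ lcw G (n - 3)
  tN : t ∈ normalizer (E : Set G)
  tE : t ∉ E
  uE : u ∈ E
  uP : u ∈ lcw G (n - 2)
  u1 : u ≠ 1
  une : u ∉ lcw G (n - 1) → twoStep G (n - 2) ≠ twoStep G 2
  move : ∀ x ∈ E, ∃ i : ℤ, t * x * t⁻¹ = x * u ^ i
  fix : ∀ g ∈ normalizer (E : Set G), g * u * g⁻¹ = u
  cent : ∀ d ∈ E, d ∈ lcw G (n - 3) → Commute t d
  coords : ∀ y ∈ lcw G (n - 3), ∃ a : ℕ, (t ^ a)⁻¹ * y ∈ E ⊓ lcw G (n - 3)
  le_N : lcw G (n - 3) ≤ normalizer (E : Set G)
  others : ∀ P' ≤ normalizer (E : Set G), Nat.card P' = p ^ 3 → IsMulCommutative P' →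
    P' = lcw G (n - 3) ∨ ∃ g : G, P' = E.map (MulAut.conj g).toMonoidHom

section Setting

variable [Finite G] {p : ℕ} [hp : Fact p.Prime] {n : ℕ} (S : MaxSetting G p n)
include S

theorem MaxSetting.commutative_three (h5 : 5 ≤ n) : IsMulCommutative (lcw G (n - 3)) := by
  refine ⟨⟨fun a b => Subtype.ext ?_⟩⟩
  rcases Nat.lt_or_ge n 6 with h6 | h6
  · have ha2 : (a : G) ∈ lcw G 2 := lcw_le (by omega) a.2
    have hb2 : (b : G) ∈ lcw G 2 := lcw_le (by omega) b.2
    by_cases h3 : (a : G) ∈ lcw G 3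
    · exact (S.commute_of_weight (i := 3) (j := 2) (by omega) (by omega) (by omega) h3 hb2).eq
    obtain ⟨k, hk⟩ := S.exists_pow (i := 2) le_rfl (by omega) ha2 h3 hb2
    have c1 : Commute (a : G) (((a : G) ^ k)⁻¹ * b) :=
      (S.commute_of_weight (i := 3) (j := 2) (by omega) (by omega) (by omega) hk ha2).symm
    have := ((Commute.refl (a : G)).pow_right k).mul_right c1
    rwa [mul_inv_cancel_left] at this
  · exact (S.commute_of_weight (i := n - 3) (j := n - 3) (by omega) (by omega) (by omega) a.2 b.2).eq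

theorem MaxSetting.exists_smallData (hp2 : p ≠ 2) (h5 : 5 ≤ n) {E : Subgroup G}
    (hE : Nat.card E = p ^ 3) (hab : IsMulCommutative E) (hCE : centralizer (E : Set G) ≤ E)
    (hN4 : Nat.card (normalizer (E : Set G)) = p ^ 4) : ∃ t u : G, SmallData p n E t u := by
  classical
  set N := normalizer (E : Set G) with hN
  have hEN : E ≤ N := le_normalizer
  have hcm : ∀ {H : Subgroup G}, IsMulCommutative H → ∀ {a b : G}, a ∈ H → b ∈ H → a * b = b * a :=
    fun hH _ _ ha hb => congrArg Subtype.val (hH.is_comm.comm ⟨_, ha⟩ ⟨_, hb⟩)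
  have hNna : ¬ ∀ a ∈ N, ∀ b ∈ N, a * b = b * a := fun h => by
    have h1 : N ≤ E := fun a ha => hCE (mem_centralizer_iff.2 fun b hb => h b (hEN hb) a ha)
    have := Subgroup.card_le_of_le h1
    rw [hN4, hE] at this
    exact (Nat.pow_lt_pow_right hp.out.one_lt (by omega : 3 < 4)).not_ge this
  have hcE : center G ≤ E := (center_le_centralizer _).trans hCE
  have hZE : lcw G (n - 1) ≤ E := fun z hz => hcE (mem_center_iff.2 fun g =>
    (S.commute_of_weight (i := n - 1) (j := 1) (by omega) le_rfl (by omega) hz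
      (lcw_one (G := G) ▸ mem_top g)).eq.symm)
  -- two self-centralizing subgroups of the normalizer meet centrally
  have hmeet : ∀ {A : Subgroup G}, A ≤ N → Nat.card A = p ^ 3 → IsMulCommutative A → A ≠ E →
      Nat.card (E ⊓ A : Subgroup G) = p ^ 2 ∧ ∀ d ∈ E ⊓ A, ∀ g ∈ N, g * d = d * g := by
    intro A hAN hA hAc hne
    refine ⟨card_inf_of_four S.isP hEN hAN hE hA hN4 (Ne.symm hne), fun d hd g hg => ?_⟩
    have h1 : E ⊔ A ≤ centralizer ({d} : Set G) :=
      sup_le (fun x hx => mem_centralizer_singleton_iff.2 (hcm hab hx hd.1))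
        (fun x hx => mem_centralizer_singleton_iff.2 (hcm hAc hx hd.2))
    have h2 : E ⊔ A = N := eq_of_between_prime (p := p) le_sup_left
      (fun e => hne (Subgroup.eq_of_le_of_card_ge (le_sup_right.trans e.ge) (by rw [hA, hE])))
      (sup_le hEN hAN) (by rw [hN4, hE]; ring)
    exact mem_centralizer_singleton_iff.1 (h1 (h2.ge hg))
  -- `M` normalizes `N` without normalizing `E`
  set M := normalizer (N : Set G)
  obtain ⟨m, hmM, hmN⟩ : ∃ m ∈ M, m ∉ N := by
    have hlt : N < ⊤ := lt_top_iff_ne_top.2 fun e => by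
      have := hN4
      rw [e, Subgroup.card_top, S.card] at this
      exact absurd (Nat.pow_right_injective hp.out.two_le this) (by omega)
    have := S.isP.isNilpotent
    obtain ⟨m, hm, hm'⟩ := SetLike.exists_of_lt (Group.normalizerCondition_of_isNilpotent N hlt)
    exact ⟨m, hm, hm'⟩
  have hconjN : ∀ {g : G}, g ∈ M → ∀ {x : G}, x ∈ N → g * x * g⁻¹ ∈ N :=
    fun hg x hx => (mem_normalizer_iff.1 hg x).1 hx
  set E' := E.map (MulAut.conj m).toMonoidHom with hE'
  have hE'N : E' ≤ N := by rintro _ ⟨x, hx, rfl⟩; exact hconjN hmM (hEN hx)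
  have hE'c : Nat.card E' = p ^ 3 := by
    rw [hE', Subgroup.card_map_of_injective (MulAut.conj m).injective, hE]
  have hE'ne : E' ≠ E := fun e => hmN (mem_normalizer_iff.2 fun x => by
    constructor
    · intro hx
      exact e.le ⟨x, hx, rfl⟩
    · intro hx
      obtain ⟨y, hy, hyx⟩ := e.ge hx
      rwa [← (MulAut.conj m).injective hyx])
  have hE'ab : IsMulCommutative E' := by
    refine ⟨⟨fun a b => Subtype.ext ?_⟩⟩
    obtain ⟨x, hx, hxa⟩ := a.2
    obtain ⟨y, hy, hyb⟩ := b.2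
    show (a : G) * b = b * a
    rw [← hxa, ← hyb, ← map_mul, ← map_mul, hcm hab hx hy]
  obtain ⟨hDc, hDz⟩ := hmeet hE'N hE'c hE'ab hE'ne
  -- no element of `N` is uniform
  have hTC : ∀ x ∈ N, x ∈ twoStep G 2 ∨ x ∈ twoStep G (n - 2) := by
    intro x hx
    by_contra hcon
    push Not at hcon
    have hx2 : x ∉ lcw G 2 := fun h => hcon.1 (lcw_two_le_twoStep (by omega) h)
    have hxi : ∀ i, 2 ≤ i → i + 2 ≤ n → x ∉ twoStep G i := fun i hi hin h => by
      rcases S.twoStep_eq_two_or_last hi hin with e | e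
      · exact hcon.1 (e ▸ h)
      · exact hcon.2 (e ▸ h)
    have h1 := S.card_centralizer_le hx2 hxi
    have h2 : E ⊓ E' = centralizer ({x} : Set G) := Subgroup.eq_of_le_of_card_ge
      (fun d hd => mem_centralizer_singleton_iff.2 (hDz d hd x hx).symm) (by rw [hDc]; exact h1)
    have hxD : x ∈ E ⊓ E' := h2.ge (mem_centralizer_singleton_iff.2 rfl)
    have h3 : N ≤ E ⊓ E' := fun g hg => h2.ge (mem_centralizer_singleton_iff.2 (hDz x hxD g hg))
    have := Subgroup.card_le_of_le h3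
    rw [hN4, hDc] at this
    exact (Nat.pow_lt_pow_right hp.out.one_lt (by omega : 2 < 4)).not_ge this
  have hNTC : N ≤ twoStep G 2 ∨ N ≤ twoStep G (n - 2) := by
    by_contra hcon
    push Not at hcon
    obtain ⟨⟨a, ha, haT⟩, ⟨b, hb, hbC⟩⟩ :=
      And.intro (SetLike.not_le_iff_exists.1 hcon.1) (SetLike.not_le_iff_exists.1 hcon.2)
    have haC := (hTC a ha).resolve_left haT
    have hbT := (hTC b hb).resolve_right hbC
    rcases hTC _ (mul_mem ha hb) with h | h
    · exact haT (by simpa using mul_mem h (inv_mem hbT))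
    · exact hbC (by simpa using mul_mem (inv_mem haC) h)
  have hmid : twoStep G (n - 3) = twoStep G 2 := S.twoStep_mid hp2 (by omega) (by omega)
  set P := lcw G (n - 3) with hP
  have hPn : ∀ {H : Subgroup G}, H ≤ normalizer (P : Set G) := fun {H} => le_trans le_top
    (by rw [Subgroup.normalizer_eq_top])
  have hPc : Nat.card P = p ^ 3 := by
    rw [hP, S.card_lcw (by omega) (by omega), show n - (n - 3) = 3 by omega]
  have hPab := S.commutative_three h5
  have hPN : P ≤ N := by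
    intro g hg
    have key : ∀ g ∈ P, ∀ x ∈ E, ⁅g, x⁆ ∈ E := by
      intro g hg x hx
      rcases hNTC with h | h
      · refine hZE ?_
        have hxT : x ∈ twoStep G (n - 3) := hmid.symm ▸ h (hEN hx)
        have := hxT g hg
        rwa [show n - 3 + 2 = n - 1 by omega] at this
      · refine hCE (mem_centralizer_iff.2 fun y hy => ?_)
        have hgx := comm_mem_lcw (i := n - 3) (j := 1) (by omega) le_rfl hg
          (lcw_one (G := G) ▸ mem_top x)
        rw [show n - 3 + 1 = n - 2 by omega] at hgx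
        exact (S.commute_last (h (hEN hy)) hgx).eq.symm
    refine mem_normalizer_iff.2 fun x => ⟨fun hx => ?_, fun hx => ?_⟩
    · rw [show g * x * g⁻¹ = ⁅g, x⁆ * x by simp [commutatorElement_def, mul_assoc]]
      exact mul_mem (key g hg x hx) hx
    · have := mul_mem (key g⁻¹ (inv_mem hg) _ hx) hx
      simpa [commutatorElement_def, mul_assoc] using this
  have hPE : P ≠ E := fun e => by
    have h : N = ⊤ := by rw [hN, ← e, Subgroup.normalizer_eq_top]
    exact hmN (h ▸ mem_top m)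
  obtain ⟨hDPc, hDPz⟩ := hmeet hPN hPc hPab hPE
  have hrelP : (E ⊓ P).relIndex P = p := by
    have h := card_mul_relIndex (inf_le_right : E ⊓ P ≤ P)
    rw [hDPc, hPc, show p ^ 3 = p ^ 2 * p by ring] at h
    exact Nat.eq_of_mul_eq_mul_left (pow_pos hp.out.pos 2) h
  have hrelN : P.relIndex N = p := by
    have h := card_mul_relIndex hPN
    rw [hN4, hPc, show p ^ 4 = p ^ 3 * p by ring] at h
    exact Nat.eq_of_mul_eq_mul_left (pow_pos hp.out.pos 3) h
  obtain ⟨t, htP, htE⟩ := SetLike.not_le_iff_exists.1 fun h : P ≤ E =>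
    hPE (Subgroup.eq_of_le_of_card_ge h (by rw [hPc, hE]))
  obtain ⟨e, heE, heP⟩ := SetLike.not_le_iff_exists.1 fun h : E ≤ P =>
    hPE (Subgroup.eq_of_le_of_card_ge h (by rw [hPc, hE])).symm
  have hcoordE : ∀ x ∈ E, ∃ a : ℕ, (e ^ a)⁻¹ * x ∈ E ⊓ P := fun x hx => by
    obtain ⟨a, ha⟩ := exists_pow_of_relIndex hPN (hPn) hrelN (hEN heE) heP (hEN hx)
    exact ⟨a, Subgroup.mem_inf.2 ⟨mul_mem (inv_mem (pow_mem heE a)) hx, ha⟩⟩
  obtain ⟨u, hu⟩ : ∃ u, u = e⁻¹ * (t * e * t⁻¹) := ⟨_, rfl⟩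
  have hte : t * e * t⁻¹ = e * u := by rw [hu, mul_inv_cancel_left]
  have huE : u ∈ E := hu ▸ mul_mem (inv_mem heE) ((mem_normalizer_iff.1 (hPN htP) e).1 heE)
  have hucomm : u = ⁅e⁻¹, t⁆ := by rw [hu]; simp [commutatorElement_def, mul_assoc]
  have hu2 : u ∈ lcw G (n - 2) := by
    rw [hucomm]
    have := comm_mem_lcw (i := 1) (j := n - 3) le_rfl (by omega) (lcw_one (G := G) ▸ mem_top e⁻¹) htP
    rwa [show 1 + (n - 3) = n - 2 by omega] at this
  have huD : u ∈ E ⊓ P := ⟨huE, lcw_le (by omega) hu2⟩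
  refine ⟨t, u, htP, hPN htP, htE, huE, hu2, fun h1 => ?_, fun hne heq => ?_, fun x hx => ?_,
    fun g hg => ?_, fun d hd hdP => hcm hPab htP hdP, fun y hy => ?_, hPN, fun P' hP'N hP'c hP'ab => ?_⟩
  · -- `t` would centralize `E`
    refine htE (hCE (mem_centralizer_iff.2 fun x hx => ?_))
    obtain ⟨a, ha⟩ := hcoordE x hx
    have c0 : Commute t e := by
      rw [h1, mul_one] at hte
      exact mul_inv_eq_iff_eq_mul.1 hte
    have c2 : Commute t ((e ^ a)⁻¹ * x) := hDPz _ ha t (hPN htP)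
    have := (c0.pow_right a).mul_right c2
    rw [mul_inv_cancel_left] at this
    exact this.eq.symm
  · refine hne ?_
    have hT : N ≤ twoStep G 2 := hNTC.elim id fun h => heq ▸ h
    have h2 : e⁻¹ ∈ twoStep G (n - 3) := hmid.symm ▸ inv_mem (hT (hEN heE))
    have h3 := inv_mem (h2 t htP)
    rwa [commutatorElement_inv, ← hucomm, show n - 3 + 2 = n - 1 by omega] at h3
  · obtain ⟨a, ha⟩ := hcoordE x hx
    refine ⟨a, ?_⟩
    obtain ⟨d, hd, rfl⟩ : ∃ d ∈ E ⊓ P, x = e ^ a * d := ⟨_, ha, (mul_inv_cancel_left _ _).symm⟩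
    rw [show t * (e ^ a * d) * t⁻¹ = (t * e * t⁻¹) ^ a * (t * d * t⁻¹) by
      rw [conj_pow]; simp [mul_assoc], hte, hDPz d hd t (hPN htP), mul_inv_cancel_right,
      (show Commute e u from hcm hab heE huE).mul_pow, zpow_natCast, mul_assoc, mul_assoc,
      hcm hab (pow_mem huE a) hd.1]
  · rw [hDPz u huD g hg, mul_inv_cancel_right]
  · exact exists_pow_of_relIndex inf_le_right
      (fun x hx => mem_normalizer_iff.2 fun d => by
        constructor
        · intro hd
          rw [hDPz d hd x (hPN hx), mul_inv_cancel_right]; exact hd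
        · intro hd
          have := hDPz _ hd x⁻¹ (inv_mem (hPN hx))
          have h2 : x * d * x⁻¹ = d := by
            have h3 : d * x⁻¹ = x * d * x⁻¹ * x⁻¹ := by simpa [mul_assoc] using this
            exact (mul_right_cancel h3).symm
          exact h2 ▸ hd) hrelP htP (fun h => htE h.1) hy
  · by_cases hPP : P' = P
    · exact Or.inl hPP
    right
    have hDP' : E ⊓ P ≤ P' := by
      by_contra hle
      have h1 : P' ⊔ (E ⊓ P) = N := eq_of_between_prime (p := p) le_sup_left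
        (fun h => hle (le_sup_right.trans h.ge)) (sup_le hP'N (inf_le_left.trans hEN))
        (by rw [hN4, hP'c]; ring)
      refine hNna fun a ha b hb => ?_
      have hPc' : ∀ y ∈ P', ∀ c ∈ N, y * c = c * y := fun y hy c hc => by
        have h2 : P' ⊔ (E ⊓ P) ≤ centralizer ({y} : Set G) :=
          sup_le (fun w hw => mem_centralizer_singleton_iff.2 (hcm hP'ab hw hy))
            (fun w hw => mem_centralizer_singleton_iff.2 (hDPz w hw y (hP'N hy)).symm)
        exact (mem_centralizer_singleton_iff.1 (h2 (h1.ge hc))).symm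
      have h2 : P' ⊔ (E ⊓ P) ≤ centralizer ({b} : Set G) :=
        sup_le (fun w hw => mem_centralizer_singleton_iff.2 (hPc' w hw b hb))
          (fun w hw => mem_centralizer_singleton_iff.2 (hDPz w hw b hb).symm)
      exact mem_centralizer_singleton_iff.1 (h2 (h1.ge ha))
    obtain ⟨x, hx, hxP⟩ := SetLike.not_le_iff_exists.1 fun h : P' ≤ P =>
      hPP (Subgroup.eq_of_le_of_card_ge h (by rw [hPc, hP'c]))
    obtain ⟨a, ha⟩ := exists_pow_of_relIndex hPN hPn hrelN (hP'N hx) hxP (hEN heE)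
    -- how `m` moves `e`
    obtain ⟨w, hw⟩ : ∃ w, w = e⁻¹ * (m * e * m⁻¹) := ⟨_, rfl⟩
    have hme : m * e * m⁻¹ = e * w := by rw [hw, mul_inv_cancel_left]
    have hwP : w ∈ P := by
      have h1 := comm_mem_of_relIndex_prime S.isP hPN le_normalizer hPn le_rfl hrelN hmM (hEN heE)
      have h2 := (lcw_normal (G := G) (n - 3)).conj_mem _ h1 e⁻¹
      rwa [show e⁻¹ * ⁅m, e⁆ * e⁻¹⁻¹ = w by rw [hw]; simp [commutatorElement_def, mul_assoc]] at h2
    have hDM : ∀ g ∈ M, ∀ d ∈ E ⊓ P, g * d * g⁻¹ ∈ E ⊓ P := by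
      intro g hg d hd
      have hz : ∀ c ∈ N, c * (g * d * g⁻¹) = g * d * g⁻¹ * c := fun c hc => by
        have h := congrArg (fun y => g * y * g⁻¹)
          (hDPz d hd (g⁻¹ * c * g) (by simpa using hconjN (inv_mem hg) hc))
        simpa [mul_assoc] using h
      exact ⟨hCE (mem_centralizer_iff.2 fun c hc => hz c (hEN hc)), (lcw_normal _).conj_mem _ hd.2 g⟩
    have hwD : w ∉ E ⊓ P := by
      intro hwD
      refine hE'ne (Subgroup.eq_of_le_of_card_ge ?_ (by rw [hE'c, hE]))
      rintro _ ⟨y, hy, rfl⟩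
      obtain ⟨b, hb⟩ := hcoordE y hy
      show m * y * m⁻¹ ∈ E
      rw [show m * y * m⁻¹ = (m * e * m⁻¹) ^ b * (m * ((e ^ b)⁻¹ * y) * m⁻¹) by
        rw [conj_pow]; simp [mul_assoc], hme]
      exact mul_mem (pow_mem (mul_mem heE hwD.1) b) (hDM m hmM _ hb).1
    have hDn : P ≤ normalizer ((E ⊓ P : Subgroup G) : Set G) := fun x hx =>
      mem_normalizer_iff.2 fun d => ⟨fun hd => hDM x (le_normalizer (hPN hx)) d hd,
        fun hd => by simpa [mul_assoc] using hDM x⁻¹ (le_normalizer (inv_mem (hPN hx))) _ hd⟩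
    have hMn : M ≤ normalizer ((E ⊓ P : Subgroup G) : Set G) := fun x hx =>
      mem_normalizer_iff.2 fun d => ⟨fun hd => hDM x hx d hd,
        fun hd => by simpa [mul_assoc] using hDM x⁻¹ (inv_mem hx) _ hd⟩
    obtain ⟨k, hk⟩ := exists_pow_of_relIndex inf_le_right hDn hrelP hwP hwD
      (g := e⁻¹ * x ^ a) (by
        have := inv_mem ha
        rwa [_root_.mul_inv_rev, inv_inv] at this)
    -- iterate the conjugation
    have hit : ∀ k : ℕ, ∃ d ∈ E ⊓ P, m ^ k * e * (m ^ k)⁻¹ = e * w ^ k * d := by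
      intro k
      induction k with
      | zero => exact ⟨1, one_mem _, by simp⟩
      | succ k ih =>
        obtain ⟨d, hd, h⟩ := ih
        obtain ⟨c, hc, hmw⟩ : ∃ c ∈ E ⊓ P, m * w * m⁻¹ = c * w := ⟨⁅m, w⁆,
          comm_mem_of_relIndex_prime S.isP inf_le_right (hPN.trans le_normalizer) hMn hPn hrelP hmM hwP,
          by simp [commutatorElement_def, mul_assoc]⟩
        refine ⟨c ^ k * (m * d * m⁻¹), mul_mem (pow_mem hc k) (hDM m hmM d hd), ?_⟩
        rw [pow_succ' m, show m * m ^ k * e * (m * m ^ k)⁻¹ = m * (m ^ k * e * (m ^ k)⁻¹) * m⁻¹ by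
          simp [mul_assoc], h, show m * (e * w ^ k * d) * m⁻¹ =
            (m * e * m⁻¹) * (m * w * m⁻¹) ^ k * (m * d * m⁻¹) by rw [conj_pow]; simp [mul_assoc],
          hme, hmw, (show Commute c w from hcm hPab hc.2 hwP).mul_pow,
          hcm hPab (pow_mem hc.2 k) (pow_mem hwP k), pow_succ' w]
        simp [mul_assoc]
    obtain ⟨d, hd, hkd⟩ := hit k
    refine ⟨m ^ k, ?_⟩
    symm
    refine Subgroup.eq_of_le_of_card_ge ?_ (by
      rw [Subgroup.card_map_of_injective (MulAut.conj _).injective, hE, hP'c])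
    have he' : m ^ k * e * (m ^ k)⁻¹ ∈ P' := by
      rw [hkd]
      refine mul_mem ?_ (hDP' hd)
      have := inv_mem hk
      have h2 := mul_mem (pow_mem hx a) (hDP' this)
      rw [show x ^ a * ((w ^ k)⁻¹ * (e⁻¹ * x ^ a))⁻¹ = e * w ^ k by simp [mul_assoc]] at h2
      exact h2
    rintro _ ⟨y, hy, rfl⟩
    obtain ⟨b, hb⟩ := hcoordE y hy
    show m ^ k * y * (m ^ k)⁻¹ ∈ P'
    rw [show m ^ k * y * (m ^ k)⁻¹ = (m ^ k * e * (m ^ k)⁻¹) ^ b *
      (m ^ k * ((e ^ b)⁻¹ * y) * (m ^ k)⁻¹) by rw [conj_pow]; simp [mul_assoc]]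
    exact mul_mem (pow_mem he' b) (hDP' (hDM _ (pow_mem hmM k) _ hb))

end Setting

end Cfsg.Agent.H24
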