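import Cfsg.Agent.H24.MaxClassLie
import Cfsg.Prelude.Def_CaseTheorems

/-!
`p`-groups of maximal class of order at most `p ^ (2 * p + 2)`: uniform elements, exponent of the
abelian terms of the lower central series, and the bound of the order by the sectional rank.
-/

set_option linter.unusedSectionVars false

namespace Cfsg.Agent.H24

open Subgroup
open scoped commutatorElement

variable {G : Type*} [Group G] [Finite G] {p : ℕ} [hp : Fact p.Prime] {n : ℕ}

theorem MaxSetting.exists_uniform (S : MaxSetting G p n) (hp2 : p ≠ 2) (hn : n ≤ 2 * p + 2) :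
    ∃ x : G, x ∉ lcw G 2 ∧ ∀ i, 2 ≤ i → i + 2 ≤ n → x ∉ twoStep G i := by
  classical
  rcases Nat.lt_or_ge n 4 with h4 | h4
  · obtain ⟨x, -, hx⟩ := SetLike.not_le_iff_exists.mp (S.lcw_not_le (i := 1) le_rfl (by have := S.three; omega))
    exact ⟨x, hx, fun i h1 h2 => absurd h2 (by omega)⟩
  obtain ⟨x, hx⟩ := exists_not_mem_of_index (p := p)
    ({twoStep G 2, twoStep G (n - 2)} : Finset (Subgroup G))
    (le_trans Finset.card_le_two hp.out.two_le)
    (by
      intro C hC
      simp only [Finset.mem_insert, Finset.mem_singleton] at hC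
      rcases hC with rfl | rfl
      · exact S.index_twoStep le_rfl (by omega)
      · exact S.index_twoStep (by omega) (by omega))
  refine ⟨x, fun h => hx _ (by simp) (lcw_two_le_twoStep (i := 2) (by omega) h), fun i h1 h2 => ?_⟩
  rcases eq_or_ne i (n - 2) with rfl | hne
  · exact hx _ (by simp)
  · rw [S.twoStep_eq hp2 i h1 (by omega) (by omega)]
    exact hx _ (by simp)

/-- Commutators with an element outside `G'` generate modulo `lcw 3`. -/
theorem MaxSetting.exists_comm_not_mem (S : MaxSetting G p n) {x : G} (hx : x ∉ lcw G 2) :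
    ∃ e : G, ⁅e, x⁆ ∉ lcw G 3 := by
  by_contra hcon
  push Not at hcon
  have hP : p.Prime := hp.out
  have h3 := S.three
  set K := lcw G 2 ⊔ zpowers x with hK
  have hKne : K ≠ ⊤ := by
    intro h
    have h1 : (lcw G 2).index ≤ p := by
      rw [← relIndex_top_right, ← h, hK, sup_comm, relIndex_sup_right]
      exact relIndex_zpowers_le (S.pow_mem_two x)
    have h2 := card_mul_index (lcw G 2)
    rw [S.card_two, S.card] at h2
    have h4 : p ^ n ≤ p ^ (n - 2) * p := h2 ▸ Nat.mul_le_mul_left _ h1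
    rw [← pow_succ, Nat.pow_le_pow_iff_right hP.one_lt] at h4
    omega
  obtain ⟨y, hy⟩ : ∃ y, y ∉ K := by
    by_contra hc
    push Not at hc
    exact hKne (eq_top_iff.mpr fun g _ => hc g)
  have htop : K ⊔ zpowers y = ⊤ := by
    apply Subgroup.eq_top_of_le_card
    have h5 := le_relIndex_of_lt S.isP (H := K) (K := K ⊔ zpowers y)
      fun h => hy (h (mem_sup_right (mem_zpowers y)))
    have hKge : p ^ (n - 1) ≤ Nat.card K := by
      have h6 := le_relIndex_of_lt S.isP (H := lcw G 2) (K := K)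
        fun h => hx (h (mem_sup_right (mem_zpowers x)))
      rw [← card_mul_relIndex (le_sup_left : lcw G 2 ≤ K), S.card_two,
        show n - 1 = n - 2 + 1 by omega, pow_succ]
      exact Nat.mul_le_mul_left _ h6
    rw [S.card, ← card_mul_relIndex (le_sup_left : K ≤ K ⊔ zpowers y),
      show n = n - 1 + 1 by omega, pow_succ]
    exact Nat.mul_le_mul hKge h5
  have hy1 : y ∈ twoStep G 1 := by
    intro u _
    have h1 : K ⊔ zpowers y ≤ centralizerMod y := by
      refine sup_le (sup_le (fun v hv => ?_) (zpowers_le.mpr ?_)) (zpowers_le.mpr ?_)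
      · exact comm_mem_lcw (G := G) (by omega) le_rfl hv (lcw_one (G := G) ▸ mem_top y)
      · show ⁅x, y⁆ ∈ lcw G 3
        rw [← commutatorElement_inv]
        exact inv_mem (hcon y)
      · show ⁅y, y⁆ ∈ lcw G 3
        simp
    exact (htop ▸ h1) (mem_top u)
  refine S.twoStep_ne_top (i := 1) le_rfl (by omega) (eq_top_iff.mpr ?_)
  rw [← htop]
  exact sup_le (sup_le (lcw_two_le_twoStep le_rfl) (zpowers_le.mpr fun u _ => hcon u))
    (zpowers_le.mpr hy1)

theorem MaxSetting.comm_self_le (S : MaxSetting G p n) {i : ℕ} (hi2 : 2 ≤ i) {u v : G}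
    (hu : u ∈ lcw G i) (hv : v ∈ lcw G i) : ⁅u, v⁆ ∈ lcw G (2 * i + 1) := by
  rcases Nat.lt_or_ge i n with hlt | hge
  swap
  · have : u = 1 := mem_bot.mp (S.lcw_top_eq ▸ lcw_le hge hu)
    simp [this]
  obtain ⟨e, he, he'⟩ := SetLike.not_le_iff_exists.mp (S.lcw_not_le (i := i) (by omega) hlt)
  obtain ⟨a, ha⟩ := S.exists_pow hi2 hlt he he' hu
  obtain ⟨b, hb⟩ := S.exists_pow hi2 hlt he he' hv
  rw [show ⁅u, v⁆ = e ^ a * ⁅(e ^ a)⁻¹ * u, v⁆ * (e ^ a)⁻¹ *
      (e ^ b * ⁅e ^ a, (e ^ b)⁻¹ * v⁆ * (e ^ b)⁻¹) by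
    have hc : ⁅e ^ a, e ^ b⁆ = 1 :=
      commutatorElement_eq_one_iff_mul_comm.mpr ((Commute.refl e).pow_pow a b).eq
    have : ⁅e ^ a, v⁆ = e ^ b * ⁅e ^ a, (e ^ b)⁻¹ * v⁆ * (e ^ b)⁻¹ := by
      have h' : ⁅e ^ a, v⁆ = ⁅e ^ a, e ^ b⁆ * (e ^ b * ⁅e ^ a, (e ^ b)⁻¹ * v⁆ * (e ^ b)⁻¹) := by
        simp [commutatorElement_def, mul_assoc]
      rwa [hc, one_mul] at h'
    rw [← this]
    simp [commutatorElement_def, mul_assoc]]
  refine mul_mem ((lcw_normal _).conj_mem _ ?_ _) ((lcw_normal _).conj_mem _ ?_ _)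
  · have := comm_mem_lcw (G := G) (by omega) (by omega) ha hv
    rwa [show i + 1 + i = 2 * i + 1 by omega] at this
  · have := comm_mem_lcw (G := G) (by omega) (by omega) (pow_mem he a) hb
    rwa [show i + (i + 1) = 2 * i + 1 by omega] at this

section Uniform

variable (S : MaxSetting G p n) {x : G} (hxi : ∀ i, 2 ≤ i → i + 2 ≤ n → x ∉ twoStep G i)
include S hxi

theorem MaxSetting.mem_last_of_commute {g : G} (hg : g ∈ lcw G 2) (hc : Commute g x) :
    g ∈ lcw G (n - 1) := by
  suffices ∀ i, 2 ≤ i → i ≤ n - 1 → g ∈ lcw G i from this (n - 1) (by have := S.three; omega) le_rfl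
  intro i hi
  induction i, hi using Nat.le_induction with
  | base => exact fun _ => hg
  | succ i hi ih =>
    intro hin
    by_contra hne
    refine hxi i hi (by omega) (S.mem_twoStep_of_gen hi (by omega) (ih (by omega)) hne ?_)
    rw [commutatorElement_eq_one_iff_mul_comm.mpr hc.eq]
    exact one_mem _

theorem MaxSetting.pow_commute (u : G) : Commute (x ^ p) u := by
  have h := S.mem_last_of_commute hxi (S.pow_mem_two x) (Commute.pow_self x p)
  have h2 := comm_mem_lcw (G := G) (by have := S.three; omega) le_rfl h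
    (lcw_one (G := G) ▸ mem_top u)
  rw [show n - 1 + 1 = n by have := S.three; omega, S.lcw_top_eq, mem_bot] at h2
  exact commutatorElement_eq_one_iff_commute.mp h2

/-- Commutators with `x` landing in an abelian term of length less than `p` have order `p`. -/
theorem MaxSetting.comm_pow_eq_one {i : ℕ} (hi2 : 2 ≤ i)
    (hab : ∀ u ∈ lcw G i, ∀ v ∈ lcw G i, u * v = v * u) (hlen : n ≤ i + (p - 1)) :
    ∀ w, i - 1 ≤ w → ∀ u ∈ lcw G w, ⁅u, x⁆ ^ p = 1 := by
  intro w
  induction hd : n - w using Nat.strong_induction_on generalizing w with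
  | _ d ih =>
  subst hd
  intro hw u hu
  have hP : p.Prime := hp.out
  rcases Nat.lt_or_ge w n with hlt | hge
  swap
  · have : u = 1 := mem_bot.mp (S.lcw_top_eq ▸ lcw_le hge hu)
    simp [this]
  set A := lcw G i
  letI : CommGroup A :=
    { (inferInstance : Group A) with mul_comm := fun a b => Subtype.ext (hab a a.2 b b.2) }
  let a : ℕ → G := fun j => Nat.rec ⁅u, x⁆ (fun _ r => ⁅x, r⁆) j
  have ha0 : a 0 = ⁅u, x⁆ := rfl
  have hmem : ∀ j, a j ∈ lcw G (w + 1 + j) := by
    intro j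
    induction j with
    | zero => exact comm_mem_lcw (by omega) le_rfl hu (lcw_one (G := G) ▸ mem_top x)
    | succ j ihj =>
      show ⁅x, a j⁆ ∈ _
      rw [← commutatorElement_inv, ← Nat.add_assoc]
      exact inv_mem (comm_mem_lcw (by omega) le_rfl ihj (lcw_one (G := G) ▸ mem_top x))
  have hA : ∀ j, a j ∈ A := fun j => lcw_le (by omega) (hmem j)
  let α : ℕ → A := fun j => ⟨a j, hA j⟩
  let σ : A →* A :=
    { toFun := fun t => ⟨x * t * x⁻¹, (lcw_normal i).conj_mem _ t.2 x⟩
      map_one' := Subtype.ext (by simp)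
      map_mul' := fun s t => Subtype.ext (by simp [mul_assoc]) }
  have hσ : ∀ j, σ (α j) = α (j + 1) * α j := fun j => Subtype.ext (by
    show x * a j * x⁻¹ = ⁅x, a j⁆ * a j
    simp [commutatorElement_def])
  have hform : ∀ m : ℕ, (a 0 * x) ^ m =
      ((∏ j ∈ Finset.range m, α j ^ m.choose (j + 1) : A) : G) * x ^ m := by
    intro m
    induction m with
    | zero => simp
    | succ m ihm =>
      have hstep : (∏ j ∈ Finset.range (m + 1), α j ^ (m + 1).choose (j + 1) : A) =
          α 0 * σ (∏ j ∈ Finset.range m, α j ^ m.choose (j + 1)) := by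
        rw [map_prod]
        simp only [map_pow, hσ, mul_pow, Finset.prod_mul_distrib]
        rw [Finset.prod_range_succ']
        have e1 : (∏ j ∈ Finset.range m, α j ^ m.choose (j + 1)) =
            ∏ j ∈ Finset.range (m + 1), α j ^ m.choose (j + 1) := by
          rw [Finset.prod_range_succ, Nat.choose_succ_self, pow_zero, mul_one]
        rw [e1, Finset.prod_range_succ' (fun j => α j ^ m.choose (j + 1))]
        simp only [Nat.choose_succ_succ' m, pow_add, Finset.prod_mul_distrib, zero_add,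
          Nat.choose_zero_right, pow_one]
        ac_rfl
      rw [pow_succ', ihm, hstep]
      show a 0 * x * _ = (α 0 : G) * (x * _ * x⁻¹) * x ^ (m + 1)
      rw [pow_succ']
      simp [α, mul_assoc]
  have hleft : (a 0 * x) ^ p = x ^ p := by
    rw [ha0, show ⁅u, x⁆ * x = u * x * u⁻¹ by simp [commutatorElement_def], conj_pow,
      (S.pow_commute hxi u).symm.eq, mul_inv_cancel_right]
  rw [hform p] at hleft
  have hprod : ∏ j ∈ Finset.range p, α j ^ p.choose (j + 1) = 1 :=
    Subtype.ext (mul_eq_right.mp hleft)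
  have hsub : ∀ j, α (j + 1) ^ p = 1 := fun j => Subtype.ext (by
    show ⁅x, a j⁆ ^ p = 1
    rw [← commutatorElement_inv, inv_pow,
      ih (n - (w + 1 + j)) (by omega) (w + 1 + j) rfl (by omega) (a j) (hmem j), inv_one])
  obtain ⟨q, hq⟩ : ∃ q, p = q + 1 := ⟨p - 1, by have := hP.pos; omega⟩
  have hrest : ∀ j ∈ Finset.range q, α (j + 1) ^ p.choose (j + 1 + 1) = 1 := by
    intro j hj
    rw [Finset.mem_range] at hj
    rcases eq_or_ne (j + 2) p with he | he
    · have : a (j + 1) ∈ lcw G n := lcw_le (by omega) (hmem (j + 1))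
      rw [S.lcw_top_eq, mem_bot] at this
      rw [show α (j + 1) = 1 from Subtype.ext this, one_pow]
    · obtain ⟨c, hc⟩ : p ∣ p.choose (j + 1 + 1) := hP.dvd_choose_self (by omega) (by omega)
      rw [hc, pow_mul, hsub, one_pow]
  rw [hq, Finset.prod_range_succ', ← hq, Finset.prod_eq_one hrest, one_mul,
    Nat.choose_one_right] at hprod
  exact congrArg Subtype.val hprod

/-- Abelian terms of the lower central series of length less than `p` have exponent `p`. -/
theorem MaxSetting.lcw_exponent (hx : x ∉ lcw G 2) {i : ℕ} (hi2 : 2 ≤ i)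
    (hab : ∀ u ∈ lcw G i, ∀ v ∈ lcw G i, u * v = v * u) (hlen : n ≤ i + (p - 1)) :
    ∀ g ∈ lcw G i, g ^ p = 1 := by
  suffices ∀ d j, n - j = d → i ≤ j → ∀ g ∈ lcw G j, g ^ p = 1 from this _ i rfl le_rfl
  intro d
  induction d with
  | zero =>
    intro j hj hij g hg
    have : g = 1 := mem_bot.mp (S.lcw_top_eq ▸ lcw_le (by omega) hg)
    simp [this]
  | succ d ih =>
    intro j hj hij g hg
    obtain ⟨e, he, he2⟩ : ∃ e ∈ lcw G (j - 1), ⁅e, x⁆ ∉ lcw G (j + 1) := by
      rcases Nat.lt_or_ge j 3 with hlt | hge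
      · obtain rfl : j = 2 := by omega
        obtain ⟨e, he⟩ := S.exists_comm_not_mem hx
        exact ⟨e, mem_top e, he⟩
      obtain ⟨e, he, he'⟩ :=
        SetLike.not_le_iff_exists.mp (S.lcw_not_le (i := j - 1) (by omega) (by omega))
      refine ⟨e, he, fun h => hxi (j - 1) (by omega) (by omega)
        (S.mem_twoStep_of_gen (by omega) (by omega) he he' ?_)⟩
      rwa [show j - 1 + 2 = j + 1 by omega]
    have hej : ⁅e, x⁆ ∈ lcw G j := by
      have := comm_mem_lcw (G := G) (by omega) le_rfl he (lcw_one (G := G) ▸ mem_top x)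
      rwa [show j - 1 + 1 = j by omega] at this
    obtain ⟨c, hc⟩ := S.exists_pow (by omega) (by omega) hej he2 hg
    rw [show g = ⁅e, x⁆ ^ c * ((⁅e, x⁆ ^ c)⁻¹ * g) by group,
      (show Commute (⁅e, x⁆ ^ c) ((⁅e, x⁆ ^ c)⁻¹ * g) from
        hab _ (pow_mem (lcw_le hij hej) c) _ (lcw_le (by omega) hc)).mul_pow,
      ih (j + 1) (by omega) (by omega) _ hc, mul_one, ← pow_mul, mul_comm, pow_mul,
      S.comm_pow_eq_one hxi hi2 hab hlen (j - 1) (by omega) e he, one_pow]

end Uniform

omit hp in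
theorem map_lcw {K : Type*} [Group K] (f : G →* K) (hf : Function.Surjective f) (i : ℕ) :
    (lcw G i).map f = lcw K i := by
  unfold lcw
  rw [Subgroup.map_lowerCentralSeries, map_top_of_surjective f hf]

theorem MaxSetting.quotient (S : MaxSetting G p n) {m : ℕ} (hm3 : 3 ≤ m) (hm : m ≤ n) :
    MaxSetting (G ⧸ lcw G m) p m := by
  refine ⟨S.isP.to_quotient _, ?_, hm3, fun h => S.lcw_not_le (i := m - 1) (by omega) (by omega) ?_⟩
  · have h1 := card_mul_index (lcw G m)
    rw [index_eq_card, S.card_lcw (by omega) hm, S.card] at h1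
    rw [show n = (n - m) + m by omega, pow_add, show n - m + m - m = n - m by omega] at h1
    exact Nat.eq_of_mul_eq_mul_left (pow_pos hp.out.pos _) h1
  · have h2 := map_lcw (QuotientGroup.mk' (lcw G m)) (QuotientGroup.mk'_surjective _) (m - 1)
    rw [h, Subgroup.map_eq_bot_iff, QuotientGroup.ker_mk'] at h2
    rwa [show m - 1 + 1 = m by omega]

/-- A group of maximal class and order `p ^ n` has an elementary abelian section of order
`p ^ (k + 1)` if `2 * k + 1 ≤ n` and `k + 2 ≤ p`. -/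
theorem MaxSetting.not_sectionalPRankLE (S : MaxSetting G p n) {k : ℕ} (hk : 1 ≤ k)
    (hkn : 2 * k + 1 ≤ n) (hkp : k + 2 ≤ p) : ¬ Cfsg.SectionalPRankLE p k G := by
  intro hs
  have hp2 : p ≠ 2 := by omega
  have hP : p.Prime := hp.out
  set m := 2 * k + 1 with hm
  set N := lcw G m
  have T : MaxSetting (G ⧸ N) p m := S.quotient (by omega) hkn
  obtain ⟨A, hAc, hAe, hAcard⟩ : ∃ A : Subgroup (G ⧸ N), IsMulCommutative A ∧
      (∀ a ∈ A, a ^ p = 1) ∧ p ^ (k + 1) ≤ Nat.card A := by
    obtain ⟨x, hx, hxi⟩ := T.exists_uniform hp2 (by omega)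
    rcases Nat.lt_or_ge k 2 with hk2 | hk2
    · obtain rfl : k = 1 := by omega
      -- order `p ^ 3`: an element of order `p` outside the centre
      obtain ⟨e, he⟩ := T.exists_comm_not_mem hx
      have hz : ⁅e, x⁆ ∈ lcw (G ⧸ N) 2 :=
        comm_mem_lcw (i := 1) le_rfl le_rfl (mem_top e) (mem_top x)
      obtain ⟨f, hf, hfp⟩ : ∃ f, f ∉ lcw (G ⧸ N) 2 ∧ f ^ p = 1 :=
        exists_order_p_outside hp2 T
      refine ⟨lcw (G ⧸ N) 2 ⊔ zpowers f, ?_, ?_, ?_⟩
      · refine isMulCommutative_sup_zpowers ⟨⟨fun a b => Subtype.ext ?_⟩⟩ ?_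
        · exact (central2 T a.2 b).symm
        · exact fun a ha => (central2 T ha f).symm
      · intro a ha
        obtain ⟨u, hu, w, ⟨j, rfl⟩, rfl⟩ := mem_sup_of_normal_left.mp ha
        have hup : u ^ p = 1 := by
          have := T.pow_mem_succ (i := 2) le_rfl (by omega) hu
          rwa [show 2 + 1 = m by omega, T.lcw_top_eq, mem_bot] at this
        rw [(show Commute u (f ^ j) from (central2 T hu _).symm).mul_pow, hup, one_mul,
          ← zpow_natCast (f ^ j), ← zpow_mul, mul_comm, zpow_mul, zpow_natCast, hfp, one_zpow]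
      · have h1 := le_relIndex_of_lt T.isP (H := lcw (G ⧸ N) 2) (K := lcw (G ⧸ N) 2 ⊔ zpowers f)
          fun h => hf (h (mem_sup_right (mem_zpowers f)))
        rw [← card_mul_relIndex (le_sup_left : lcw (G ⧸ N) 2 ≤ lcw (G ⧸ N) 2 ⊔ zpowers f),
          T.card_two, pow_succ, show m - 2 = 1 by omega]
        exact Nat.mul_le_mul_left _ h1
    · have hab : ∀ u ∈ lcw (G ⧸ N) k, ∀ v ∈ lcw (G ⧸ N) k, u * v = v * u := by
        intro u hu v hv
        have := T.comm_self_le hk2 hu hv
        rw [← hm, T.lcw_top_eq, mem_bot] at this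
        exact commutatorElement_eq_one_iff_mul_comm.mp this
      exact ⟨lcw (G ⧸ N) k, ⟨⟨fun a b => Subtype.ext (hab a a.2 b b.2)⟩⟩,
        T.lcw_exponent hxi hx hk2 hab (by omega),
        by rw [T.card_lcw hk2 (by omega), show m - k = k + 1 by omega]⟩
  let f : (⊤ : Subgroup G) ⧸ N.subgroupOf ⊤ →* G ⧸ N :=
    QuotientGroup.map _ N (⊤ : Subgroup G).subtype (fun a ha => ha)
  have hf : Function.Injective f := by
    rw [injective_iff_map_eq_one]
    intro a ha
    obtain ⟨b, rfl⟩ := QuotientGroup.mk_surjective a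
    exact (QuotientGroup.eq_one_iff b).mpr ((QuotientGroup.eq_one_iff (b : G)).mp ha)
  have hfs : Function.Surjective f := by
    intro a
    obtain ⟨b, rfl⟩ := QuotientGroup.mk_surjective a
    exact ⟨QuotientGroup.mk (⟨b, mem_top b⟩ : (⊤ : Subgroup G)), rfl⟩
  have h := hs ⊤ (N.subgroupOf ⊤) (A.comap f)
    ⟨⟨fun a b => Subtype.ext (hf (by
      simp only [Subgroup.coe_mul, map_mul]
      exact congrArg Subtype.val (hAc.is_comm.comm ⟨f a, a.2⟩ ⟨f b, b.2⟩)))⟩⟩
    (fun a ha => hf (by rw [map_pow, map_one]; exact hAe _ ha))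
  have hle : Nat.card A ≤ Nat.card (A.comap f) :=
    Nat.card_le_card_of_surjective (fun a : A.comap f => (⟨f a, a.2⟩ : A)) fun a => by
      obtain ⟨b, hb⟩ := hfs a
      exact ⟨⟨b, show f b ∈ A by rw [hb]; exact a.2⟩, Subtype.ext hb⟩
  exact absurd ((hAcard.trans hle).trans h)
    (not_le.mpr (Nat.pow_lt_pow_right hP.one_lt (Nat.lt_succ_self k)))
where
  central2 {T : Type _} [Group T] [Finite T] (S : MaxSetting T p (2 * 1 + 1)) {u : T}
      (hu : u ∈ lcw T 2) (v : T) : v * u = u * v := by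
    have := comm_mem_lcw (G := T) (by omega) le_rfl hu (lcw_one (G := T) ▸ mem_top v)
    rw [show 2 + 1 = 2 * 1 + 1 by omega, S.lcw_top_eq, mem_bot] at this
    exact (commutatorElement_eq_one_iff_mul_comm.mp this).symm
  exists_order_p_outside {T : Type _} [Group T] [Finite T] (hp2 : p ≠ 2)
      (S : MaxSetting T p (2 * 1 + 1)) : ∃ f : T, f ∉ lcw T 2 ∧ f ^ p = 1 := by
    have hP : p.Prime := hp.out
    obtain ⟨x, -, hx⟩ := SetLike.not_le_iff_exists.mp (S.lcw_not_le (i := 1) le_rfl (by omega))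
    obtain ⟨e, he⟩ := S.exists_comm_not_mem hx
    have hc : ∀ u v : T, ⁅u, v⁆ ∈ center T := fun u v => mem_center_iff.mpr fun w =>
      central2 S (comm_mem_lcw (i := 1) le_rfl le_rfl (mem_top u) (mem_top v)) w
    by_cases hxp : x ^ p = 1
    · exact ⟨x, hx, hxp⟩
    have hgen := zpowers_eq_of_card_prime
      (by rw [S.card_two, show 2 * 1 + 1 - 2 = 1 by omega, pow_one]) (S.pow_mem_two x) hxp
    have hep : e ^ p ∈ zpowers (x ^ p) := hgen.symm ▸ S.pow_mem_two e
    rw [← mem_powers_iff_mem_zpowers] at hep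
    obtain ⟨j, hj⟩ := hep
    refine ⟨e * (x ^ j)⁻¹, fun h => he ?_, ?_⟩
    · have h1 : ⁅x ^ j, x⁆ = 1 :=
        commutatorElement_eq_one_iff_mul_comm.mpr (Commute.pow_self x j).eq
      rw [show e = e * (x ^ j)⁻¹ * x ^ j by group,
        show ⁅e * (x ^ j)⁻¹ * x ^ j, x⁆ =
          e * (x ^ j)⁻¹ * ⁅x ^ j, x⁆ * (e * (x ^ j)⁻¹)⁻¹ * ⁅e * (x ^ j)⁻¹, x⁆ by
          simp [commutatorElement_def, mul_assoc], h1, mul_one, mul_inv_cancel, one_mul]
      exact comm_mem_lcw (G := T) (i := 2) (by omega) le_rfl h (mem_top x)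
    · simp only at hj
      have hcp : ⁅(x ^ j)⁻¹, e⁆ ^ p = 1 := by
        have := S.pow_mem_succ (i := 2) le_rfl (by omega)
          (comm_mem_lcw (G := T) (i := 1) le_rfl le_rfl (mem_top (x ^ j)⁻¹) (mem_top e))
        rwa [show 2 + 1 = 2 * 1 + 1 by omega, S.lcw_top_eq, mem_bot] at this
      rw [mul_pow_prime_of_class_two hP hp2 (hc _ _) hcp, ← hj, inv_pow, ← pow_mul, ← pow_mul,
        mul_comm p j, mul_inv_cancel]

end Cfsg.Agent.H24
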