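import Cfsg.Agent.H24.MeetBasic
import Cfsg.Agent.H24.MeetLift

/-!
Restrictions of good automorphisms of the meet are good.
-/

set_option autoImplicit false

namespace Cfsg.Agent.H24.Meet

open Cfsg Cfsg.FusionSystem
open Cfsg.Agent.H93 (Mor)
open Cfsg.Agent.H94.Meet
open Cfsg.Agent.H96 (ModTrivial)

variable {Ω : Type*} [Group Ω] {S T₁ T₂ : Subgroup Ω} {F : FusionSystem S} {E₁ : FusionSystem T₁}
  {E₂ : FusionSystem T₂} {p : ℕ}

/-- Restriction of an automorphism acting in a system. -/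
theorem actsIn_restrict {W U R : Subgroup Ω} {E : FusionSystem W} (hUR : U ≤ R) {a : MulAut R}
    (ha : ActsIn E R a) {b : MulAut U} (he : ∀ x : U, ((b x : U) : Ω) = ((a (Subgroup.inclusion hUR x) : R) : Ω)) :
    ActsIn E U b := by
  obtain ⟨f, hf, hfe⟩ := ha
  refine ⟨f, hf.restrict_eq hUR (fun x hx => ?_) (fun y hy => ?_), fun x => ?_⟩
  · rw [show f x = _ from hfe ⟨x, hUR hx⟩, show (⟨x, hUR hx⟩ : R) = Subgroup.inclusion hUR ⟨x, hx⟩ from rfl, ← he]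
    exact (b _).2
  · refine ⟨(b⁻¹ ⟨y, hy⟩ : U), SetLike.coe_mem _, ?_⟩
    rw [show f ((b⁻¹ ⟨y, hy⟩ : U) : Ω) = _ from hfe (Subgroup.inclusion hUR (b⁻¹ ⟨y, hy⟩)), ← he,
      MulAut.apply_inv_self]
  · rw [show f (x : Ω) = _ from hfe (Subgroup.inclusion hUR x), he]

variable [Finite S] [Fact p.Prime]

/-- A `p`-element of the automizer of the meet is conjugate to one induced by the intersection. -/
theorem conjInner_of_pElement (h : Data p F E₁ E₂) (hsyl : SylowProp p F E₁ E₂) {R : Subgroup Ω}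
    (hR : TCentric F (T₁ ⊓ T₂) R) {b : MulAut R} (hb : b ∈ meetAut p F E₁ E₂ R) {k : ℕ} (hk : b ^ p ^ k = 1) :
    ConjInner F (T₁ ⊓ T₂) R b := by
  have hRS := hR.1.trans h.le
  obtain ⟨R₀, ⟨ψ₀, hψ₀, hr₀⟩, hR₀⟩ := H93.exists_isFullyNormalized F hRS
  obtain ⟨ψ, hψ, -⟩ := H93.exists_mor hψ₀ hr₀
  have hR₀c := hR.of_mor h.closed hψ
  obtain ⟨b₀, hb₀⟩ := exists_conjAut hψ b
  have hb₀m := meetAut_conj h hR.1 hψ hb hb₀
  have := H96.finite_of_le hR₀.1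
  have hb₀k : b₀ ^ p ^ k = 1 := by
    have hit : ∀ (n : ℕ) (x : R), ψ (((b ^ n) x : R) : Ω) = (((b₀ ^ n) ⟨ψ x, hψ.map_mem x.2⟩ : R₀) : Ω) := by
      intro n
      induction n with
      | zero => exact fun x => rfl
      | succ n ih =>
        intro x
        rw [pow_succ', MulAut.mul_apply, hb₀, pow_succ', MulAut.mul_apply]
        exact congrArg (fun w : R₀ => ((b₀ w : R₀) : Ω)) (Subtype.ext (ih x))
    refine MulEquiv.ext fun y => Subtype.ext ?_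
    obtain ⟨x, hx, hxy⟩ := hψ.surj y.2
    rw [show y = ⟨ψ x, hψ.map_mem hx⟩ from Subtype.ext hxy.symm, ← hit _ ⟨x, hx⟩, hk]
    rfl
  set A := meetAut p F E₁ E₂ R₀
  have : Finite (MulAut ↥R₀) := Finite.of_injective (fun e : MulAut ↥R₀ => (e : _ → _)) DFunLike.coe_injective
  have hTp : IsPGroup p ↥(T₁ ⊓ T₂) := h.isPGroup.to_le h.le
  have hP : IsPGroup p ((autInducedBy (T₁ ⊓ T₂) R₀).subgroupOf A) :=
    (H94.isPGroup_autInducedBy hTp).comap_of_injective _ (Subgroup.subtype_injective _)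
  let P : Sylow p A := hP.toSylow (hsyl R₀ hR₀c hR₀)
  have hz : IsPGroup p (Subgroup.zpowers (⟨b₀, hb₀m⟩ : A)) := by
    rintro ⟨_, m, rfl⟩
    refine ⟨k, Subtype.ext ?_⟩
    show ((⟨b₀, hb₀m⟩ : A) ^ m) ^ (p ^ k) = 1
    rw [← zpow_natCast, ← zpow_mul, mul_comm, zpow_mul, zpow_natCast,
      show (⟨b₀, hb₀m⟩ : A) ^ p ^ k = 1 from Subtype.ext hb₀k, one_zpow]
  obtain ⟨Q, hQ⟩ := hz.exists_le_sylow
  obtain ⟨g, hg⟩ := MulAction.exists_smul_eq A Q P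
  have hc : g * ⟨b₀, hb₀m⟩ * g⁻¹ ∈ (autInducedBy (T₁ ⊓ T₂) R₀).subgroupOf A := by
    have h1 : g * ⟨b₀, hb₀m⟩ * g⁻¹ ∈ ((g • Q : Sylow p A) : Subgroup A) :=
      ⟨⟨b₀, hb₀m⟩, hQ (Subgroup.mem_zpowers _), rfl⟩
    rw [hg] at h1
    exact h1
  obtain ⟨t, ht, hte⟩ := H96.mem_autInducedBy.1 (Subgroup.mem_subgroupOf.1 hc)
  obtain ⟨κ, hκ, hκe⟩ := H93.exists_mor_of_aut hR₀.1 (meetAut_le_autGroup h hR₀c g.2)
  refine ⟨R₀, _, t, hκ.comp hψ, ⟨ht, H93.mem_normalizer_of_conj_eq hte⟩, fun x => ?_⟩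
  have h1 := hte ((g : MulAut R₀) ⟨ψ x, hψ.map_mem x.2⟩)
  rw [show ((g * ⟨b₀, hb₀m⟩ * g⁻¹ : A) : MulAut R₀) ((g : MulAut R₀) ⟨ψ x, hψ.map_mem x.2⟩) =
      (g : MulAut R₀) (b₀ ⟨ψ x, hψ.map_mem x.2⟩) by
    simp [MulAut.mul_apply]] at h1
  show κ (ψ ((b x : R) : Ω)) = t * κ (ψ x) * t⁻¹
  rw [hb₀ x]
  exact (hκe _).trans (h1.trans (by rw [show κ (ψ (x : Ω)) = _ from hκe ⟨ψ x, hψ.map_mem x.2⟩]))

/-- Congruence for the restriction to a fully centralized normal subgroup of a fully centralized subgroup. -/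
theorem cong_restrict (h : Data p F E₁ E₂) (hsyl : SylowProp p F E₁ E₂) {U R : Subgroup Ω}
    (hU : TCentric F (T₁ ⊓ T₂) U) (hUR : U ≤ R) (hR : R ≤ T₁ ⊓ T₂) (hRN : R ≤ normalizerIn S U)
    (hRc : F.IsFullyCentralized R) {a : MulAut R} (ha : BGood F E₁ E₂ R a) (hp : (orderOf a).Coprime p)
    {b : MulAut U} (he : ∀ x : U, ((b x : U) : Ω) = ((a (Subgroup.inclusion hUR x) : R) : Ω))
    {g₀ : Ω → Ω} (hg₀ : Mor F (hull S R) (hull S R) g₀) (hg₀a : ∀ x : R, g₀ x = ((a x : R) : Ω))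
    (hg₀c : ∀ y ∈ hull S R, y⁻¹ * g₀ y ∈ T₁ ⊓ T₂) (hg₀₁ : Mor E₁ (hull T₁ R) (hull T₁ R) g₀)
    (hg₀₂ : Mor E₂ (hull T₂ R) (hull T₂ R) g₀) :
    ∃ G : Ω → Ω, Mor F (hull S U) (hull S U) G ∧ (∀ x : U, G x = ((b x : U) : Ω)) ∧
      (∀ y ∈ hull S U, y⁻¹ * G y ∈ T₁ ⊓ T₂) ∧ Mor E₁ (hull T₁ U) (hull T₁ U) G ∧
      Mor E₂ (hull T₂ U) (hull T₂ U) G := by
  have hS := h.isPGroup
  have hF := h.saturated
  have hRS := hR.trans h.le
  have hUS := hUR.trans hRS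
  have hRtc := hU.mono hUR hR
  have hHS := hull_le (S := S) hRS
  have := H96.finite_of_le hHS
  obtain ⟨α₁, hα₁, hα₁e⟩ := hg₀.exists_aut
  have hα₁R : ∀ x : R, α₁ (Subgroup.inclusion (le_hull S R) x) = Subgroup.inclusion (le_hull S R) (a x) :=
    fun x => Subtype.ext ((hα₁e _).trans (hg₀a x))
  have : Finite (MulAut ↥(hull S R)) :=
    Finite.of_injective (fun e : MulAut ↥(hull S R) => (e : _ → _)) DFunLike.coe_injective
  obtain ⟨m₀, hm₀, hα₁m⟩ := exists_coprime_pow (p := p) _ hα₁R hp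
  obtain ⟨α, hαdef⟩ : ∃ α : MulAut ↥(hull S R), α = α₁ ^ m₀ := ⟨_, rfl⟩
  have hαF : α ∈ F.autGroup (hull S R) := hαdef ▸ pow_mem hα₁ _
  have hαR : ∀ x : R, α (Subgroup.inclusion (le_hull S R) x) = Subgroup.inclusion (le_hull S R) (a x) :=
    fun x => hαdef ▸ hα₁m x
  have hαT : ∀ y : hull S R, (y : Ω)⁻¹ * ((α y : hull S R) : Ω) ∈ T₁ ⊓ T₂ := fun y => hαdef ▸
    cong_pow (fun y => by rw [hα₁e]; exact hg₀c y y.2) m₀ y
  have hαm : ModTrivial R α := fun y =>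
    hRtc.mem_of_hull h.le ((hull S R).mul_mem ((hull S R).inv_mem y.2) (α y).2) (hαT y)
  have hαU : ∀ (u : Ω) (hu : u ∈ U), ((α ⟨u, le_hull S R (hUR hu)⟩ : hull S R) : Ω) = (b ⟨u, hu⟩ : U) :=
    fun u hu => (congrArg Subtype.val (hαR ⟨u, hUR hu⟩)).trans (he ⟨u, hu⟩).symm
  -- the centralizer of `U` normalizes `R`
  have hcR : ∀ c ∈ centralizerIn S U, c ∈ normalizerIn S R := by
    intro c hc
    have := H96.finite_of_le hRS
    refine ⟨hc.1, H94.mem_normalizer_of_forall_conj_mem fun r hr => ?_⟩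
    have hrT := hR hr
    have h1 : c * r * c⁻¹ * r⁻¹ ∈ T₁ ⊓ T₂ :=
      Subgroup.mul_mem _ ((Subgroup.mem_normalizer_iff.1 (H93.StronglyClosed.le_normalizer h.closed hc.1) r).1 hrT)
        (Subgroup.inv_mem _ hrT)
    have h2 : c * r * c⁻¹ * r⁻¹ ∈ centralizerIn (T₁ ⊓ T₂) U := by
      refine H93.mem_centralizerIn.2 ⟨h1, fun u hu => ?_⟩
      have hu' : r⁻¹ * u * r ∈ U := by
        simpa using H93.mem_normalizerIn_conj (Subgroup.inv_mem _ (hRN hr)) hu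
      calc c * r * c⁻¹ * r⁻¹ * u * (c * r * c⁻¹ * r⁻¹)⁻¹
          = c * (r * (c⁻¹ * (r⁻¹ * u * r) * c) * r⁻¹) * c⁻¹ := by group
        _ = c * (r * (r⁻¹ * u * r) * r⁻¹) * c⁻¹ := by
            have := (H93.mem_centralizerIn.1 ((centralizerIn S U).inv_mem hc)).2 _ hu'
            rw [inv_inv] at this
            rw [this]
        _ = c * u * c⁻¹ := by group
        _ = u := (H93.mem_centralizerIn.1 hc).2 u hu
    have h3 := R.mul_mem (hUR (hU.2 U (H93.isConj_refl F hUS) h2)) hr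
    simpa [mul_assoc] using h3
  -- the twisted conjugations are conjugations
  have htw : ∀ (c : Ω) (hc : c ∈ centralizerIn S U), ∃ k ∈ hull S R, ∀ (y : Ω) (hy : y ∈ hull S R),
      ((α ⟨c * y * c⁻¹, conj_mem_hull (hcR c hc) hy⟩ : hull S R) : Ω) =
        k * c * ((α ⟨y, hy⟩ : hull S R) : Ω) * (k * c)⁻¹ := by
    intro c hc
    obtain ⟨γ, hγ, hγe, hγi⟩ := exists_conj_aut F hHS (mem_normalizerIn_hull hRS (hcR c hc))
    obtain ⟨δ, hδdef⟩ : ∃ δ, δ = α * γ * α⁻¹ * γ⁻¹ := ⟨_, rfl⟩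
    have hδF : δ ∈ F.autGroup (hull S R) := hδdef ▸ mul_mem (mul_mem (mul_mem hαF hγ) (inv_mem hαF)) (inv_mem hγ)
    have hδm : ModTrivial R δ := by
      have h1 : ModTrivial R (γ * α⁻¹ * γ⁻¹) := fun y => by
        have h2 := H93.mem_normalizerIn_conj (hcR c hc) (H96.modTrivial_inv hαm (γ⁻¹ y))
        have h3 : c * (((γ⁻¹ y : hull S R) : Ω)⁻¹ * ((α⁻¹ (γ⁻¹ y) : hull S R) : Ω)) * c⁻¹ =
            (y : Ω)⁻¹ * (((γ * α⁻¹ * γ⁻¹) y : hull S R) : Ω) := by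
          rw [MulAut.mul_apply, MulAut.mul_apply, hγe, hγi]
          group
        rwa [h3] at h2
      have := H96.modTrivial_mul hαm h1
      rwa [← mul_assoc, ← mul_assoc, ← hδdef] at this
    -- its restriction to `R`
    obtain ⟨a', ha'⟩ := exists_conjAut (H93.mor_conj F hRS (hcR c hc)) a⁻¹
    have ham : a ∈ meetAut p F E₁ E₂ R := Subgroup.subset_closure (Or.inl ⟨ha, hp⟩)
    have hdm : a * a' ∈ meetAut p F E₁ E₂ R :=
      mul_mem ham (meetAut_conj h hR (H93.mor_conj F hRS (hcR c hc)) (inv_mem ham) ha')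
    have hdv : ∀ x : R, (((a * a') x : R) : Ω) = ((δ (Subgroup.inclusion (le_hull S R) x) : hull S R) : Ω) := by
      intro x
      have hx' : c⁻¹ * (x : Ω) * c ∈ R := by
        simpa using H93.mem_normalizerIn_conj (Subgroup.inv_mem _ (hcR c hc)) x.2
      have h1 : γ⁻¹ (Subgroup.inclusion (le_hull S R) x) = Subgroup.inclusion (le_hull S R) ⟨_, hx'⟩ :=
        Subtype.ext (hγi _)
      have h2 : α⁻¹ (Subgroup.inclusion (le_hull S R) ⟨_, hx'⟩) =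
          Subgroup.inclusion (le_hull S R) (a⁻¹ ⟨_, hx'⟩) := α.injective (by
        rw [MulAut.apply_inv_self, hαR, MulAut.apply_inv_self])
      have h3 := ha' ⟨_, hx'⟩
      rw [show (⟨c * (c⁻¹ * (x : Ω) * c) * c⁻¹, H93.mem_normalizerIn_conj (hcR c hc) hx'⟩ : R) = x from
        Subtype.ext (by group)] at h3
      have h4 : γ (Subgroup.inclusion (le_hull S R) (a⁻¹ ⟨_, hx'⟩)) = Subgroup.inclusion (le_hull S R) (a' x) :=
        Subtype.ext ((hγe _).trans h3)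
      simp only [hδdef, MulAut.mul_apply, h1, h2, h4, hαR]
      rfl
    obtain ⟨d, hd⟩ : ∃ d, d = a * a' := ⟨_, rfl⟩
    rw [← hd] at hdm hdv
    have hdU : ∀ x : R, (x : Ω) ∈ U → d x = x := by
      intro x hx
      refine Subtype.ext ((hdv x).trans ?_)
      have hu' : ((b⁻¹ ⟨x, hx⟩ : U) : Ω) ∈ U := SetLike.coe_mem _
      have h1 : γ⁻¹ (Subgroup.inclusion (le_hull S R) x) = Subgroup.inclusion (le_hull S R) x := Subtype.ext (by
        rw [hγi]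
        have := (H93.mem_centralizerIn.1 ((centralizerIn S U).inv_mem hc)).2 _ hx
        rwa [inv_inv] at this)
      have h2 : α⁻¹ (Subgroup.inclusion (le_hull S R) x) = ⟨_, le_hull S R (hUR hu')⟩ := α.injective (by
        rw [MulAut.apply_inv_self]
        refine Subtype.ext ?_
        rw [hαU _ hu']
        show _ = (((b (b⁻¹ ⟨x, hx⟩)) : U) : Ω)
        rw [MulAut.apply_inv_self]
        rfl)
      have h3 : γ ⟨_, le_hull S R (hUR hu')⟩ = (⟨_, le_hull S R (hUR hu')⟩ : hull S R) :=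
        Subtype.ext ((hγe _).trans ((H93.mem_centralizerIn.1 hc).2 _ hu'))
      rw [hδdef, MulAut.mul_apply, MulAut.mul_apply, MulAut.mul_apply, h1, h2, h3, ← h2, MulAut.apply_inv_self]
      rfl
    have hdstab : ∀ x : R, ((x⁻¹ * d x : R) : Ω) ∈ U := by
      intro x
      refine hU.2 U (H93.isConj_refl F hUS) (H93.mem_centralizerIn.2 ⟨hR (x⁻¹ * d x).2, fun u hu => ?_⟩)
      have h1 : (x : Ω) * u * (x : Ω)⁻¹ ∈ U := H93.mem_normalizerIn_conj (hRN x.2) hu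
      have h2 := hdU (x * ⟨u, hUR hu⟩ * x⁻¹) h1
      rw [map_mul, map_mul, map_inv, hdU ⟨u, hUR hu⟩ hu] at h2
      have h3 : x⁻¹ * d x * ⟨u, hUR hu⟩ * (x⁻¹ * d x)⁻¹ = (⟨u, hUR hu⟩ : R) := by
        calc x⁻¹ * d x * ⟨u, hUR hu⟩ * (x⁻¹ * d x)⁻¹ = x⁻¹ * (d x * ⟨u, hUR hu⟩ * (d x)⁻¹) * x := by group
          _ = _ := by rw [h2]; group
      exact congrArg Subtype.val h3
    obtain ⟨n, hn⟩ := H93.pow_eq_one_of_stabilizes hS hRS (δ := d) (R := U) hdU hdstab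
    obtain ⟨R', φ, t, hφ, ht, hte⟩ := conjInner_of_pElement h hsyl hRtc hdm hn
    obtain ⟨U', hU', hφU⟩ := hφ.restrict hUR
    have htU' : t ∈ U' := by
      refine (hU.of_mor h.closed hφU).2 U' (H93.isConj_refl F hφU.le_right) (H93.mem_centralizerIn.2 ⟨ht.1, fun y hy => ?_⟩)
      obtain ⟨u, hu, rfl⟩ := hφU.surj hy
      have h1 := hte ⟨u, hUR hu⟩
      rw [hdU ⟨u, hUR hu⟩ hu] at h1
      exact h1.symm
    obtain ⟨z, hz, rfl⟩ := hφU.surj htU'
    have hdz : ∀ x : R, ((d x : R) : Ω) = z * x * z⁻¹ := fun x => by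
      refine hφ.injOn (d x).2 (R.mul_mem (R.mul_mem (hUR hz) x.2) (R.inv_mem (hUR hz))) ?_
      rw [hte, hφ.map_conj (hUR hz) x.2]
    -- remove `z`
    obtain ⟨ζ, hζ, hζe, hζi⟩ := exists_conj_aut F hHS
      (mem_normalizerIn_hull hRS (H93.le_normalizerIn hRS (hUR hz)))
    have hfix : ∀ y : hull S R, (y : Ω) ∈ R → (ζ⁻¹ * δ) y = y := by
      intro y hy
      rw [MulAut.mul_apply]
      refine Subtype.ext ((hζi _).trans ?_)
      rw [show y = Subgroup.inclusion (le_hull S R) ⟨y, hy⟩ from rfl, ← hdv, hdz]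
      simp [mul_assoc]
    have hzm : ∀ y : hull S R, (y : Ω)⁻¹ * (((ζ⁻¹ * δ) y : hull S R) : Ω) ∈ R := by
      refine H96.modTrivial_mul (fun y => ?_) hδm
      rw [hζi]
      have h1 := H93.mem_normalizerIn_conj
        (Subgroup.inv_mem _ (hull_le_normalizerIn hRS y.2)) (R.inv_mem (hUR hz))
      rw [inv_inv] at h1
      have h2 := R.mul_mem h1 (hUR hz)
      simpa [mul_assoc] using h2
    obtain ⟨e, he', hee⟩ := stabilizer_eq_conj hS hF hRc (mul_mem (inv_mem hζ) hδF) hfix hzm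
    refine ⟨z * e, (hull S R).mul_mem (le_hull S R (hUR hz)) (centralizerIn_le_hull S R he'), fun y hy => ?_⟩
    have h1 : α ⟨c * y * c⁻¹, conj_mem_hull (hcR c hc) hy⟩ = ζ ((ζ⁻¹ * δ) (γ (α ⟨y, hy⟩))) := by
      rw [show (⟨c * y * c⁻¹, conj_mem_hull (hcR c hc) hy⟩ : hull S R) = γ ⟨y, hy⟩ from Subtype.ext (hγe ⟨y, hy⟩).symm,
        hδdef]
      simp [MulAut.mul_apply]
    rw [h1, hζe, hee, hγe]
    group
  -- the extension
  obtain ⟨fα, hfα, hfαe⟩ := H93.exists_mor_of_aut hHS hαF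
  obtain ⟨g₁, M, hg₁, hg₁e, -⟩ := hfα.extend (M := centralizerIn S U) (hull_isReceptive hS hF hRc) fun c hc => by
    obtain ⟨k, hk, hke⟩ := htw c hc
    refine ⟨mem_normalizerIn_hull hRS (hcR c hc), k * c, S.mul_mem (hHS hk) hc.1, fun y hy => ?_⟩
    rw [show fα (c * y * c⁻¹) = _ from hfαe ⟨_, conj_mem_hull (hcR c hc) hy⟩, show fα y = _ from hfαe ⟨y, hy⟩]
    exact hke y hy
  -- properties of every extension
  have key : ∀ (G : Ω → Ω) (M : Subgroup Ω), Mor F (hull S R ⊔ centralizerIn S U) M G →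
      (∀ (y : Ω) (hy : y ∈ hull S R), G y = ((α ⟨y, hy⟩ : hull S R) : Ω)) →
      ∀ c ∈ centralizerIn S U, G c ∈ centralizerIn S U ∧ c⁻¹ * G c ∈ hull S R := by
    intro G M hG hGe c hc
    obtain ⟨k, hk, hke⟩ := htw c hc
    have hcQ : c ∈ hull S R ⊔ centralizerIn S U := Subgroup.mem_sup_right hc
    have hkcS : k * c ∈ S := S.mul_mem (hHS hk) hc.1
    have h1 : (k * c)⁻¹ * G c ∈ hull S R := by
      refine (hull_isCentric hRc).2 _ (H93.isConj_refl F hHS) (H93.mem_centralizerIn.2 ⟨?_, fun y hy => ?_⟩)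
      · exact S.mul_mem (S.inv_mem hkcS) (hG.le_right (hG.map_mem hcQ))
      obtain ⟨w, hw⟩ : ∃ w, α w = ⟨y, hy⟩ := α.surjective _
      have h2 := hG.map_conj hcQ (Subgroup.mem_sup_left w.2)
      rw [hGe _ (conj_mem_hull (hcR c hc) w.2), hke _ w.2, hGe _ w.2,
        show (⟨(w : Ω), w.2⟩ : hull S R) = w from rfl, hw] at h2
      calc (k * c)⁻¹ * G c * y * ((k * c)⁻¹ * G c)⁻¹ = (k * c)⁻¹ * (G c * y * (G c)⁻¹) * (k * c) := by group
        _ = y := by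
          rw [← h2]
          show (k * c)⁻¹ * (k * c * y * (k * c)⁻¹) * (k * c) = y
          group
    refine ⟨H93.mem_centralizerIn.2 ⟨hG.le_right (hG.map_mem hcQ), fun x hx => ?_⟩, ?_⟩
    · obtain ⟨u, hu⟩ : ∃ u, b u = ⟨x, hx⟩ := b.surjective _
      have hx' : G (u : Ω) = x := by
        rw [hGe _ (le_hull S R (hUR u.2)), hαU _ u.2, show (⟨(u : Ω), u.2⟩ : U) = u from rfl, hu]
      rw [← hx', ← hG.map_conj hcQ (Subgroup.mem_sup_left (le_hull S R (hUR u.2))),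
        (H93.mem_centralizerIn.1 hc).2 u u.2]
    · have h2 := conj_mem_hull (Subgroup.inv_mem _ (hcR c hc)) hk
      rw [inv_inv] at h2
      have h3 := (hull S R).mul_mem h2 h1
      have e : c⁻¹ * k * c * ((k * c)⁻¹ * G c) = c⁻¹ * G c := by group
      rwa [e] at h3
  have hQS : hull S R ⊔ centralizerIn S U ≤ S := sup_le hHS inf_le_left
  have := H96.finite_of_le hQS
  have hg₁α : ∀ (y : Ω) (hy : y ∈ hull S R), g₁ y = ((α ⟨y, hy⟩ : hull S R) : Ω) := fun y hy =>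
    (hg₁e y hy).trans (hfαe ⟨y, hy⟩)
  obtain rfl : M = hull S R ⊔ centralizerIn S U := by
    obtain ⟨H', -, hH⟩ := hg₁.restrict (le_sup_left : hull S R ≤ hull S R ⊔ centralizerIn S U)
    obtain ⟨C', -, hC⟩ := hg₁.restrict (le_sup_right : centralizerIn S U ≤ hull S R ⊔ centralizerIn S U)
    refine Subgroup.eq_of_le_of_card_ge (fun y hy => ?_) hg₁.card_eq.le
    obtain ⟨x, hx, rfl⟩ := hg₁.surj hy
    obtain ⟨ψ, hψ, -, hψv⟩ := id hg₁
    have hle : hull S R ⊔ centralizerIn S U ≤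
        ((hull S R ⊔ centralizerIn S U).comap ψ).map (hull S R ⊔ centralizerIn S U).subtype := sup_le
      (fun x hx => ⟨⟨x, Subgroup.mem_sup_left hx⟩, Subgroup.mem_comap.2
        ((hψv ⟨x, Subgroup.mem_sup_left hx⟩).symm ▸ Subgroup.mem_sup_left (hg₁α x hx ▸ (α ⟨x, hx⟩).2)), rfl⟩)
      (fun x hx => ⟨⟨x, Subgroup.mem_sup_right hx⟩, Subgroup.mem_comap.2
        ((hψv ⟨x, Subgroup.mem_sup_right hx⟩).symm ▸ Subgroup.mem_sup_right (key g₁ _ hg₁ hg₁α x hx).1), rfl⟩)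
    obtain ⟨w, hw, rfl⟩ := hle hx
    exact hψv w ▸ hw
  obtain ⟨β₁, hβ₁, hβ₁e⟩ := hg₁.exists_aut
  have hβ₁α : ∀ y : hull S R, β₁ (Subgroup.inclusion le_sup_left y) = Subgroup.inclusion le_sup_left (α y) :=
    fun y => Subtype.ext ((hβ₁e _).trans (hg₁α y y.2))
  have : Finite (MulAut ↥(hull S R ⊔ centralizerIn S U)) :=
    Finite.of_injective (fun e : MulAut ↥(hull S R ⊔ centralizerIn S U) => (e : _ → _)) DFunLike.coe_injective
  obtain ⟨m₁, hm₁, hβ₁m⟩ := exists_coprime_pow (p := p) _ hβ₁α (hαdef ▸ hm₀)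
  obtain ⟨β, hβdef⟩ : ∃ β, β = β₁ ^ m₁ := ⟨_, rfl⟩
  obtain ⟨G, hG, hGe⟩ := H93.exists_mor_of_aut hQS (hβdef ▸ pow_mem hβ₁ m₁ : β ∈ _)
  have hGα : ∀ (y : Ω) (hy : y ∈ hull S R), G y = ((α ⟨y, hy⟩ : hull S R) : Ω) := fun y hy =>
    (hGe ⟨y, Subgroup.mem_sup_left hy⟩).trans (congrArg Subtype.val (hβdef ▸ hβ₁m ⟨y, hy⟩))
  -- the displacements of the centralizer
  have hdisp : ∀ c ∈ centralizerIn S U, c⁻¹ * G c ∈ T₁ ⊓ T₂ := by
    intro c hc
    refine hR ?_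
    have hd := (key G _ hG hGα c hc).2
    obtain ⟨d, hddef⟩ : ∃ d, d = c⁻¹ * G c := ⟨_, rfl⟩
    rw [← hddef] at hd ⊢
    have hcQ : c ∈ hull S R ⊔ centralizerIn S U := Subgroup.mem_sup_right hc
    have hGc : G c = c * d := by rw [hddef, mul_inv_cancel_left]
    have hit : ∀ n : ℕ, ∃ r ∈ R, (((β ^ n) ⟨c, hcQ⟩ : ↥(hull S R ⊔ centralizerIn S U)) : Ω) = c * d ^ n * r := by
      intro n
      induction n with
      | zero => exact ⟨1, one_mem _, by simp⟩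
      | succ n ih =>
        obtain ⟨r, hr, hn⟩ := ih
        have hdn : d ^ n * r ∈ hull S R := (hull S R).mul_mem (Subgroup.pow_mem _ hd n) (le_hull S R hr)
        refine ⟨r * ((d ^ n * r)⁻¹ * ((α ⟨_, hdn⟩ : hull S R) : Ω)), R.mul_mem hr (hαm ⟨_, hdn⟩), ?_⟩
        rw [pow_succ' β, MulAut.mul_apply, ← hGe, hn, mul_assoc, hG.map_mul hcQ (Subgroup.mem_sup_left hdn),
          hGα _ hdn, pow_succ', hGc]
        group
    obtain ⟨r, hr, hN⟩ := hit (orderOf β)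
    rw [pow_orderOf_eq_one] at hN
    have h1 : d ^ orderOf β = r⁻¹ := by
      have : c * (d ^ orderOf β * r) = c * 1 := by rw [mul_one, ← mul_assoc]; exact hN.symm
      exact eq_inv_of_mul_eq_one_left (mul_left_cancel this)
    obtain ⟨k, hk⟩ := hS ⟨d, hHS hd⟩
    obtain ⟨s, hs⟩ : ∃ s : ℕ, (d ^ orderOf β) ^ s = d := exists_pow_eq_self_of_coprime
      (Nat.Coprime.coprime_dvd_right
        (orderOf_dvd_of_pow_eq_one (show d ^ p ^ k = 1 from congrArg Subtype.val hk))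
        (Nat.Coprime.pow_right k (hβdef ▸ hm₁)))
    rw [← hs, h1]
    exact Subgroup.pow_mem _ (R.inv_mem hr) s
  have hUb : ∀ (u : Ω) (hu : u ∈ U), G u = ((b ⟨u, hu⟩ : U) : Ω) := fun u hu =>
    (hGα u (le_hull S R (hUR hu))).trans (hαU u hu)
  have hHU : hull S U ≤ hull S R ⊔ centralizerIn S U :=
    sup_le ((hUR.trans (le_hull S R)).trans le_sup_left) le_sup_right
  obtain ⟨H', -, hH⟩ := hG.restrict hHU
  obtain rfl : H' = hull S U := by
    obtain ⟨ψ, -, -, hψv⟩ := id hH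
    have := H96.finite_of_le (hull_le (S := S) hUS)
    have hle : hull S U ≤ ((hull S U).comap ψ).map (hull S U).subtype := sup_le
      (fun x hx => ⟨⟨x, le_hull S U hx⟩, Subgroup.mem_comap.2
        ((hψv ⟨x, le_hull S U hx⟩).symm ▸ le_hull S U (hUb x hx ▸ (b ⟨x, hx⟩).2)), rfl⟩)
      (fun x hx => ⟨⟨x, centralizerIn_le_hull S U hx⟩, Subgroup.mem_comap.2
        ((hψv ⟨x, centralizerIn_le_hull S U hx⟩).symm ▸ centralizerIn_le_hull S U (key G _ hG hGα x hx).1), rfl⟩)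
    refine Subgroup.eq_of_le_of_card_ge (fun y hy => ?_) hH.card_eq.le
    obtain ⟨x, hx, rfl⟩ := hH.surj hy
    obtain ⟨w, hw, rfl⟩ := hle hx
    exact hψv w ▸ hw
  have hsub : ∀ {X : Subgroup Ω} (E : FusionSystem X), E.IsWeaklyNormalIn F p → T₁ ⊓ T₂ ≤ X →
      Mor E (hull X R) (hull X R) g₀ → Mor E (hull X U) (hull X U) G := by
    intro X E hE hTX hE₀
    have hXS : X ≤ S := hE.2.2.2.1.1
    have hRX : R ≤ X := hR.trans hTX
    have hXH : hull X R ≤ hull S R := sup_le_sup_left (inf_le_inf_right _ hXS) R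
    have hCC : centralizerIn X U ≤ centralizerIn S U := inf_le_inf_right _ hXS
    have := H96.finite_of_le hXS
    have hRcX := fullyCentralized_of_closed hS hF hE.2.2.1 hE.2.2.2.1 hRX hRc
    obtain ⟨σ, hσ, hσe⟩ := hE₀.exists_aut
    have hσα : ∀ x : hull X R, α (Subgroup.inclusion hXH x) = Subgroup.inclusion hXH ((σ ^ m₀) x) := fun x => by
      rw [hαdef]
      exact H96.pow_intertwine _ (fun z => Subtype.ext ((hα₁e _).trans (hσe z).symm)) m₀ x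
    obtain ⟨f, hf, hfe⟩ := H93.exists_mor_of_aut (hull_le hRX) (pow_mem hσ m₀)
    have hGY : Mor E (hull X R) (hull X R) G := hf.congr fun x hx => (hfe ⟨x, hx⟩).trans
      ((congrArg Subtype.val (hσα ⟨x, hx⟩)).symm.trans (hGα x (hXH hx)).symm)
    have hle : hull X R ⊔ centralizerIn X U ≤ hull S R ⊔ centralizerIn S U := sup_le_sup hXH hCC
    have hGC : ∀ c ∈ centralizerIn X U, G c ∈ centralizerIn X U := fun c hc => by
      refine ⟨?_, (key G _ hG hGα c (hCC hc)).1.2⟩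
      obtain ⟨ψ, hψ, -, hψv⟩ := id hG
      rw [← hψv ⟨c, hle (Subgroup.mem_sup_right hc)⟩]
      exact H93.StronglyClosed.apply_mem hE.2.2.2.1 hψ _ hc.1
    have hGX := mor_restrict_sup hG hle (fun x hx => Subgroup.mem_sup_left (hGY.map_mem hx))
      fun x hx => Subgroup.mem_sup_right (hGC x hx)
    have := H96.finite_of_le (hull_le (S := X) hRX)
    obtain ⟨τ, -, hτe⟩ := hGX.exists_aut
    have hτp : (orderOf τ).Coprime p := by
      refine Nat.Coprime.coprime_dvd_left (orderOf_dvd_of_pow_eq_one (MulEquiv.ext fun x => ?_)) (hβdef ▸ hm₁)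
      apply Subgroup.inclusion_injective hle
      rw [← H96.pow_intertwine (Subgroup.inclusion hle)
        (fun y => Subtype.ext (((hτe y).trans (hGe (Subgroup.inclusion hle y))).symm)) (orderOf β) x, pow_orderOf_eq_one]
      rfl
    have hE' := mor_of_ext (M := centralizerIn X U) hS hE (hull_isReceptive (hS.to_le hXS) hE.1 hRcX) (hull_isCentric hRcX)
      (fun c hc => mem_normalizerIn_hull hRX ⟨hc.1, (hcR c (hCC hc)).2⟩) hGX hτe hτp hGY
    exact mor_restrict_sup hE' (sup_le ((hUR.trans (le_hull X R)).trans le_sup_left) le_sup_right)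
      (fun x hx => Subgroup.mem_sup_left (hUb x hx ▸ (b ⟨x, hx⟩).2))
      fun x hx => Subgroup.mem_sup_right (hGC x hx)
  refine ⟨G, hH, fun x => hUb x x.2, fun y hy => cong_sup hH
    ((hull_le hUS).trans (H93.StronglyClosed.le_normalizer h.closed)) (fun u hu => ?_) hdisp hy,
    hsub E₁ h.left inf_le_left hg₀₁, hsub E₂ h.right inf_le_right hg₀₂⟩
  rw [hUb u hu]
  exact Subgroup.mul_mem _ (Subgroup.inv_mem _ (hU.1 hu)) (hU.1 (b ⟨u, hu⟩).2)

/-- The step of the restriction lemma along a normal inclusion. -/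
theorem bGood_restrict_normal (h : Data p F E₁ E₂) (hsyl : SylowProp p F E₁ E₂) {U R : Subgroup Ω}
    (hU : TCentric F (T₁ ⊓ T₂) U) (hUR : U ≤ R) (hR : R ≤ T₁ ⊓ T₂) (hRN : R ≤ normalizerIn S U)
    {a : MulAut R} (ha : BGood F E₁ E₂ R a) (hp : (orderOf a).Coprime p) {b : MulAut U}
    (he : ∀ x : U, ((b x : U) : Ω) = ((a (Subgroup.inclusion hUR x) : R) : Ω)) : BGood F E₁ E₂ U b := by
  refine ⟨actsIn_restrict hUR ha.1 he, actsIn_restrict hUR ha.2.1 he, actsIn_restrict hUR ha.2.2.1 he,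
    fun U₂ φ₂ hφ₂ hU₂ => ?_⟩
  have hUS := hU.1.trans h.le
  obtain ⟨U₀, hconj, hU₀⟩ := H93.exists_isFullyNormalized F hUS
  obtain ⟨π, hπ, -, hπi⟩ := H93.exists_map_to_fullyNormalized h.isPGroup h.saturated hU₀ hconj
  obtain ⟨f, hf, hfe⟩ := H93.exists_mor hπ rfl
  have hUN : U ≤ normalizerIn S U := H93.le_normalizerIn hUS
  have hfU : Mor F U U₀ f := by
    refine hf.restrict_eq hUN (fun x hx => ?_) fun y hy => ?_
    · rw [show f x = _ from hfe ⟨x, hUN hx⟩, ← hπi]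
      exact H93.apply_mem_imgIn hx
    · rw [← hπi] at hy
      obtain ⟨x, hx, rfl⟩ := H93.mem_imgIn.1 hy
      exact ⟨x, hx, hfe x⟩
  obtain ⟨R₁, -, hfR⟩ := hf.restrict hRN
  have hU₀R₁ : U₀ ≤ R₁ := fun y hy => by
    obtain ⟨x, hx, rfl⟩ := hfU.surj hy
    exact hfR.map_mem (hUR hx)
  have hR₁N : R₁ ≤ normalizerIn S U₀ := fun y hy => by
    obtain ⟨x, hx, rfl⟩ := hfR.surj hy
    exact hf.map_mem_normalizerIn hfU hUN (hRN hx) (hRN hx).2
  obtain ⟨R₂, ψ, hψ, hψU, hU₀R₂, hR₂N, hR₂c⟩ :=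
    exists_fullyCentralized_conj h.isPGroup h.saturated hU₀ hU₀R₁ hR₁N
  have hφR : Mor F R R₂ (fun x => ψ (f x)) := hψ.comp hfR
  have hφU : Mor F U U₀ (fun x => ψ (f x)) := hψU.comp hfU
  have hRtc := hU.mono hUR hR
  obtain ⟨a₂, ha₂⟩ := exists_conjAut hφR a
  obtain ⟨b₂, hb₂⟩ := exists_conjAut hφU b
  have he₂ : ∀ x : U₀, ((b₂ x : U₀) : Ω) = ((a₂ (Subgroup.inclusion hU₀R₂ x) : R₂) : Ω) := by
    intro x
    obtain ⟨z, hz, hzx⟩ := hφU.surj x.2
    have h1 := hb₂ ⟨z, hz⟩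
    have h2 := ha₂ ⟨z, hUR hz⟩
    rw [show (⟨ψ (f z), hφU.map_mem hz⟩ : U₀) = x from Subtype.ext hzx] at h1
    rw [show (⟨ψ (f z), hφR.map_mem (hUR hz)⟩ : R₂) = Subgroup.inclusion hU₀R₂ x from Subtype.ext hzx] at h2
    rw [← h1, ← h2, he]
    rfl
  have hRS₂ := (hRtc.of_mor h.closed hφR).1.trans h.le
  obtain ⟨g₀, hg₀, hg₀a, hg₀c, hg₀1, hg₀2⟩ :=
    (bGood_conj h hR hφR ha ha₂).2.2.2 R₂ (fun x => x) (Mor.id F hRS₂) hR₂c
  obtain ⟨g, hg, hgb, hgc, hg1, hg2⟩ := cong_restrict h hsyl (hU.of_mor h.closed hφU) hU₀R₂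
    (hRtc.of_mor h.closed hφR).1 hR₂N hR₂c
    (bGood_conj h hR hφR ha ha₂) (coprime_conjAut hφR ha₂ hp) he₂ hg₀ hg₀a hg₀c hg₀1 hg₀2
  refine congIn_of_congIn h hU hφU hφ₂
    (H93.IsFullyNormalized.isFullyCentralized h.isPGroup h.saturated hU₀) hU₂
    ⟨g, hg, fun x => ?_, hgc, hg1, hg2⟩
  exact (hgb ⟨_, hφU.map_mem x.2⟩).trans (hb₂ x).symm

/-- Restrictions of good automorphisms of order prime to `p` are good. -/
theorem bGood_restrict (h : Data p F E₁ E₂) (hsyl : SylowProp p F E₁ E₂) {U R : Subgroup Ω}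
    (hU : TCentric F (T₁ ⊓ T₂) U) (hUR : U ≤ R) (hR : R ≤ T₁ ⊓ T₂) {a : MulAut R}
    (ha : BGood F E₁ E₂ R a) (hp : (orderOf a).Coprime p) {b : MulAut U}
    (he : ∀ x : U, ((b x : U) : Ω) = ((a (Subgroup.inclusion hUR x) : R) : Ω)) : BGood F E₁ E₂ U b := by
  suffices H : ∀ (n : ℕ) (U R : Subgroup Ω) (hUR : U ≤ R), Nat.card R ≤ Nat.card U + n →
      TCentric F (T₁ ⊓ T₂) U → R ≤ T₁ ⊓ T₂ → ∀ a : MulAut R, BGood F E₁ E₂ R a → (orderOf a).Coprime p →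
      ∀ b : MulAut U, (∀ x : U, ((b x : U) : Ω) = ((a (Subgroup.inclusion hUR x) : R) : Ω)) →
        BGood F E₁ E₂ U b from H _ U R hUR (Nat.le_add_left _ _) hU hR a ha hp b he
  intro n
  induction n using Nat.strong_induction_on with
  | _ n ih =>
  intro U R hUR hn hU hR a ha hp b he
  by_cases hRN : R ≤ normalizerIn S U
  · exact bGood_restrict_normal h hsyl hU hUR hR hRN ha hp he
  have hRS := hR.trans h.le
  have := H96.finite_of_le hRS
  have hlt : U < R := lt_of_le_of_ne hUR fun e => hRN (e ▸ H93.le_normalizerIn (hUR.trans hRS))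
  set R₁ := normalizerIn R U
  have hUR₁ : U < R₁ := H94.lt_normalizerIn (h.isPGroup.to_le hRS) hlt
  have hR₁R : R₁ ≤ R := inf_le_left
  have hR₁N : R₁ ≤ normalizerIn S U := inf_le_inf_right _ hRS
  have := H96.finite_of_le (hUR.trans hRS)
  have := H96.finite_of_le (hR₁R.trans hRS)
  have hinv : ∀ x : R₁, ((a (Subgroup.inclusion hR₁R x) : R) : Ω) ∈ R₁ := by
    intro x
    refine ⟨(a _).2, H94.mem_normalizer_of_forall_conj_mem fun u hu => ?_⟩
    obtain ⟨v, hv⟩ : ∃ v, b v = ⟨u, hu⟩ := b.surjective _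
    have h1 : (a (Subgroup.inclusion hR₁R x) : Ω) * u * ((a (Subgroup.inclusion hR₁R x) : R) : Ω)⁻¹ =
        ((b ⟨(x : Ω) * v * (x : Ω)⁻¹, (Subgroup.mem_normalizer_iff.1 x.2.2 v).1 v.2⟩ : U) : Ω) := by
      rw [he, show u = ((b v : U) : Ω) by rw [hv], he, ← Subgroup.coe_inv, ← Subgroup.coe_mul, ← Subgroup.coe_mul,
        ← map_inv, ← map_mul, ← map_mul]
      rfl
    rw [h1]
    exact SetLike.coe_mem _
  obtain ⟨a₁, ha₁⟩ : ∃ a₁ : MulAut R₁, ∀ x : R₁,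
      ((a₁ x : R₁) : Ω) = ((a (Subgroup.inclusion hR₁R x) : R) : Ω) := by
    let f : R₁ →* R₁ := MonoidHom.codRestrict (R.subtype.comp (a.toMonoidHom.comp (Subgroup.inclusion hR₁R))) R₁ hinv
    have hf : Function.Injective f := fun x y e =>
      Subgroup.inclusion_injective _ (a.injective (Subtype.ext (congrArg Subtype.val e :)))
    exact ⟨MulEquiv.ofBijective f ⟨hf, Finite.surjective_of_injective hf⟩, fun x => rfl⟩
  have hp₁ : (orderOf a₁).Coprime p := by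
    refine Nat.Coprime.coprime_dvd_left (orderOf_dvd_of_pow_eq_one (MulEquiv.ext fun x => ?_)) hp
    apply Subgroup.inclusion_injective hR₁R
    rw [← H96.pow_intertwine (Subgroup.inclusion hR₁R) (fun y => Subtype.ext (ha₁ y).symm) (orderOf a) x,
      pow_orderOf_eq_one]
    rfl
  have hc1 : Nat.card U < Nat.card R₁ := by
    refine lt_of_le_of_ne (Subgroup.card_le_of_le hUR₁.le) fun e => hUR₁.ne ?_
    exact Subgroup.eq_of_le_of_card_ge hUR₁.le e.ge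
  have hn0 : 0 < n := by
    have := hc1.trans_le (Subgroup.card_le_of_le hR₁R)
    omega
  have hg₁ : BGood F E₁ E₂ R₁ a₁ :=
    ih (n - 1) (by omega) R₁ R hR₁R (by omega) (hU.mono hUR₁.le (hR₁R.trans hR)) hR a ha hp a₁ ha₁
  refine bGood_restrict_normal h hsyl hU hUR₁.le (hR₁R.trans hR) hR₁N hg₁ hp₁ fun x => ?_
  rw [he, ha₁]
  rfl

end Cfsg.Agent.H24.Meet
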