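import Cfsg.Agent.H94.Meet.Restrict
import Cfsg.Agent.H24.MeetRestrict
import Cfsg.Agent.H24.MeetLift

/-!
The restriction and lifting properties of the automizers of the meet.
-/

set_option autoImplicit false

namespace Cfsg.Agent.H24.Meet

open Cfsg Cfsg.FusionSystem
open Cfsg.Agent.H94.Meet

variable {Ω : Type*} [Group Ω] {S T₁ T₂ : Subgroup Ω} {F : FusionSystem S} {E₁ : FusionSystem T₁}
  {E₂ : FusionSystem T₂} {p : ℕ} [Finite S] [Fact p.Prime]

/-- The restriction property. -/
theorem restrictProp (h : Data p F E₁ E₂) (hsyl : SylowProp p F E₁ E₂) : RestrictProp p F E₁ E₂ :=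
  fun _ _ hU hUR hR _ ha hp _ he => bGood_restrict h hsyl hU hUR hR ha hp he

/-- The lifting property. -/
theorem liftProp (h : Data p F E₁ E₂) : LiftProp p F E₁ E₂ :=
  fun _ _ hU hn hUW hW _ ha hp hnorm => bGood_lift h hU hn hUW hW ha hp hnorm

end Cfsg.Agent.H24.Meet
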