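import Cfsg.Agent.H24.ResistantMetacyclic
import Cfsg.Agent.H24.MetacyclicTwo
import Cfsg.Agent.H24.TwoMaxClass

/-!
Automorphisms of metacyclic `p`-groups: an invariant line of the Frattini quotient, unless the group
is homocyclic (or a quaternion group).
-/

namespace Cfsg.Agent.H24

open Subgroup
open scoped commutatorElement

variable {G : Type*} [Group G] [Finite G] {p : ℕ} [hp : Fact p.Prime]

/-- Two generators, one of them spanning a normal subgroup. -/
theorem exists_metacyclic_gens (hm : Cfsg.IsMetacyclic G) :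
    ∃ a b : G, (zpowers a).Normal ∧ ∀ g : G, ∃ i j : ℤ, g = b ^ i * a ^ j := by
  obtain ⟨N, hN, hNc, hQc⟩ := hm
  obtain ⟨a, rfl⟩ := Subgroup.isCyclic_iff_exists_zpowers_eq_top N |>.mp hNc
  obtain ⟨q, hq⟩ := hQc.exists_generator
  obtain ⟨b, rfl⟩ := QuotientGroup.mk_surjective q
  refine ⟨a, b, hN, fun g => ?_⟩
  obtain ⟨i, hi⟩ := mem_zpowers_iff.1 (hq (g : G ⧸ zpowers a))
  rw [← QuotientGroup.mk_zpow, QuotientGroup.eq] at hi
  obtain ⟨j, hj⟩ := mem_zpowers_iff.1 hi
  exact ⟨i, j, by rw [hj, mul_inv_cancel_left]⟩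

/-- Generation of the Frattini quotient by two elements with small exponents. -/
theorem frq_form (hG : IsPGroup p G) {a b : G} (hab : ∀ g : G, ∃ i j : ℤ, g = b ^ i * a ^ j) (g : G) :
    ∃ i j : ℕ, i < p ∧ j < p ∧ frq G g = frq G b ^ i * frq G a ^ j := by
  have hP : p.Prime := hp.out
  have hred : ∀ (y : G) (z : ℤ), ∃ n : ℕ, n < p ∧ frq G y ^ z = frq G y ^ n := by
    intro y z
    refine ⟨(z % p).toNat, ?_, ?_⟩
    · have := Int.emod_lt_of_pos z (Int.natCast_pos.2 hP.pos)
      have := Int.emod_nonneg z (Int.natCast_ne_zero.2 hP.ne_zero)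
      omega
    · conv_lhs => rw [← Int.emod_add_mul_ediv z p, zpow_add, zpow_mul, zpow_natCast,
        frq_pow hG, one_zpow, mul_one]
      rw [← zpow_natCast, Int.toNat_of_nonneg (Int.emod_nonneg z (Int.natCast_ne_zero.2 hP.ne_zero))]
  obtain ⟨i, j, rfl⟩ := hab g
  obtain ⟨i', hi', hie⟩ := hred b i
  obtain ⟨j', hj', hje⟩ := hred a j
  exact ⟨i', j', hi', hj', by rw [map_mul, map_zpow, map_zpow, hie, hje]⟩

theorem index_frattini_le_sq (hG : IsPGroup p G) (hm : Cfsg.IsMetacyclic G) :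
    (frattini G).index ≤ p ^ 2 := by
  obtain ⟨a, b, -, hab⟩ := exists_metacyclic_gens hm
  let f : Fin p × Fin p → G ⧸ frattini G := fun ij => frq G b ^ (ij.1 : ℕ) * frq G a ^ (ij.2 : ℕ)
  have hsurj : Function.Surjective f := fun v => by
    obtain ⟨g, rfl⟩ := QuotientGroup.mk_surjective v
    obtain ⟨i, j, hi, hj, hv⟩ := frq_form hG hab g
    exact ⟨(⟨i, hi⟩, ⟨j, hj⟩), hv.symm⟩
  have := Nat.card_le_card_of_surjective f hsurj
  rwa [Nat.card_prod, Nat.card_fin, ← pow_two] at this

/-- A subgroup between the Frattini subgroup and `G`, different from both, has index `p`. -/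
theorem index_eq_of_between (hG : IsPGroup p G) (hm : Cfsg.IsMetacyclic G) {L : Subgroup G}
    (hΦL : frattini G ≤ L) (hne : ¬ L ≤ frattini G) (htop : L ≠ ⊤) : L.index = p := by
  have hle := index_frattini_le_sq hG hm
  rw [← relIndex_mul_index hΦL, pow_two] at hle
  have h1 : p ≤ (frattini G).relIndex L := le_relIndex_of_lt hG hne
  have h2 : p ≤ L.index := by
    have := le_relIndex_of_lt hG (H := L) (K := ⊤) fun h => htop (top_le_iff.1 h)
    rwa [relIndex_top_right] at this
  refine le_antisymm ?_ h2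
  exact Nat.le_of_mul_le_mul_left ((Nat.mul_le_mul_right L.index h1).trans hle) hp.out.pos

/-- A noncyclic abelian metacyclic `p`-group is homocyclic or has an invariant line. -/
theorem line_or_homocyclic (hG : IsPGroup p G) (hm : Cfsg.IsMetacyclic G) (hab : IsMulCommutative G)
    (hnc : ¬ IsCyclic G) :
    (∃ L : Subgroup G, frattini G ≤ L ∧ L.index = p ∧ ∀ α : MulAut G, ∀ g ∈ L, α g ∈ L) ∨
    ∃ n : ℕ, 0 < n ∧ Nonempty (G ≃* Multiplicative (ZMod (p ^ n)) × Multiplicative (ZMod (p ^ n))) := by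
  classical
  have hP : p.Prime := hp.out
  have hc : ∀ u v : G, Commute u v := fun u v => mul_comm' u v
  have hex : ∃ r, ∀ g : G, g ^ p ^ r = 1 := by
    obtain ⟨m, hm'⟩ := hG.exists_card_eq
    exact ⟨m, fun g => hm' ▸ pow_card_eq_one'⟩
  set r := Nat.find hex with hr
  have hexp : ∀ g : G, g ^ p ^ r = 1 := Nat.find_spec hex
  have hr0 : 0 < r := by
    by_contra h0
    apply hnc
    have : Subsingleton G := ⟨fun u v => by
      have hu := hexp u
      have hv := hexp v
      rw [show r = 0 by omega, pow_zero, pow_one] at hu hv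
      rw [hu, hv]⟩
    infer_instance
  have hpp : p * p ^ (r - 1) = p ^ r := by rw [← pow_succ']; congr 1; omega
  let L : Subgroup G :=
    { carrier := {g | g ^ p ^ (r - 1) = 1}
      one_mem' := one_pow _
      mul_mem' := fun {u v} hu hv => by
        show (u * v) ^ _ = 1
        rw [(hc u v).mul_pow, show u ^ _ = 1 from hu, show v ^ _ = 1 from hv, one_mul]
      inv_mem' := fun {u} hu => by
        show u⁻¹ ^ _ = 1
        rw [inv_pow, show u ^ _ = 1 from hu, inv_one] }
  have hΦL : frattini G ≤ L := frattini_le_of (p := p) L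
    (by
      rw [_root_.commutator_def, Subgroup.commutator_le]
      intro u _ v _
      rw [commutatorElement_eq_one_iff_mul_comm.mpr (hc u v).eq]
      exact L.one_mem)
    fun g => show (g ^ p) ^ p ^ (r - 1) = 1 by rw [← pow_mul, hpp, hexp]
  have htop : L ≠ ⊤ := by
    intro h
    exact Nat.find_min hex (show r - 1 < r by omega) fun g => (h ▸ mem_top g : g ∈ L)
  by_cases hLΦ : L ≤ frattini G
  swap
  · refine .inl ⟨L, hΦL, index_eq_of_between hG hm hΦL hLΦ htop, fun α g hg => ?_⟩
    show α g ^ p ^ (r - 1) = 1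
    rw [← map_pow, show g ^ p ^ (r - 1) = 1 from hg, map_one]
  right
  obtain ⟨a, b, -, hgen⟩ := exists_metacyclic_gens hm
  have hidx : (frattini G).index = p ^ 2 := by
    obtain ⟨i, hi⟩ := hG.index (frattini G)
    have hle := index_frattini_le_sq hG hm
    rw [hi, Nat.pow_le_pow_iff_right hP.one_lt] at hle
    rw [hi]
    congr 1
    by_contra hi2
    have : IsCyclic (G ⧸ frattini G) := isCyclic_of_card_pow_le (p := p) (k := i) hi (by omega)
    exact hnc (isCyclic_of_quotient (frattini G) le_rfl)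
  -- the exponents in the Frattini quotient are unique
  let f : Fin p × Fin p → G ⧸ frattini G := fun ij => frq G b ^ (ij.1 : ℕ) * frq G a ^ (ij.2 : ℕ)
  have hsurj : Function.Surjective f := fun v => by
    obtain ⟨g, rfl⟩ := QuotientGroup.mk_surjective v
    obtain ⟨i, j, hi, hj, hv⟩ := frq_form hG hgen g
    exact ⟨(⟨i, hi⟩, ⟨j, hj⟩), hv.symm⟩
  have hinj : Function.Injective f := (hsurj.bijective_of_nat_card_le (le_of_eq (by
    rw [Nat.card_prod, Nat.card_fin, ← pow_two, ← hidx]; rfl))).injective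
  have key : ∀ k ≤ r, ∀ i j : ℕ, b ^ i * a ^ j = 1 → p ^ k ∣ i ∧ p ^ k ∣ j := by
    intro k
    induction k with
    | zero => intro _ i j _; simp
    | succ k ih =>
      intro hk i j h
      obtain ⟨⟨i', rfl⟩, j', rfl⟩ := ih (by omega) i j h
      have hu : (b ^ i' * a ^ j') ^ p ^ k = 1 := by
        rw [(hc _ _).mul_pow, ← pow_mul, ← pow_mul, mul_comm i', mul_comm j', h]
      have huL : b ^ i' * a ^ j' ∈ L := by
        show _ ^ p ^ (r - 1) = 1
        rw [show r - 1 = k + (r - 1 - k) by omega, pow_add, pow_mul, hu, one_pow]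
      have h0 := frq_eq_one.2 (hLΦ huL)
      rw [map_mul, map_pow, map_pow, pow_eq_pow_mod i' (frq_pow hG b),
        pow_eq_pow_mod j' (frq_pow hG a)] at h0
      have := hinj (a₁ := (⟨i' % p, Nat.mod_lt _ hP.pos⟩, ⟨j' % p, Nat.mod_lt _ hP.pos⟩))
        (a₂ := (⟨0, hP.pos⟩, ⟨0, hP.pos⟩)) (by simpa [f] using h0)
      simp only [Prod.mk.injEq, Fin.mk.injEq] at this
      rw [pow_succ]
      exact ⟨Nat.mul_dvd_mul_left _ (Nat.dvd_of_mod_eq_zero this.1),
        Nat.mul_dvd_mul_left _ (Nat.dvd_of_mod_eq_zero this.2)⟩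
  have : NeZero (p ^ r) := ⟨pow_ne_zero _ hP.ne_zero⟩
  have hval : ∀ (g : G) (x y : ZMod (p ^ r)), g ^ (x + y).val = g ^ x.val * g ^ y.val := fun g x y => by
    rw [ZMod.val_add, ← pow_eq_pow_mod _ (hexp g), pow_add]
  let φ : Multiplicative (ZMod (p ^ r)) × Multiplicative (ZMod (p ^ r)) →* G :=
    { toFun := fun xy => b ^ (Multiplicative.toAdd xy.1).val * a ^ (Multiplicative.toAdd xy.2).val
      map_one' := by simp
      map_mul' := fun u v => by
        simp only [Prod.fst_mul, Prod.snd_mul, toAdd_mul, hval]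
        rw [(hc _ (a ^ _)).mul_mul_mul_comm] }
  have hφi : Function.Injective φ := by
    refine (injective_iff_map_eq_one φ).2 fun xy h => ?_
    obtain ⟨h1, h2⟩ := key r le_rfl _ _ h
    have e1 := Nat.eq_zero_of_dvd_of_lt h1 (ZMod.val_lt _)
    have e2 := Nat.eq_zero_of_dvd_of_lt h2 (ZMod.val_lt _)
    rw [ZMod.val_eq_zero] at e1 e2
    exact Prod.ext e1 e2
  have hφs : Function.Surjective φ := fun g => by
    obtain ⟨i, j, rfl⟩ := hgen g
    refine ⟨(Multiplicative.ofAdd (i : ZMod (p ^ r)), Multiplicative.ofAdd (j : ZMod (p ^ r))), ?_⟩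
    show b ^ (i : ZMod (p ^ r)).val * a ^ (j : ZMod (p ^ r)).val = _
    have hz : ∀ (u : G) (z : ℤ), u ^ (z : ZMod (p ^ r)).val = u ^ z := fun u z => by
      rw [← zpow_natCast u, ZMod.val_intCast]
      conv_rhs => rw [← Int.emod_add_mul_ediv z ((p ^ r : ℕ) : ℤ), zpow_add, zpow_mul, zpow_natCast,
        hexp, one_zpow, mul_one]
    rw [hz, hz]
  exact ⟨r, hr0, ⟨(MulEquiv.ofBijective φ ⟨hφi, hφs⟩).symm⟩⟩

/-- For odd `p`, a nonabelian metacyclic `p`-group has an invariant line. -/
theorem exists_line_of_nonabelian (hG : IsPGroup p G) (hp2 : p ≠ 2) (hm : Cfsg.IsMetacyclic G)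
    (hna : ¬ IsMulCommutative G) :
    ∃ L : Subgroup G, frattini G ≤ L ∧ L.index = p ∧ ∀ α : MulAut G, ∀ g ∈ L, α g ∈ L := by
  classical
  have hP : p.Prime := hp.out
  obtain ⟨a, b, hA, hgen⟩ := exists_metacyclic_gens hm
  set D := commutator G with hD
  have hDA : D ≤ zpowers a := by
    have hc : ∀ u v : G ⧸ zpowers a, Commute u v := by
      intro u v
      obtain ⟨g, rfl⟩ := QuotientGroup.mk'_surjective (zpowers a) u
      obtain ⟨h, rfl⟩ := QuotientGroup.mk'_surjective (zpowers a) v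
      obtain ⟨i, j, rfl⟩ := hgen g
      obtain ⟨k, l, rfl⟩ := hgen h
      simp only [map_mul, map_zpow, show QuotientGroup.mk' (zpowers a) a = 1 from
        (QuotientGroup.eq_one_iff a).2 (mem_zpowers a), one_zpow, mul_one]
      exact (Commute.refl _).zpow_zpow i k
    rw [hD, _root_.commutator_def, Subgroup.commutator_le]
    intro u _ v _
    rw [← QuotientGroup.eq_one_iff]
    show QuotientGroup.mk' (zpowers a) ⁅u, v⁆ = 1
    rw [map_commutatorElement, commutatorElement_eq_one_iff_mul_comm]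
    exact hc _ _
  obtain ⟨⟨d, hdD⟩, hdgen⟩ :=
    (isCyclic_of_injective (inclusion hDA) (inclusion_injective hDA)).exists_generator (α := D)
  have hDd : ∀ u ∈ D, u ∈ zpowers d := fun u hu => by
    obtain ⟨i, hi⟩ := mem_zpowers_iff.1 (hdgen ⟨u, hu⟩)
    exact ⟨i, by simpa using congrArg Subtype.val hi⟩
  have hdzD : zpowers d ≤ D := zpowers_le.mpr hdD
  have hd1 : d ≠ 1 := by
    intro h
    refine hna ⟨⟨fun u v => commutatorElement_eq_one_iff_mul_comm.mp ?_⟩⟩
    have := hDd _ (commutator_mem_commutator (mem_top u) (mem_top v))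
    rwa [h, zpowers_one_eq_bot, Subgroup.mem_bot] at this
  have hGtop : IsPGroup p (⊤ : Subgroup G) := hG.to_subgroup ⊤
  have hdc : ∀ g : G, g * d * g⁻¹ * d⁻¹ ∈ zpowers (d ^ p) := fun g =>
    comm_mem_zpowers_pow hGtop (mem_top d) (mem_top g)
      (hDd _ ((inferInstance : (commutator G).Normal).conj_mem d hdD g))
  set M := zpowers (d ^ p) with hM
  have hswapp : ∀ k : ℤ, (d ^ k) ^ p = (d ^ p) ^ k := fun k => by
    rw [← zpow_natCast, ← zpow_mul, mul_comm, zpow_mul, zpow_natCast]
  have hMn : M.Normal := by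
    refine ⟨fun u hu g => ?_⟩
    obtain ⟨i, rfl⟩ := mem_zpowers_iff.1 hu
    rw [← conj_zpow, ← conj_pow]
    obtain ⟨k, hk⟩ := mem_zpowers_iff.1 (hDd _
      ((inferInstance : (commutator G).Normal).conj_mem d hdD g))
    rw [← hk, hswapp]
    exact zpow_mem (zpow_mem (mem_zpowers _) _) _
  have hMchar : ∀ α : MulAut G, ∀ u ∈ M, α u ∈ M := by
    intro α u hu
    obtain ⟨i, rfl⟩ := mem_zpowers_iff.1 hu
    have hαd : α d ∈ D :=
      (Subgroup.characteristic_iff_le_comap.mp (inferInstance : (commutator G).Characteristic) α) hdD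
    obtain ⟨k, hk⟩ := mem_zpowers_iff.1 (hDd _ hαd)
    rw [map_zpow, map_pow, ← hk, hswapp]
    exact zpow_mem (zpow_mem (mem_zpowers _) _) _
  have hdM : d ∉ M := by
    intro h
    obtain ⟨i, hi⟩ := mem_zpowers_iff.1 h
    obtain ⟨e, he⟩ := hG d
    have h1 : d ^ ((p : ℤ) * i - 1) = 1 := by
      rw [zpow_sub, zpow_mul, zpow_natCast, hi, zpow_one, mul_inv_cancel]
    have hcop : IsCoprime ((p : ℤ) ^ e) ((p : ℤ) * i - 1) :=
      ((Nat.prime_iff_prime_int.mp hP).coprime_iff_not_dvd.mpr fun h' => by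
        have h2 : (p : ℤ) ∣ 1 := by simpa using dvd_sub (dvd_mul_right (p : ℤ) i) h'
        exact hP.one_lt.ne' (Nat.dvd_one.1 (Int.natCast_dvd_natCast.1 (by simpa using h2)))).pow_left
    obtain ⟨u, v, huv⟩ := hcop
    refine hd1 ?_
    rw [← zpow_one d, ← huv, zpow_add, mul_comm u, zpow_mul, mul_comm v, zpow_mul, h1, one_zpow,
      mul_one, show ((p : ℤ) ^ e) = ((p ^ e : ℕ) : ℤ) by push_cast; rfl, zpow_natCast, he, one_zpow]
  have hDab : ∀ u v : G ⧸ D, Commute u v := by
    intro u v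
    obtain ⟨g, rfl⟩ := QuotientGroup.mk'_surjective D u
    obtain ⟨h, rfl⟩ := QuotientGroup.mk'_surjective D v
    rw [commute_iff_eq, ← commutatorElement_eq_one_iff_mul_comm, ← map_commutatorElement,
      QuotientGroup.mk'_apply, QuotientGroup.eq_one_iff]
    exact commutator_mem_commutator (mem_top g) (mem_top h)
  have hanc : ¬ IsCyclic G := fun h => hna IsCyclic.isMulCommutative
  have haΦ : a ∉ frattini G := fun h => hanc <| by
    have := isCyclic_of_quotient (G := G) (zpowers a) (h := isCyclic_iff_exists_zpowers_eq_top.mpr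
      ⟨(b : G ⧸ zpowers a), eq_top_iff.2 fun q _ => by
        obtain ⟨g, rfl⟩ := QuotientGroup.mk_surjective q
        obtain ⟨i, j, rfl⟩ := hgen g
        refine ⟨i, ?_⟩
        show (b : G ⧸ zpowers a) ^ i = _
        rw [← QuotientGroup.mk_zpow, QuotientGroup.eq, inv_mul_cancel_left]
        exact zpow_mem (mem_zpowers a) j⟩) (zpowers_le.mpr h)
    exact this
  have hex : ∃ r, ∀ g : G, g ^ p ^ r ∈ D := by
    obtain ⟨m, hm'⟩ := hG.exists_card_eq
    exact ⟨m, fun g => by rw [← hm', pow_card_eq_one']; exact one_mem _⟩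
  set r := Nat.find hex with hr
  have hexp : ∀ g : G, g ^ p ^ r ∈ D := Nat.find_spec hex
  have hr0 : 0 < r := by
    by_contra h0
    have h := hexp a
    rw [show r = 0 by omega, pow_zero, pow_one] at h
    exact haΦ (commutator_le_frattini hG h)
  have hpp : p * p ^ (r - 1) = p ^ r := by rw [← pow_succ']; congr 1; omega
  by_cases hcase : a ^ p ^ (r - 1) ∈ D
  · -- a line from the abelian quotient
    let L : Subgroup G :=
      { carrier := {g | ((g : G ⧸ D)) ^ p ^ (r - 1) = 1}
        one_mem' := by simp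
        mul_mem' := fun {u v} hu hv => by
          show ((u * v : G) : G ⧸ D) ^ _ = 1
          rw [QuotientGroup.mk_mul, (hDab _ _).mul_pow, show (u : G ⧸ D) ^ _ = 1 from hu,
            show (v : G ⧸ D) ^ _ = 1 from hv, one_mul]
        inv_mem' := fun {u} hu => by
          show ((u⁻¹ : G) : G ⧸ D) ^ _ = 1
          rw [QuotientGroup.mk_inv, inv_pow, show (u : G ⧸ D) ^ _ = 1 from hu, inv_one] }
    have hLmem : ∀ g, g ∈ L ↔ g ^ p ^ (r - 1) ∈ D := fun g => by
      show (g : G ⧸ D) ^ _ = 1 ↔ _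
      rw [← QuotientGroup.mk_pow, QuotientGroup.eq_one_iff]
    have hΦL : frattini G ≤ L := frattini_le_of (p := p) L
      (fun u hu => (hLmem u).2 (pow_mem hu _))
      fun g => (hLmem _).2 (by rw [← pow_mul, hpp]; exact hexp g)
    refine ⟨L, hΦL, index_eq_of_between hG hm hΦL (fun h => haΦ (h ((hLmem a).2 hcase))) ?_,
      fun α g hg => (hLmem _).2 ?_⟩
    · intro h
      exact Nat.find_min hex (show r - 1 < r by omega) fun g => (hLmem g).1 (h ▸ mem_top g)
    · rw [← map_pow]
      exact (Subgroup.characteristic_iff_le_comap.mp (inferInstance : (commutator G).Characteristic) α)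
        ((hLmem g).1 hg)
  · -- a line from the class two quotient
    set Q := G ⧸ M
    have hw : (d : Q) ∈ center Q := mem_center_iff.mpr fun q => by
      obtain ⟨g, rfl⟩ := QuotientGroup.mk_surjective q
      rw [← mul_inv_eq_iff_eq_mul, ← mul_inv_eq_one, ← QuotientGroup.mk_mul, ← QuotientGroup.mk_inv,
        ← QuotientGroup.mk_mul, ← QuotientGroup.mk_inv, ← QuotientGroup.mk_mul, QuotientGroup.eq_one_iff]
      exact hdc g
    have hDQ : ∀ u ∈ D, (u : Q) ∈ center Q ∧ (u : Q) ^ p = 1 := fun u hu => by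
      obtain ⟨i, rfl⟩ := mem_zpowers_iff.1 (hDd u hu)
      refine ⟨by rw [QuotientGroup.mk_zpow]; exact zpow_mem hw i, ?_⟩
      rw [← QuotientGroup.mk_pow, QuotientGroup.eq_one_iff, ← zpow_natCast, ← zpow_mul,
        mul_comm, zpow_mul, zpow_natCast]
      exact zpow_mem (mem_zpowers _) i
    have hmul : ∀ u v : Q, (u * v) ^ p ^ r = u ^ p ^ r * v ^ p ^ r := by
      intro u v
      obtain ⟨g, rfl⟩ := QuotientGroup.mk'_surjective M u
      obtain ⟨h, rfl⟩ := QuotientGroup.mk'_surjective M v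
      obtain ⟨hc, hpow⟩ := hDQ ⁅h, g⁆ (commutator_mem_commutator (mem_top h) (mem_top g))
      rw [← QuotientGroup.mk'_apply, map_commutatorElement] at hc hpow
      rw [mul_pow_of_class_two hc]
      obtain ⟨c, hc'⟩ : p ∣ (p ^ r).choose 2 :=
        hP.dvd_choose_pow two_ne_zero (by
          intro h2
          have h3 : p ≤ 2 := h2 ▸ Nat.le_self_pow hr0.ne' p
          exact hp2 (le_antisymm h3 hP.two_le))
      rw [hc', pow_mul, hpow, one_pow, mul_one]
    let φ : G →* Q :=
      { toFun := fun g => (g : Q) ^ p ^ r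
        map_one' := by simp
        map_mul' := fun u v => by
          show ((u * v : G) : Q) ^ _ = _
          rw [QuotientGroup.mk_mul]; exact hmul _ _ }
    have hφker : ∀ g, g ∈ φ.ker ↔ g ^ p ^ r ∈ M := fun g => by
      rw [MonoidHom.mem_ker]
      show (g : Q) ^ _ = 1 ↔ _
      rw [← QuotientGroup.mk_pow, QuotientGroup.eq_one_iff]
    have hpM : ∀ u ∈ D, u ^ p ∈ M := fun u hu => by
      have := (hDQ u hu).2
      rwa [← QuotientGroup.mk_pow, QuotientGroup.eq_one_iff] at this
    have hΦL : frattini G ≤ φ.ker := frattini_le_of (p := p) _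
      (fun u hu => (hφker u).2 (by rw [← hpp, pow_mul]; exact pow_mem (hpM u hu) _))
      fun g => (hφker _).2 (by rw [← pow_mul, mul_comm, pow_mul]; exact hpM _ (hexp g))
    have hle : φ.ker.index ≤ p := by
      rw [index_ker]
      have hsub : φ.range ≤ zpowers (d : Q) := by
        rintro _ ⟨g, rfl⟩
        obtain ⟨i, hi⟩ := mem_zpowers_iff.1 (hDd _ (hexp g))
        refine ⟨i, ?_⟩
        show (d : Q) ^ i = (g : Q) ^ p ^ r
        rw [← QuotientGroup.mk_zpow, hi, QuotientGroup.mk_pow]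
      refine (card_le_of_le hsub).trans ?_
      rw [Nat.card_zpowers]
      exact Nat.le_of_dvd hP.pos (orderOf_dvd_of_pow_eq_one (hDQ d hdD).2)
    have htop : φ.ker ≠ ⊤ := by
      intro h
      apply hdM
      obtain ⟨k, hk⟩ := mem_zpowers_iff.1 (hDA hdD)
      have hdvd : (p : ℤ) ^ r ∣ k := by
        have hord : orderOf (a : G ⧸ D) = p ^ r := by
          obtain ⟨q, hq⟩ : ∃ q, r = q + 1 := ⟨r - 1, by omega⟩
          rw [hq]
          refine orderOf_eq_prime_pow ?_ ?_
          · rw [← QuotientGroup.mk_pow, QuotientGroup.eq_one_iff]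
            rwa [hq, Nat.add_sub_cancel] at hcase
          · rw [← QuotientGroup.mk_pow, QuotientGroup.eq_one_iff, ← hq]
            exact hexp a
        have h2 : (a : G ⧸ D) ^ k = 1 := by
          rw [← QuotientGroup.mk_zpow, hk, QuotientGroup.eq_one_iff]; exact hdD
        have h3 := orderOf_dvd_iff_zpow_eq_one.2 h2
        rw [hord] at h3
        exact_mod_cast h3
      obtain ⟨w, rfl⟩ := hdvd
      rw [← hk, show ((p : ℤ) ^ r) = ((p ^ r : ℕ) : ℤ) by push_cast; rfl, zpow_mul, zpow_natCast]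
      exact zpow_mem ((hφker a).1 (h ▸ mem_top a)) w
    refine ⟨φ.ker, hΦL, le_antisymm hle ?_, fun α g hg => (hφker _).2 ?_⟩
    · have := le_relIndex_of_lt hG (H := φ.ker) (K := ⊤) fun h => htop (top_le_iff.1 h)
      rwa [relIndex_top_right] at this
    · rw [← map_pow]; exact hMchar α _ ((hφker g).1 hg)

/-- A metacyclic 2-group with an automorphism of odd order is homocyclic or quaternion of order 8. -/
theorem two_cases (hG : IsPGroup 2 G) (hm : Cfsg.IsMetacyclic G) (hA : ¬ IsPGroup 2 (MulAut G)) :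
    (∃ n : ℕ, 0 < n ∧ Nonempty (G ≃* Multiplicative (ZMod (2 ^ n)) × Multiplicative (ZMod (2 ^ n)))) ∨
      Nonempty (G ≃* QuaternionGroup 2) := by
  have : Fact (Nat.Prime 2) := ⟨Nat.prime_two⟩
  by_cases hab : IsMulCommutative G
  · obtain ⟨α, T, g₀, hg₀⟩ := exists_triAuto hG hm hA
    have hline : ∀ L : Subgroup G, frattini G ≤ L → ¬ L ≤ frattini G → L ≠ ⊤ →
        ¬ ∀ g ∈ L, α g ∈ L := by
      intro L _ hne htop hinv
      obtain ⟨g, hg, hgΦ⟩ := SetLike.not_le_iff_exists.1 hne
      refine htop (top_le_iff.1 ?_)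
      rw [← T.gen g hgΦ, closure_le]
      rintro u (rfl | rfl)
      · exact hg
      · exact hinv g hg
    have hnc : ¬ IsCyclic G := by
      intro hc
      obtain ⟨k, hk⟩ := hc.exists_generator
      have hαk : α k = k := fixed_of_cyclic (k := k) hG α T.cube (hk (α k))
      by_cases hkΦ : k ∈ frattini G
      · exact hg₀ (zpowers_le.mpr hkΦ (hk g₀))
      · exact T.moves k hkΦ (by rw [hαk, inv_mul_cancel]; exact one_mem _)
    rcases line_or_homocyclic hG hm hab hnc with ⟨L, hΦL, hLi, hinv⟩ | h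
    · exfalso
      refine hline L hΦL (fun hle => hnc ?_) (fun h => ?_) (hinv α)
      · have : IsCyclic (G ⧸ frattini G) := by
          refine isCyclic_of_card_pow_le (p := 2) (k := 1) ?_ le_rfl
          rw [pow_one, ← hLi, le_antisymm hle hΦL]
          rfl
        exact isCyclic_of_quotient (frattini G) le_rfl
      · rw [h, index_top] at hLi
        exact absurd hLi (by norm_num)
    · exact .inl h
  right
  rcases auto_cases hG hm hA with ⟨h, -, -⟩ | ⟨h, -⟩ | ⟨k, k', hk, hinv, hsq, hgen⟩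
  · exact absurd h hab
  · exact absurd h hab
  have hk4 : k ^ (2 * 2) = 1 := by have := pow_orderOf_eq_one k; rwa [hk] at this
  have hns : k' ∉ zpowers k := by
    intro h
    have hle : closure ({k, k'} : Set G) ≤ zpowers k := by
      rw [closure_le]
      rintro u (rfl | rfl)
      · exact mem_zpowers u
      · exact h
    rw [hgen] at hle
    have : IsCyclic G := isCyclic_iff_exists_zpowers_eq_top.mpr ⟨k, top_le_iff.1 hle⟩
    exact hab IsCyclic.isMulCommutative
  refine quaternion_of_relations 2 k k' (by rw [hk]) (by rw [hsq, sq]) hinv hns fun g => ?_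
  have hg : g ∈ closure ({k, k'} : Set G) := hgen ▸ mem_top g
  rw [← mem_toSubmonoid, closure_toSubmonoid_of_finite] at hg
  have hswap : ∀ i : ℕ, k ^ i * k' = k' * k ^ (3 * i) := by
    have h1 : k * k' = k' * k ^ 3 := by
      have h2 : k⁻¹ = k ^ 3 := inv_eq_of_mul_eq_one_right (by rw [← pow_succ']; exact hk4)
      have h3 : k'⁻¹ * k * k' = k⁻¹ := by
        calc k'⁻¹ * k * k' = k'⁻¹ * (k' * k * k'⁻¹)⁻¹ * k' := by rw [hinv, inv_inv]
          _ = k⁻¹ := by group
      rw [← h2, ← h3]; group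
    intro i
    induction i with
    | zero => simp
    | succ i ih => rw [pow_succ, mul_assoc, h1, ← mul_assoc, ih, mul_assoc, ← pow_add,
        show 3 * i + 3 = 3 * (i + 1) by ring]
  induction hg using Submonoid.closure_induction with
  | mem u hu =>
    rcases hu with rfl | rfl
    · exact ⟨1, .inl (pow_one _).symm⟩
    · exact ⟨0, .inr (by simp)⟩
  | one => exact ⟨0, .inl (pow_zero _).symm⟩
  | mul u v _ _ hu hv =>
    obtain ⟨i, rfl | rfl⟩ := hu <;> obtain ⟨j, rfl | rfl⟩ := hv
    · exact ⟨i + j, .inl (pow_add _ _ _).symm⟩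
    · exact ⟨3 * i + j, .inr (by rw [← mul_assoc, hswap, mul_assoc, ← pow_add])⟩
    · exact ⟨i + j, .inr (by rw [mul_assoc, ← pow_add])⟩
    · refine ⟨2 + (3 * i + j), .inl ?_⟩
      rw [mul_assoc, ← mul_assoc (k ^ i), hswap, mul_assoc k', ← mul_assoc k' k', hsq, ← sq,
        ← pow_add, ← pow_add]

end Cfsg.Agent.H24
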