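import Cfsg.Agent.H24.MaxClassReflect
import Cfsg.Agent.H27.SmallDegree

/-!
A self-centralizing elementary abelian subgroup of order `p ^ 3` in a finite `p`-group: either its normalizer
has order at most `p ^ 4` or it holds a transvection with centre fixed by the normalizer. For groups of maximal
class the normalizer then contains `lcw (n - 3)`.
-/

set_option autoImplicit false

namespace Cfsg.Agent.H24

open Subgroup
open scoped commutatorElement

variable {G : Type*} [Group G] {p : ℕ} [hp : Fact p.Prime]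

/-- A nontrivial normal subgroup of a finite `p`-group quotient has a central element. -/
theorem exists_central_mod [Finite G] (hG : IsPGroup p G) {A B : Subgroup G} [A.Normal] [B.Normal]
    (h : ¬ B ≤ A) : ∃ b ∈ B, b ∉ A ∧ ∀ g : G, ⁅g, b⁆ ∈ A := by
  let π := QuotientGroup.mk' A
  have : (B.map π).Normal := Normal.map ‹_› π (QuotientGroup.mk'_surjective A)
  have hne : B.map π ≠ ⊥ := fun e => h (by
    rw [Subgroup.map_eq_bot_iff, QuotientGroup.ker_mk'] at e; exact e)
  obtain ⟨x, hx, hx1⟩ := (bot_or_exists_ne_one (B.map π ⊓ center (G ⧸ A))).resolve_left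
    (H27.inf_center_ne_bot (hG.to_quotient A) _ hne)
  obtain ⟨⟨b, hb, rfl⟩, hc⟩ := mem_inf.1 hx
  refine ⟨b, hb, fun hbA => hx1 ((QuotientGroup.eq_one_iff b).2 hbA), fun g => ?_⟩
  rw [← QuotientGroup.eq_one_iff]
  show π ⁅g, b⁆ = 1
  rw [map_commutatorElement, commutatorElement_eq_one_iff_mul_comm]
  exact mem_center_iff.1 hc _

/-- The same for a subgroup `M` normalizing both. -/
theorem exists_central_mod_in [Finite G] (hG : IsPGroup p G) {A B M : Subgroup G}
    (hBM : B ≤ M) (hA : M ≤ normalizer (A : Set G)) (hB : M ≤ normalizer (B : Set G)) (h : ¬ B ≤ A) :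
    ∃ b ∈ B, b ∉ A ∧ ∀ g ∈ M, ⁅g, b⁆ ∈ A := by
  have : (A.subgroupOf M).Normal := normal_subgroupOf_of_le_normalizer hA
  have : (B.subgroupOf M).Normal := normal_subgroupOf_of_le_normalizer hB
  obtain ⟨b, hb, hbA, hc⟩ := exists_central_mod (hG.to_subgroup M) (A := A.subgroupOf M)
    (B := B.subgroupOf M) fun hle => h fun x hx => hle (x := ⟨x, hBM hx⟩) hx
  exact ⟨b, hb, hbA, fun g hg => hc ⟨g, hg⟩⟩

/-- Coordinates over a subgroup of prime relative index. -/
theorem exists_pow_of_relIndex [Finite G] {A B : Subgroup G} (hAB : A ≤ B)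
    (hn : B ≤ normalizer (A : Set G)) (h : A.relIndex B = p) {e : G} (he : e ∈ B) (heA : e ∉ A) {g : G}
    (hg : g ∈ B) : ∃ a : ℕ, (e ^ a)⁻¹ * g ∈ A := by
  have : (A.subgroupOf B).Normal := normal_subgroupOf_of_le_normalizer hn
  exact exists_pow_mul_mem (p := p) (N := A.subgroupOf B) (M := ⊤) le_top
    (by rw [Subgroup.card_top, ← (A.subgroupOf B).card_mul_index, mul_comm]; exact congrArg (· * _) h)
    (e := (⟨e, he⟩ : B)) (mem_top _) heA (g := ⟨g, hg⟩) (mem_top _)

/-- A `p`-group acts trivially on an invariant section of order `p`. -/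
theorem comm_mem_of_relIndex_prime [Finite G] (hG : IsPGroup p G) {A B M : Subgroup G} (hAB : A ≤ B)
    (hBM : B ≤ M) (hA : M ≤ normalizer (A : Set G)) (hB : M ≤ normalizer (B : Set G))
    (h : A.relIndex B = p) {g b : G} (hg : g ∈ M) (hb : b ∈ B) : ⁅g, b⁆ ∈ A := by
  obtain ⟨e, he, heA, hc⟩ := exists_central_mod_in hG hBM hA hB fun hle =>
    hp.out.ne_one (by rw [← h, relIndex_eq_one.2 hle])
  obtain ⟨a, ha⟩ := exists_pow_of_relIndex hAB ((hBM).trans hA) h he heA hb
  have h1 : ∀ k : ℕ, ⁅g, e ^ k⁆ ∈ A := by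
    intro k
    induction k with
    | zero => simp
    | succ k ih =>
      rw [show ⁅g, e ^ (k + 1)⁆ = ⁅g, e ^ k⁆ * (e ^ k * ⁅g, e⁆ * (e ^ k)⁻¹) by
        rw [pow_succ]; simp [commutatorElement_def, mul_assoc]]
      exact mul_mem ih ((mem_normalizer_iff.1 (hA (pow_mem (hBM he) k)) _).1 (hc g hg))
  rw [show b = e ^ a * ((e ^ a)⁻¹ * b) by rw [mul_inv_cancel_left]]
  generalize (e ^ a)⁻¹ * b = d at ha
  rw [show ⁅g, e ^ a * d⁆ = ⁅g, e ^ a⁆ * (e ^ a * ⁅g, d⁆ * (e ^ a)⁻¹) by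
    simp [commutatorElement_def, mul_assoc]]
  refine mul_mem (h1 a) ((mem_normalizer_iff.1 (hA (pow_mem (hBM he) a)) _).1 ?_)
  rw [commutatorElement_def]
  exact mul_mem ((mem_normalizer_iff.1 (hA hg) _).1 ha) (inv_mem ha)

/-- Distinct subgroups of order `p ^ 3` inside one of order `p ^ 4` meet in order `p ^ 2`. -/
theorem card_inf_of_four [Finite G] (hG : IsPGroup p G) {A B N : Subgroup G} (hAN : A ≤ N) (hBN : B ≤ N)
    (hA : Nat.card A = p ^ 3) (hB : Nat.card B = p ^ 3) (hN : Nat.card N = p ^ 4) (hne : A ≠ B) :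
    Nat.card (A ⊓ B : Subgroup G) = p ^ 2 := by
  have h1 := card_mul_relIndex hBN
  rw [hB, hN, show p ^ 4 = p ^ 3 * p by ring] at h1
  have h1' : B.relIndex N = p := Nat.eq_of_mul_eq_mul_left (pow_pos hp.out.pos 3) h1
  have h2 := card_mul_relIndex (inf_le_left : A ⊓ B ≤ A)
  rw [inf_relIndex_left, hA] at h2
  have h3 : B.relIndex A ≤ p := h1' ▸ relIndex_le_of_le_right hAN (by rw [h1']; exact hp.out.ne_zero)
  obtain ⟨j, hj, hj'⟩ := (Nat.dvd_prime_pow hp.out).1 (Dvd.intro_left _ h2 : B.relIndex A ∣ p ^ 3)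
  have hj1 : j ≤ 1 := (Nat.pow_le_pow_iff_right hp.out.one_lt).1 (by rw [← hj', pow_one]; exact h3)
  have hj0 : j ≠ 0 := fun e => hne (by
    rw [e, pow_zero, relIndex_eq_one] at hj'
    exact Subgroup.eq_of_le_of_card_ge hj' (by rw [hA, hB]))
  rw [hj', show j = 1 by omega, pow_one, show p ^ 3 = p ^ 2 * p by ring] at h2
  exact Nat.eq_of_mul_eq_mul_right hp.out.pos h2

/-- Either the normalizer is small or it holds a transvection whose centre it fixes. -/
theorem exists_fixed_transvection [Finite G] (hG : IsPGroup p G) {E : Subgroup G} (hE : Nat.card E = p ^ 3)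
    (hab : IsMulCommutative E) (hCE : centralizer (E : Set G) ≤ E) :
    Nat.card (normalizer (E : Set G)) ≤ p ^ 4 ∨
      ∃ t ∈ normalizer (E : Set G), t ∉ E ∧ ∃ z ∈ E, (∀ x ∈ E, ∃ i : ℤ, t * x * t⁻¹ = x * z ^ i) ∧
        ∀ g ∈ normalizer (E : Set G), g * z * g⁻¹ = z := by
  set N := normalizer (E : Set G) with hN
  have hcm : ∀ {a b : G}, a ∈ E → b ∈ E → a * b = b * a := fun ha hb =>
    congrArg Subtype.val (hab.is_comm.comm ⟨_, ha⟩ ⟨_, hb⟩)
  have hcE : center G ≤ E := (center_le_centralizer _).trans hCE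
  have : Nontrivial G := by
    by_contra h
    rw [not_nontrivial_iff_subsingleton] at h
    rw [Nat.card_of_subsingleton (1 : E)] at hE
    exact (Nat.one_lt_pow (by omega) hp.out.one_lt).ne hE
  have := hG.center_nontrivial
  obtain ⟨c, hc⟩ := exists_prime_orderOf_dvd_card' (G := center G) p (by
    obtain ⟨k, hk, hk'⟩ := (hG.to_subgroup (center G)).nontrivial_iff_card.1 inferInstance
    rw [hk']; exact dvd_pow_self p hk.ne')
  set Z := zpowers (c : G) with hZ
  have hZcard : Nat.card Z = p := by rw [hZ, Nat.card_zpowers, Subgroup.orderOf_coe, hc]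
  have hZc : Z ≤ center G := zpowers_le.2 c.2
  have hnZ : ∀ {H : Subgroup G}, H ≤ normalizer (Z : Set G) := fun {H} =>
    le_trans le_top (by
      have : Z.Normal := normal_of_le_center hZc
      rw [Subgroup.normalizer_eq_top])
  have hEZ : ¬ E ≤ Z := fun h => by
    have := Subgroup.card_le_of_le h
    rw [hE, hZcard] at this
    exact (lt_self_pow₀ hp.out.one_lt (by omega)).not_ge this
  obtain ⟨b, hb, hbZ, hbc⟩ := exists_central_mod_in hG le_normalizer hnZ le_rfl hEZ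
  -- the kernel of `g ↦ [g, b]`
  let θ : ↥N →* ↥Z := MonoidHom.mk' (fun g => ⟨⁅(g : G), b⁆, hbc g g.2⟩) fun g h => by
    refine Subtype.ext ?_
    show ⁅(g : G) * h, b⁆ = ⁅(g : G), b⁆ * ⁅(h : G), b⁆
    rw [show ⁅(g : G) * h, b⁆ = (g : G) * ⁅(h : G), b⁆ * (g : G)⁻¹ * ⁅(g : G), b⁆ by
      simp [commutatorElement_def, mul_assoc],
      mem_center_iff.1 (hZc (hbc h h.2)) (g : G), mul_inv_cancel_right]
    exact mem_center_iff.1 (hZc (hbc g g.2)) _
  have hker : ∀ g : ↥N, g ∈ θ.ker → (g : G) * b * (g : G)⁻¹ = b := fun g hg => by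
    have h1 : ⁅(g : G), b⁆ = 1 := congrArg Subtype.val hg
    rwa [commutatorElement_def, mul_inv_eq_one] at h1
  by_cases hK : θ.ker ≤ E.subgroupOf N
  · left
    have h1 := Subgroup.card_le_of_le hK
    rw [Nat.card_congr (subgroupOfEquivOfLe le_normalizer).toEquiv, hE] at h1
    have h2 : Nat.card θ.range ≤ p := hZcard ▸ Nat.card_le_card_of_injective _ Subtype.val_injective
    rw [← index_ker] at h2
    calc Nat.card N = Nat.card θ.ker * θ.ker.index := θ.ker.card_mul_index.symm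
      _ ≤ p ^ 3 * p := Nat.mul_le_mul h1 h2
      _ = p ^ 4 := by ring
  right
  obtain ⟨⟨t, htN⟩, htK, htE, htc⟩ := exists_central_mod (hG.to_subgroup N) (A := E.subgroupOf N)
    (B := θ.ker) hK
  replace htE : t ∉ E := htE
  have htb : t * b * t⁻¹ = b := hker _ htK
  -- the subgroup `B`
  set B := Z ⊔ zpowers b with hB
  have hBE : B ≤ E := sup_le (hZc.trans hcE) (zpowers_le.2 hb)
  have hBt : ∀ x ∈ B, t * x * t⁻¹ = x := by
    suffices B ≤ centralizer ({t} : Set G) from fun x hx => by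
      rw [← mem_centralizer_singleton_iff.1 (this hx), mul_inv_cancel_right]
    refine sup_le (hZc.trans (center_le_centralizer _)) (zpowers_le.2 ?_)
    rw [mem_centralizer_singleton_iff]
    exact (mul_inv_eq_iff_eq_mul.1 htb).symm
  have hBn : N ≤ normalizer (B : Set G) := by
    refine fun g hg => mem_normalizer_iff.2 fun x => ?_
    have key : ∀ g ∈ N, B ≤ B.comap (MulAut.conj g).toMonoidHom := fun g hg => by
      refine sup_le (fun x hx => ?_) (zpowers_le.2 ?_)
      · show g * x * g⁻¹ ∈ B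
        rw [mem_center_iff.1 (hZc hx) g, mul_inv_cancel_right]
        exact mem_sup_left hx
      · show g * b * g⁻¹ ∈ B
        rw [show g * b * g⁻¹ = ⁅g, b⁆ * b by simp [commutatorElement_def, mul_assoc]]
        exact mul_mem (mem_sup_left (hbc g hg)) (mem_sup_right (mem_zpowers b))
    exact ⟨fun hx => key g hg hx, fun hx => by simpa [mul_assoc] using key g⁻¹ (inv_mem hg) hx⟩
  obtain ⟨m, hm, hmB⟩ : ∃ m ∈ E, m ∉ B := by
    by_contra h
    push Not at h
    exact htE (hCE (mem_centralizer_iff.2 fun x hx => (mul_inv_eq_iff_eq_mul.1 (hBt x (h x hx))).symm))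
  have hBrel : B.relIndex E = p := by
    have h1 := card_mul_relIndex hBE
    rw [hE] at h1
    obtain ⟨i, hi, hi'⟩ := (Nat.dvd_prime_pow hp.out).1 (Dvd.intro_left _ h1 : B.relIndex E ∣ p ^ 3)
    obtain ⟨j, hj, hj'⟩ := (Nat.dvd_prime_pow hp.out).1 (Dvd.intro _ h1 : Nat.card B ∣ p ^ 3)
    rw [hi', hj', ← pow_add] at h1
    have h2 := Nat.pow_right_injective hp.out.two_le h1
    have hi0 : i ≠ 0 := fun e => hmB (by
      rw [e, pow_zero, relIndex_eq_one] at hi'; exact hi' hm)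
    have hj1 : 1 < j := by
      by_contra hj1
      have h3 : B ≤ Z := by
        rw [Subgroup.eq_of_le_of_card_ge (le_sup_left : Z ≤ B)
          (by rw [hZcard, hj']; exact (Nat.pow_le_pow_right hp.out.pos (not_lt.1 hj1)).trans (pow_one p).le)]
      exact hbZ (h3 (mem_sup_right (mem_zpowers b)))
    rw [hi', show i = 1 by omega, pow_one]
  obtain ⟨z, hz⟩ : ∃ z, z = m⁻¹ * (t * m * t⁻¹) := ⟨_, rfl⟩
  have htm : t * m * t⁻¹ = m * z := by rw [hz, mul_inv_cancel_left]
  have hzB : z ∈ B := by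
    have h1 := comm_mem_of_relIndex_prime hG hBE le_normalizer hBn le_rfl hBrel htN hm
    rw [hz, show m⁻¹ * (t * m * t⁻¹) = m⁻¹ * (⁅t, m⁆ * m) by simp [commutatorElement_def, mul_assoc],
      hcm (hBE h1) hm, inv_mul_cancel_left]
    exact h1
  refine ⟨t, htN, htE, z, hBE hzB, fun x hx => ?_, fun g hg => ?_⟩
  · obtain ⟨a, ha⟩ := exists_pow_of_relIndex hBE (le_normalizer.trans hBn) hBrel hm hmB hx
    refine ⟨a, ?_⟩
    obtain ⟨d, hd, rfl⟩ : ∃ d ∈ B, x = m ^ a * d := ⟨_, ha, (mul_inv_cancel_left _ _).symm⟩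
    rw [show t * (m ^ a * d) * t⁻¹ = (t * m * t⁻¹) ^ a * (t * d * t⁻¹) by
      rw [conj_pow]; simp [mul_assoc], htm, hBt d hd, (show Commute m z from hcm hm (hBE hzB)).mul_pow,
      zpow_natCast, mul_assoc, mul_assoc, hcm (pow_mem (hBE hzB) a) (hBE hd)]
  · obtain ⟨e, he, hte⟩ : ∃ e ∈ E, g * t * g⁻¹ = e * t :=
      ⟨_, htc ⟨g, hg⟩, by simp [commutatorElement_def, mul_assoc]⟩
    obtain ⟨d, hd, hmd⟩ : ∃ d ∈ B, g * m * g⁻¹ = d * m :=
      ⟨_, comm_mem_of_relIndex_prime hG hBE le_normalizer hBn le_rfl hBrel hg hm,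
        by simp [commutatorElement_def, mul_assoc]⟩
    have h1 : t * (d * m) * t⁻¹ = d * m * z := by
      rw [show t * (d * m) * t⁻¹ = t * d * t⁻¹ * (t * m * t⁻¹) by simp [mul_assoc], hBt d hd, htm,
        mul_assoc]
    rw [hz, show g * (m⁻¹ * (t * m * t⁻¹)) * g⁻¹ =
      (g * m * g⁻¹)⁻¹ * (g * t * g⁻¹ * (g * m * g⁻¹) * (g * t * g⁻¹)⁻¹) by simp [mul_assoc],
      hte, hmd, show e * t * (d * m) * (e * t)⁻¹ = e * (t * (d * m) * t⁻¹) * e⁻¹ by simp [mul_assoc],
      h1, hcm he (mul_mem (mul_mem (hBE hd) hm) (hBE hzB)), mul_inv_cancel_right, inv_mul_cancel_left]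
    exact hz

end Cfsg.Agent.H24
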