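import Cfsg.Agent.H24.ResistantMetacyclic

/-!
The rank two groups `G(p, n; ε)`: structure and the weights of their automorphisms.
-/

namespace Cfsg.Agent.H24

open Subgroup

variable {G : Type*} [Group G] [Finite G] {p n s : ℕ} [hp : Fact p.Prime] {x y z : G}

/-- `u⁻¹ h⁻¹ u h`. -/
def dOp (h u : G) : G := u⁻¹ * (h⁻¹ * u * h)

/-- The presentation of `G(p, n; ε)`. -/
structure GFam (p n s : ℕ) (x y z : G) : Prop where
  four : 4 ≤ n
  card : Nat.card G = p ^ n
  s_ne : (s : ZMod p) ≠ 0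
  gen : closure ({x, y, z} : Set G) = ⊤
  x_pow : x ^ p = 1
  y_pow : y ^ p = 1
  z_pow : z ^ p ^ (n - 2) = 1
  comm : y * z = z * y
  conj_y : x⁻¹ * y * x = y * z ^ (s * p ^ (n - 3))
  conj_z : x⁻¹ * z * x = y * z

variable (H : GFam p n s x y z)
include H

theorem GFam.isP : IsPGroup p G := IsPGroup.of_card H.card

theorem GFam.pow_top : (z ^ p ^ (n - 3)) ^ p = 1 := by
  have := H.four
  rw [← pow_mul, ← pow_succ, show n - 3 + 1 = n - 2 by omega, H.z_pow]

omit [Finite G] in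
theorem GFam.y_pow_top : y ^ p ^ (n - 3) = 1 := by
  have := H.four
  rw [show n - 3 = (n - 4) + 1 by omega, pow_succ', pow_mul, H.y_pow, one_pow]

/-- The elements `y ^ i * z ^ j`, forming the abelian maximal subgroup. -/
theorem GFam.exists_form {u : G} (hu : u ∈ closure ({y, z} : Set G)) :
    ∃ i j : ℕ, u = y ^ i * z ^ j := by
  rw [← mem_toSubmonoid, closure_toSubmonoid_of_finite] at hu
  induction hu using Submonoid.closure_induction with
  | mem a ha =>
    rcases ha with rfl | rfl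
    · exact ⟨1, 0, by simp⟩
    · exact ⟨0, 1, by simp⟩
  | one => exact ⟨0, 0, by simp⟩
  | mul a b _ _ ha hb =>
    obtain ⟨i, j, rfl⟩ := ha
    obtain ⟨k, l, rfl⟩ := hb
    refine ⟨i + k, j + l, ?_⟩
    rw [pow_add, pow_add, mul_assoc, ← mul_assoc (z ^ j),
      ← ((show Commute y z from H.comm).pow_pow k j).eq]
    simp [mul_assoc]

omit [Finite G] hp in
theorem GFam.mem_T (i j : ℕ) : y ^ i * z ^ j ∈ closure ({y, z} : Set G) :=
  mul_mem (pow_mem (subset_closure (by simp)) i) (pow_mem (subset_closure (by simp)) j)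

theorem GFam.commute_T {u v : G} (hu : u ∈ closure ({y, z} : Set G))
    (hv : v ∈ closure ({y, z} : Set G)) : Commute u v := by
  obtain ⟨i, j, rfl⟩ := H.exists_form hu
  obtain ⟨k, l, rfl⟩ := H.exists_form hv
  have hc : Commute y z := H.comm
  exact ((((Commute.refl y).pow_pow i k).mul_right (hc.pow_pow i l))).mul_left
    ((hc.symm.pow_pow j k).mul_right ((Commute.refl z).pow_pow j l))

/-- Conjugation by powers of `x`. -/
theorem GFam.conj_pow_x (a : ℕ) :
    (x ^ a)⁻¹ * y * x ^ a = y * (z ^ p ^ (n - 3)) ^ (s * a) ∧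
      ∃ e : ℕ, (x ^ a)⁻¹ * z * x ^ a = y ^ a * z * (z ^ p ^ (n - 3)) ^ e := by
  have hc : Commute y z := H.comm
  set w := z ^ p ^ (n - 3) with hw
  have hwx : x⁻¹ * w * x = w := by
    rw [hw, show x⁻¹ * z ^ p ^ (n - 3) * x = (x⁻¹ * z * x) ^ p ^ (n - 3) by
        simpa using (conj_pow (a := x⁻¹) (b := z) (i := p ^ (n - 3))).symm,
      H.conj_z, hc.mul_pow, H.y_pow_top, one_mul]
  have hσ : ∀ u v : G, x⁻¹ * (u * v) * x = x⁻¹ * u * x * (x⁻¹ * v * x) := fun u v => by group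
  have hσp : ∀ (u : G) (k : ℕ), x⁻¹ * u ^ k * x = (x⁻¹ * u * x) ^ k := fun u k => by
    simpa using (conj_pow (a := x⁻¹) (b := u) (i := k)).symm
  have hyw : Commute y w := hc.pow_right _
  have hy : x⁻¹ * y * x = y * w ^ s := by rw [H.conj_y, hw, ← pow_mul, mul_comm s]
  induction a with
  | zero => exact ⟨by simp, 0, by simp⟩
  | succ a ih =>
    obtain ⟨ih1, e, ih2⟩ := ih
    have hstep : ∀ u : G, (x ^ (a + 1))⁻¹ * u * x ^ (a + 1) = x⁻¹ * ((x ^ a)⁻¹ * u * x ^ a) * x :=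
      fun u => by rw [pow_succ]; group
    refine ⟨?_, s * a + e, ?_⟩
    · rw [hstep, ih1, hσ, hy, hσp, hwx, mul_assoc, ← pow_add, Nat.mul_succ, add_comm]
    · rw [hstep, ih2, hσ, hσ, hσp, hy, H.conj_z, hσp, hwx, (hyw.pow_right s).mul_pow, ← pow_mul,
        pow_succ, pow_add]
      calc y ^ a * w ^ (s * a) * (y * z) * w ^ e
          = y ^ a * (w ^ (s * a) * y) * z * w ^ e := by simp [mul_assoc]
        _ = y ^ a * (y * w ^ (s * a)) * z * w ^ e := by rw [(hyw.pow_right _).eq]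
        _ = y ^ a * y * (w ^ (s * a) * z) * w ^ e := by simp [mul_assoc]
        _ = y ^ a * y * (z * w ^ (s * a)) * w ^ e := by
          rw [(((Commute.refl z).pow_right (p ^ (n - 3))).pow_right _).eq]
        _ = _ := by simp [mul_assoc]

/-- `dOp` for a power of `x`. -/
theorem GFam.dOp_pow (a : ℕ) : ∃ e : ℕ, ∀ i j : ℕ,
    dOp (x ^ a) (y ^ i * z ^ j) = y ^ (a * j) * (z ^ p ^ (n - 3)) ^ (s * a * i + e * j) := by
  obtain ⟨h1, e, h2⟩ := H.conj_pow_x a
  refine ⟨e, fun i j => ?_⟩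
  have hc : Commute y z := H.comm
  set w := z ^ p ^ (n - 3) with hw
  have hyw : Commute y w := hc.pow_right _
  have hzw : Commute z w := (Commute.refl z).pow_right _
  have e1 : (x ^ a)⁻¹ * (y ^ i * z ^ j) * x ^ a =
      ((x ^ a)⁻¹ * y * x ^ a) ^ i * ((x ^ a)⁻¹ * z * x ^ a) ^ j := by
    have := conj_pow (a := (x ^ a)⁻¹) (b := y) (i := i)
    have := conj_pow (a := (x ^ a)⁻¹) (b := z) (i := j)
    simp_all [mul_assoc]
  rw [dOp, e1, h1, h2, (hyw.pow_right _).mul_pow,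
    (((hyw.pow_left a).mul_left hzw).pow_right e).mul_pow, (hc.pow_left a).mul_pow,
    ← pow_mul w, ← pow_mul y, ← pow_mul w, mul_inv_rev]
  calc (z ^ j)⁻¹ * (y ^ i)⁻¹ * (y ^ i * w ^ (s * a * i) * (y ^ (a * j) * z ^ j * w ^ (e * j)))
      = (z ^ j)⁻¹ * (w ^ (s * a * i) * y ^ (a * j)) * z ^ j * w ^ (e * j) := by simp [mul_assoc]
    _ = (z ^ j)⁻¹ * (y ^ (a * j) * w ^ (s * a * i)) * z ^ j * w ^ (e * j) := by
      rw [(hyw.pow_pow _ _).eq]
    _ = (z ^ j)⁻¹ * (z ^ j * (y ^ (a * j) * w ^ (s * a * i))) * w ^ (e * j) := by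
      rw [((hc.symm.pow_pow j (a * j)).mul_right (hzw.pow_pow j _)).eq]; simp [mul_assoc]
    _ = _ := by rw [inv_mul_cancel_left, mul_assoc, ← pow_add]

/-- `dOp` only depends on the `x`-part. -/
theorem GFam.dOp_mul (a : ℕ) {t u : G} (ht : t ∈ closure ({y, z} : Set G))
    (hu : u ∈ closure ({y, z} : Set G)) : dOp (x ^ a * t) u = dOp (x ^ a) u := by
  obtain ⟨i, j, rfl⟩ := H.exists_form hu
  obtain ⟨e, he⟩ := H.dOp_pow a
  have hv : (x ^ a)⁻¹ * (y ^ i * z ^ j) * x ^ a ∈ closure ({y, z} : Set G) := by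
    have := mul_mem (H.mem_T i j) (show dOp (x ^ a) (y ^ i * z ^ j) ∈ closure ({y, z} : Set G) by
      rw [he]; rw [← pow_mul z]; exact H.mem_T _ _)
    simpa only [dOp, mul_inv_cancel_left] using this
  simp only [dOp, mul_inv_rev]
  congr 1
  calc t⁻¹ * (x ^ a)⁻¹ * (y ^ i * z ^ j) * (x ^ a * t)
      = t⁻¹ * (((x ^ a)⁻¹ * (y ^ i * z ^ j) * x ^ a) * t) := by simp [mul_assoc]
    _ = _ := by rw [(H.commute_T hv ht).eq, inv_mul_cancel_left]

theorem GFam.exists_decomp (g : G) :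
    ∃ a : ℕ, ∃ t ∈ closure ({y, z} : Set G), g = x ^ a * t := by
  have hg : g ∈ closure ({x, y, z} : Set G) := H.gen ▸ mem_top g
  rw [← mem_toSubmonoid, closure_toSubmonoid_of_finite] at hg
  induction hg using Submonoid.closure_induction with
  | mem a ha =>
    rcases ha with rfl | ha
    · exact ⟨1, 1, one_mem _, by simp⟩
    · exact ⟨0, a, subset_closure ha, by simp⟩
  | one => exact ⟨0, 1, one_mem _, by simp⟩
  | mul g h _ _ hg hh =>
    obtain ⟨a, t, ht, rfl⟩ := hg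
    obtain ⟨b, u, hu, rfl⟩ := hh
    obtain ⟨i, j, rfl⟩ := H.exists_form ht
    obtain ⟨e, he⟩ := H.dOp_pow b
    refine ⟨a + b, y ^ i * z ^ j * dOp (x ^ b) (y ^ i * z ^ j) * u,
      mul_mem (mul_mem (H.mem_T i j) ?_) hu, ?_⟩
    · rw [he, ← pow_mul z]; exact H.mem_T _ _
    · rw [pow_add]; simp [dOp, mul_assoc]

theorem GFam.orderOf_z : orderOf z = p ^ (n - 2) := by
  have hP : p.Prime := hp.out
  have hn := H.four
  obtain ⟨k, hk, hk'⟩ := (Nat.dvd_prime_pow hP).1 (orderOf_dvd_of_pow_eq_one H.z_pow)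
  rw [hk']
  by_contra hne
  have hlt : k < n - 2 := lt_of_le_of_ne hk fun h => hne (by rw [h])
  have hz : 0 < orderOf z := orderOf_pos z
  let f : Fin p × Fin p × Fin (orderOf z) → G := fun q =>
    x ^ (q.1 : ℕ) * (y ^ (q.2.1 : ℕ) * z ^ (q.2.2 : ℕ))
  have hsurj : Function.Surjective f := by
    intro g
    obtain ⟨a, t, ht, rfl⟩ := H.exists_decomp g
    obtain ⟨i, j, rfl⟩ := H.exists_form ht
    refine ⟨(⟨a % p, Nat.mod_lt _ hP.pos⟩, ⟨i % p, Nat.mod_lt _ hP.pos⟩,
      ⟨j % orderOf z, Nat.mod_lt _ hz⟩), ?_⟩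
    show x ^ (a % p) * (y ^ (i % p) * z ^ (j % orderOf z)) = _
    rw [← pow_eq_pow_mod a H.x_pow, ← pow_eq_pow_mod i H.y_pow, pow_mod_orderOf]
  have h := Nat.card_le_card_of_surjective f hsurj
  rw [H.card, Nat.card_prod, Nat.card_prod, Nat.card_fin, Nat.card_fin, hk', ← mul_assoc,
    ← pow_two, ← pow_add, Nat.pow_le_pow_iff_right hP.one_lt] at h
  omega

theorem GFam.w_ne : z ^ p ^ (n - 3) ≠ 1 := by
  have hn := H.four
  intro h
  have := orderOf_dvd_of_pow_eq_one h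
  rw [H.orderOf_z, Nat.pow_dvd_pow_iff_le_right hp.out.one_lt] at this
  omega

/-- Equal powers of `z ^ p ^ (n - 3)` have congruent exponents. -/
theorem GFam.w_pow_inj {u v : ℕ} (h : (z ^ p ^ (n - 3)) ^ u = (z ^ p ^ (n - 3)) ^ v) :
    (u : ZMod p) = v := by
  have h' := (pow_eq_pow_iff_modEq (x := z ^ p ^ (n - 3))).1 h
  rw [orderOf_eq_prime H.pow_top H.w_ne] at h'
  exact (ZMod.natCast_eq_natCast_iff _ _ _).2 h'

theorem GFam.x_pow_eq_one {a : ℕ} (h : (a : ZMod p) = 0) : x ^ a = 1 := by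
  rw [pow_eq_pow_of_cast H.x_pow (h.trans Nat.cast_zero.symm), pow_zero]

/-- The centralizer of `y`. -/
theorem GFam.centralizer_y : centralizer ({y} : Set G) = closure ({y, z} : Set G) := by
  refine le_antisymm (fun g hg => ?_) fun g hg =>
    mem_centralizer_singleton_iff.mpr (H.commute_T hg (subset_closure (by simp))).eq
  obtain ⟨a, t, ht, rfl⟩ := H.exists_decomp g
  have hgy := mem_centralizer_singleton_iff.mp hg
  obtain ⟨e, he⟩ := H.dOp_pow a
  have h1 : dOp (x ^ a * t) y = 1 := by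
    rw [dOp, mul_assoc _ y, ← hgy]
    group
  have h2 := he 1 0
  rw [pow_one, pow_zero, mul_one] at h2
  rw [H.dOp_mul a ht (subset_closure (by simp)), h2, mul_zero, mul_zero, add_zero, pow_zero,
    one_mul, mul_one] at h1
  have h3 := H.w_pow_inj (h1.trans (pow_zero _).symm)
  rw [Nat.cast_zero, Nat.cast_mul, mul_eq_zero, or_iff_right H.s_ne] at h3
  rw [H.x_pow_eq_one h3, one_mul]
  exact ht

theorem GFam.normal_T : (closure ({y, z} : Set G)).Normal := by
  refine ⟨fun u hu g => ?_⟩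
  obtain ⟨a, t, ht, he⟩ := H.exists_decomp g⁻¹
  obtain ⟨i, j, rfl⟩ := H.exists_form hu
  obtain ⟨e, hd⟩ := H.dOp_pow a
  have : g * (y ^ i * z ^ j) * g⁻¹ = y ^ i * z ^ j * dOp (x ^ a * t) (y ^ i * z ^ j) := by
    rw [← he]; simp [dOp, mul_assoc]
  rw [this, H.dOp_mul a ht hu, hd, ← pow_mul z]
  exact mul_mem (H.mem_T i j) (H.mem_T _ _)

/-- `z ^ p` is central. -/
theorem GFam.zp_central : z ^ p ∈ center G := by
  have hc : Commute y z := H.comm
  have h : closure ({x, y, z} : Set G) ≤ centralizer ({z ^ p} : Set G) := by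
    rw [closure_le]
    rintro g (rfl | rfl | rfl)
    · refine mem_centralizer_singleton_iff.mpr ?_
      have h1 : g⁻¹ * z ^ p * g = z ^ p := by
        rw [show g⁻¹ * z ^ p * g = (g⁻¹ * z * g) ^ p by
          simpa using (conj_pow (a := g⁻¹) (b := z) (i := p)).symm,
          H.conj_z, hc.mul_pow, H.y_pow, one_mul]
      calc g * z ^ p = g * (g⁻¹ * z ^ p * g) := by rw [h1]
        _ = z ^ p * g := by simp [mul_assoc]
    · exact mem_centralizer_singleton_iff.mpr (hc.pow_right p).eq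
    · exact mem_centralizer_singleton_iff.mpr ((Commute.refl _).pow_right p).eq
  rw [H.gen] at h
  exact mem_center_iff.mpr fun g => mem_centralizer_singleton_iff.mp (h (mem_top g))

theorem GFam.w_mem_zp : z ^ p ^ (n - 3) ∈ zpowers (z ^ p) := by
  have := H.four
  rw [show n - 3 = n - 4 + 1 by omega, pow_succ', pow_mul]
  exact pow_mem (mem_zpowers _) _

/-- Conjugation moves `y` inside `⟨z ^ p ^ (n - 3)⟩`. -/
theorem GFam.dOp_y_mem (g : G) : dOp g y ∈ zpowers (z ^ p ^ (n - 3)) := by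
  obtain ⟨a, t, ht, rfl⟩ := H.exists_decomp g
  obtain ⟨e, he⟩ := H.dOp_pow a
  have h := he 1 0
  rw [pow_one, pow_zero, mul_one, mul_zero, pow_zero, one_mul] at h
  rw [H.dOp_mul a ht (subset_closure (by simp)), h]
  exact pow_mem (mem_zpowers _) _

/-- The elements of the maximal subgroup `⟨y, z ^ p⟩` commuting with some `h ∉ T` are central. -/
theorem GFam.mem_zp_of_commute {h : G} (hh : h ∉ closure ({y, z} : Set G)) {i j : ℕ} (hj : p ∣ j)
    (hc : Commute h (y ^ i * z ^ j)) : y ^ i * z ^ j ∈ zpowers (z ^ p) := by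
  obtain ⟨a, t, ht, rfl⟩ := H.exists_decomp h
  obtain ⟨m, rfl⟩ := hj
  obtain ⟨e, he⟩ := H.dOp_pow a
  have h1 : dOp (x ^ a * t) (y ^ i * z ^ (p * m)) = 1 := by
    rw [dOp, mul_assoc _ (y ^ i * z ^ (p * m)), ← hc.eq]
    group
  rw [H.dOp_mul a ht (H.mem_T _ _), he, show a * (p * m) = p * (a * m) by ring, pow_mul y,
    H.y_pow, one_pow, one_mul] at h1
  have h2 := H.w_pow_inj (h1.trans (pow_zero _).symm)
  push_cast at h2
  rw [ZMod.natCast_self, zero_mul, mul_zero, add_zero, mul_eq_zero, mul_eq_zero,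
    or_iff_right H.s_ne] at h2
  rcases h2 with h2 | h2
  · exact absurd (by rw [H.x_pow_eq_one h2, one_mul]; exact ht) hh
  · rw [pow_eq_pow_of_cast H.y_pow (h2.trans Nat.cast_zero.symm), pow_zero, one_mul, pow_mul]
    exact pow_mem (mem_zpowers _) _

/-- Every automorphism acts on a complement to the abelian maximal subgroup by a sign. -/
theorem GFam.weight (ψ : MulAut G) {h : G} (hh : h ∉ closure ({y, z} : Set G)) {l : ℕ}
    (hl : (h ^ l)⁻¹ * ψ h ∈ closure ({y, z} : Set G)) : (l : ZMod p) * l = 1 := by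
  set T := closure ({y, z} : Set G) with hT
  have hn : T.Normal := H.normal_T
  -- `ψ` preserves `T`
  have hyc : ∀ u ∈ T, ψ u ∈ T := by
    have hψy : ψ y ∈ T := by
      obtain ⟨e, hd⟩ := H.dOp_pow 1
      have h1 := hd 0 1
      rw [pow_one, pow_zero, one_mul, pow_one, one_mul, mul_zero, zero_add, mul_one] at h1
      have h2 : y = dOp x z * ((z ^ p ^ (n - 3)) ^ e)⁻¹ := by rw [h1]; simp
      have hdT : ∀ a b : G, b ∈ T → dOp a b ∈ T := fun a b hb => by
        have := mul_mem (inv_mem hb) (hn.conj_mem b hb a⁻¹)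
        simpa [dOp] using this
      have hcom : ∀ a b : G, dOp a b ∈ T := by
        intro a b
        obtain ⟨i, t, ht, rfl⟩ := H.exists_decomp b
        obtain ⟨j, u, hu, rfl⟩ := H.exists_decomp a
        have hxu : dOp (x ^ j * u) (x ^ i) ∈ T := by
          have := mul_mem (hn.conj_mem u⁻¹ (inv_mem hu) (x ^ i)⁻¹) hu
          have e : dOp (x ^ j * u) (x ^ i) = (x ^ i)⁻¹ * u⁻¹ * (x ^ i)⁻¹⁻¹ * u := by
            simp only [dOp, mul_inv_rev, inv_inv]
            rw [show (x ^ i)⁻¹ * (u⁻¹ * (x ^ j)⁻¹ * x ^ i * (x ^ j * u)) =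
              (x ^ i)⁻¹ * u⁻¹ * ((x ^ j)⁻¹ * (x ^ i * x ^ j)) * u by simp [mul_assoc],
              ← pow_mul_comm x j i, inv_mul_cancel_left]
          rw [e]; exact this
        have e : dOp (x ^ j * u) (x ^ i * t) =
            t⁻¹ * dOp (x ^ j * u) (x ^ i) * t * dOp (x ^ j * u) t := by
          simp [dOp, mul_assoc]
        rw [e]
        refine mul_mem ?_ (hdT _ _ ht)
        have := hn.conj_mem _ hxu t⁻¹
        simpa using this
      rw [h2, map_mul, map_inv, map_pow, map_pow]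
      refine mul_mem ?_ (inv_mem (pow_mem ?_ _))
      · have : ψ (dOp x z) = dOp (ψ x) (ψ z) := by simp [dOp]
        rw [this]; exact hcom _ _
      · obtain ⟨i, t, ht, hi⟩ := H.exists_decomp (ψ z)
        have h3 : (ψ z) ^ p ∈ T := by
          have hq := map_pow (QuotientGroup.mk' T) (ψ z) p
          rw [← QuotientGroup.eq_one_iff]
          show QuotientGroup.mk' T _ = 1
          rw [hq, hi, map_mul, show QuotientGroup.mk' T t = 1 from (QuotientGroup.eq_one_iff _).2 ht,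
            mul_one, ← map_pow, ← pow_mul, mul_comm, pow_mul, H.x_pow, one_pow, map_one]
        have hn4 := H.four
        rw [show n - 3 = n - 4 + 1 by omega, pow_succ', pow_mul]
        exact pow_mem h3 _
    have hle : T ≤ T.map ψ.toMonoidHom := by
      intro u hu
      obtain ⟨v, rfl⟩ := ψ.surjective u
      refine ⟨v, ?_, rfl⟩
      show v ∈ T
      rw [hT, ← H.centralizer_y]
      refine mem_centralizer_singleton_iff.mpr (ψ.injective ?_)
      rw [map_mul, map_mul]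
      exact (H.commute_T hu hψy).eq
    intro u hu
    have := (eq_of_le_of_card_ge hle (card_map_of_injective (f := ψ.toMonoidHom) ψ.injective).le).ge
      (mem_map_of_mem ψ.toMonoidHom hu)
    exact this
  obtain ⟨a, t, ht, rfl⟩ := H.exists_decomp h
  have ha : (a : ZMod p) ≠ 0 := fun h0 => hh (by rw [H.x_pow_eq_one h0, one_mul]; exact ht)
  obtain ⟨t', ht', hψh⟩ : ∃ t' ∈ T, ψ (x ^ a * t) = x ^ (a * l) * t' := by
    refine ⟨(x ^ (a * l))⁻¹ * ψ (x ^ a * t), ?_, by rw [mul_inv_cancel_left]⟩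
    rw [← QuotientGroup.eq] at hl ⊢
    rw [← hl, QuotientGroup.mk_pow, QuotientGroup.mk_pow, QuotientGroup.mk_mul,
      (QuotientGroup.eq_one_iff t).2 ht, mul_one, QuotientGroup.mk_pow, pow_mul]
  have hdd : ∀ (b : ℕ) (t : G), t ∈ T → ∀ u ∈ T,
      dOp (x ^ b * t) (dOp (x ^ b * t) u) = u ^ (p ^ (n - 3) * (s * b * b)) := by
    intro b t ht u hu
    obtain ⟨i, j, rfl⟩ := H.exists_form hu
    obtain ⟨e, he⟩ := H.dOp_pow b
    rw [H.dOp_mul b ht hu, he, ← pow_mul z, H.dOp_mul b ht (H.mem_T _ _), he,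
      (show Commute y z from H.comm).pow_pow i j |>.mul_pow, ← pow_mul y, ← pow_mul z,
      show i * (p ^ (n - 3) * (s * b * b)) = p ^ (n - 3) * (i * (s * b * b)) by ring,
      show b * (p ^ (n - 3) * (s * b * i + e * j)) = p ^ (n - 3) * (b * (s * b * i + e * j)) by ring]
    have hyP : ∀ k : ℕ, y ^ (p ^ (n - 3) * k) = 1 := fun k => by
      rw [pow_mul, H.y_pow_top, one_pow]
    simp only [hyP, one_mul]
    rw [← pow_mul z j, show j * (p ^ (n - 3) * (s * b * b)) = p ^ (n - 3) * (s * b * (b * j)) by ring,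
      pow_mul z, pow_mul z]
    refine pow_eq_pow_of_cast H.pow_top ?_
    push_cast
    have hn4 := H.four
    rw [show ((p : ZMod p)) ^ (n - 3) = 0 by
      rw [ZMod.natCast_self, zero_pow (by omega)]]
    ring
  have hzT : z ∈ T := subset_closure (by simp)
  have key : ψ (dOp (x ^ a * t) (dOp (x ^ a * t) z)) =
      dOp (ψ (x ^ a * t)) (dOp (ψ (x ^ a * t)) (ψ z)) := by simp [dOp]
  rw [hψh, hdd a t ht z hzT, hdd (a * l) t' ht' _ (hyc z hzT), ← map_pow] at key
  have key' := ψ.injective key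
  have h3 := H.w_pow_inj (u := s * a * a) (v := s * (a * l) * (a * l))
    (by rw [← pow_mul, ← pow_mul]; exact key')
  push_cast at h3
  have hsa : (s : ZMod p) * a * a ≠ 0 := mul_ne_zero (mul_ne_zero H.s_ne ha) ha
  have : (s : ZMod p) * a * a * (l * l) = s * a * a * 1 := by linear_combination -h3
  exact mul_left_cancel₀ hsa this

end Cfsg.Agent.H24
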