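import Cfsg.Agent.H24.SupersolubleType
import Cfsg.Agent.H24.HomocyclicFail

/-!
A repeated invariant gives automorphisms obstructing supersolubility.
-/

set_option autoImplicit false

namespace Cfsg.Agent.H24

open Subgroup

/-- An abelian group with a factor `M × M` has a saturated system without a cyclic chain. -/
theorem not_forall_chain_of_square {Ω : Type*} [Group Ω] {S : Subgroup Ω} [Finite S] {p : ℕ}
    [Fact p.Prime] (hS : IsPGroup p S) {M H : Type*} [CommGroup M] [Finite M] [CommGroup H]
    (u : M) (hu : u ≠ 1) (hu2 : p ≠ 2 → u ^ 2 ≠ 1) (e : S ≃* (M × M) × H) :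
    ¬ ∀ F : FusionSystem S, F.IsSaturated p → HasCyclicChain F := by
  have hP : p.Prime := Fact.out
  intro h
  let L : MulAut (M × M) →* MulAut ((M × M) × H) :=
    { toFun := fun α =>
        { toFun := fun v => (α v.1, v.2)
          invFun := fun v => (α.symm v.1, v.2)
          left_inv := fun v => by simp
          right_inv := fun v => by simp
          map_mul' := fun v w => by simp }
      map_one' := rfl
      map_mul' := fun α β => rfl }
  have hLi : Function.Injective L := fun α β hαβ => MulEquiv.ext fun v =>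
    congrArg Prod.fst (congrArg (fun γ : MulAut ((M × M) × H) => γ (v, 1)) hαβ :)
  let Φ : MulAut (M × M) →* MulAut S := (MulAut.congr e.symm).toMonoidHom.comp L
  have hΦi : Function.Injective Φ := (MulAut.congr e.symm).injective.comp hLi
  rcases hP.eq_two_or_odd' with rfl | hodd
  · let r : MulAut (M × M) :=
      { toFun := fun q => (q.2⁻¹, q.1 * q.2⁻¹)
        invFun := fun q => (q.2 * q.1⁻¹, q.1⁻¹)
        left_inv := fun q => by ext <;> simp
        right_inv := fun q => by ext <;> simp
        map_mul' := fun q q' => by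
          ext <;> simp [mul_comm, mul_left_comm, mul_assoc] }
    have hr3 : r ^ 3 = 1 := by
      refine MulEquiv.ext fun q => ?_
      simp only [pow_succ, pow_zero, one_mul, MulAut.mul_apply, MulAut.one_apply]
      ext <;> simp [r, mul_comm, mul_left_comm]
    obtain ⟨-, hexp⟩ := pprime_auts_of_forall_chain hS h ((zpowers r).map Φ) (by
      rw [card_map_of_injective hΦi, Nat.card_zpowers]
      exact Nat.Coprime.coprime_dvd_left (orderOf_dvd_of_pow_eq_one hr3) (by norm_num))
    have h1 := hexp _ (mem_map_of_mem Φ (mem_zpowers r))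
    rw [show 2 - 1 = 1 from rfl, pow_one, ← map_one Φ] at h1
    have h2 := congrArg (fun γ : MulAut (M × M) => (γ (u, 1)).2) (hΦi h1)
    simp [r] at h2
    exact hu h2
  · have hA : IsPGroup 2 (signedPerms M) := fun α =>
      ⟨2, Subtype.ext (by rw [Subgroup.coe_pow]; exact signedPerms_pow_four α.2)⟩
    have hp2 : p ≠ 2 := fun h2 => by rw [h2] at hodd; exact (by decide : ¬ Odd 2) hodd
    obtain ⟨k, hk⟩ := IsPGroup.iff_card.1 hA
    obtain ⟨hcomm, -⟩ := pprime_auts_of_forall_chain hS h ((signedPerms M).map Φ) (by
      rw [card_map_of_injective hΦi, hk]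
      exact Nat.Coprime.pow_left k ((Nat.coprime_primes Nat.prime_two hP).2 hp2.symm))
    let σ : MulAut (M × M) := MulEquiv.prodComm
    let τ : MulAut (M × M) :=
      { toFun := fun q => (q.1, q.2⁻¹)
        invFun := fun q => (q.1, q.2⁻¹)
        left_inv := fun q => by simp
        right_inv := fun q => by simp
        map_mul' := fun q q' => by ext <;> simp [mul_comm] }
    have hσ : σ ∈ signedPerms M := ⟨1, 1, one_pow 2, one_pow 2, Or.inr fun q => by
      simp [σ, MulEquiv.coe_prodComm, Prod.swap]⟩
    have hτ : τ ∈ signedPerms M := ⟨1, -1, one_pow 2, by norm_num, Or.inl fun q => by simp [τ]⟩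
    have h1 := congrArg Subtype.val
      (hcomm.is_comm.comm ⟨_, mem_map_of_mem Φ hσ⟩ ⟨_, mem_map_of_mem Φ hτ⟩)
    simp only [Subgroup.coe_mul, ← map_mul] at h1
    have h2 := congrArg (fun γ : MulAut (M × M) => (γ (u, 1)).2) (hΦi h1)
    simp [σ, τ, MulEquiv.coe_prodComm, Prod.swap] at h2
    apply hu2 hp2
    rw [pow_two]
    exact mul_eq_one_iff_eq_inv.2 h2

end Cfsg.Agent.H24
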