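import Cfsg.Agent.H24.RankTwoG

/-!
Blackburn's rank two groups have no proper centric radical subgroups when `p ≥ 5`.
-/

namespace Cfsg.Agent.H24

open Subgroup
open H93
open scoped commutatorElement

/-- The derived subgroup lies in a normal subgroup containing the commutators of generators. -/
theorem commutator_le_of_gens {G : Type*} [Group G] {s : Set G} (hs : closure s = ⊤) (N : Subgroup G)
    [N.Normal] (h : ∀ a ∈ s, ∀ b ∈ s, Commute (a : G ⧸ N) b) : commutator G ≤ N := by
  have hle : ∀ a ∈ s, ∀ u : G, Commute (a : G ⧸ N) u := by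
    intro a ha u
    have hu : u ∈ closure s := hs ▸ mem_top u
    induction hu using Subgroup.closure_induction with
    | mem b hb => exact h a ha b hb
    | one => exact Commute.one_right _
    | mul b c _ _ hb hc => exact hb.mul_right hc
    | inv b _ hb => exact hb.inv_right
  have hall : ∀ u v : G, Commute (u : G ⧸ N) v := by
    intro u v
    have hu : u ∈ closure s := hs ▸ mem_top u
    induction hu using Subgroup.closure_induction with
    | mem b hb => exact hle b hb v
    | one => exact Commute.one_left _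
    | mul b c _ _ hb hc => exact hb.mul_left hc
    | inv b _ hb => exact hb.inv_left
  rw [_root_.commutator_def, Subgroup.commutator_le]
  intro u _ v _
  rw [← QuotientGroup.eq_one_iff]
  show QuotientGroup.mk' N ⁅u, v⁆ = 1
  rw [map_commutatorElement, commutatorElement_eq_one_iff_mul_comm]
  exact hall u v

variable {Ω : Type*} [Group Ω] {S : Subgroup Ω} [Finite S] {F : FusionSystem S} {p : ℕ}
  [hp : Fact p.Prime] {E : Subgroup Ω}

/-- A candidate contains the centre. -/
theorem Cand.center_le (hE : Cand F p E) {u : S} (hu : u ∈ center S) : (u : Ω) ∈ E :=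
  hE.mem_of_centralizes u.2 fun x hx => by
    have : (x : Ω) * u = u * x := congrArg Subtype.val (mem_center_iff.mp hu ⟨x, hE.le hx⟩)
    rw [← this, mul_inv_cancel_right]

/-- If all commutators are `p`-th powers of elements of `E`, then `E` is the whole group. -/
theorem Cand.eq_of_comm_le (hS : IsPGroup p S) (hE : Cand F p E) {z : Ω} (hz : z ∈ E)
    (h : ∀ g ∈ S, ∀ x ∈ S, g * x * g⁻¹ * x⁻¹ ∈ zpowers (z ^ p)) : E = S := by
  refine le_antisymm hE.le fun g hg => ?_
  have := finite_of_le hE.le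
  have hn : g ∈ Subgroup.normalizer (E : Set Ω) := H94.mem_normalizer_of_forall_conj_mem fun x hx => by
    have := E.mul_mem (zpowers_le.mpr (E.pow_mem hz p) (h g hg x (hE.le hx))) hx
    simpa using this
  exact hE.mem_of_frattini hS ⟨hg, hn⟩ fun x =>
    mem_frattini_of_zpowers (hS.to_le hE.le) hz (h g hg x (hE.le x.2))

variable {n s : ℕ} {X Y Z : S}

/-- A candidate containing the second generator of `G(p, n; ε)` is the whole group. -/
theorem Cand.eq_of_GFam_mem (hS : IsPGroup p S) (hF : F.IsSaturated p) (hp5 : 5 ≤ p)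
    (H : GFam p n s X Y Z) (hE : Cand F p E) (hY : (Y : Ω) ∈ E) : E = S := by
  by_contra hne
  have hES := hE.le
  have := finite_of_le hES
  have hEp := hS.to_le hES
  have hP : p.Prime := hp.out
  have hn4 := H.four
  set T : Subgroup S := closure ({Y, Z} : Set S) with hT
  have hTn : T.Normal := H.normal_T
  set E' := E.subgroupOf S with hE'
  have hc : Commute Y Z := H.comm
  have hZp : Z ^ p ∈ E' := hE.center_le H.zp_central
  have hw : Z ^ p ^ (n - 3) ∈ E' := zpowers_le.mpr hZp H.w_mem_zp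
  have hdX : ∀ i j : ℕ, ∃ e f : ℕ, dOp X (Y ^ i * Z ^ j) = Y ^ j * (Z ^ p ^ (n - 3)) ^ (s * i + e * j) ∧
      f = e := by
    obtain ⟨e, he⟩ := H.dOp_pow 1
    exact fun i j => ⟨e, e, by have := he i j; rwa [pow_one, one_mul, mul_one] at this, rfl⟩
  have hcomm : commutator S ≤ E' := by
    let M : Subgroup S := closure ({Y, Z ^ p} : Set S)
    have hME : M ≤ E' := (closure_le E').mpr (by
      rintro a (rfl | rfl)
      · exact hY
      · exact hZp)
    have hwM : Z ^ p ^ (n - 3) ∈ M := zpowers_le.mpr (subset_closure (by simp)) H.w_mem_zp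
    have hMn : M.Normal := by
      have hle : ∀ g : S, M ≤ M.comap (MulAut.conj g).toMonoidHom := fun g => by
        rw [closure_le]
        rintro a (rfl | rfl)
        · show g * a * g⁻¹ ∈ M
          rw [show g * a * g⁻¹ = a * dOp g⁻¹ a by simp [dOp, mul_assoc]]
          exact mul_mem (subset_closure (by simp)) (zpowers_le.mpr hwM (H.dOp_y_mem _))
        · show g * Z ^ p * g⁻¹ ∈ M
          rw [(mem_center_iff.mp H.zp_central g), mul_inv_cancel_right]
          exact subset_closure (by simp)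
      exact ⟨fun a ha g => hle g ha⟩
    refine le_trans (commutator_le_of_gens H.gen M ?_) hME
    have hq : ∀ a b : S, a⁻¹ * (b⁻¹ * a * b) ∈ M → Commute (a : S ⧸ M) b := fun a b hab => by
      rw [commute_iff_eq, ← QuotientGroup.mk_mul, ← QuotientGroup.mk_mul, eq_comm, QuotientGroup.eq]
      simpa [mul_assoc] using hab
    have hXY : Commute (Y : S ⧸ M) X := hq _ _ (zpowers_le.mpr hwM (H.dOp_y_mem X))
    have hXZ : Commute (Z : S ⧸ M) X := hq _ _ (by
      obtain ⟨e, -, he, -⟩ := hdX 0 1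
      rw [pow_zero, one_mul, pow_one, pow_one] at he
      show dOp X Z ∈ M
      rw [he]
      exact mul_mem (subset_closure (by simp)) (pow_mem hwM _))
    have hYZ : Commute (Y : S ⧸ M) Z := hc.map (QuotientGroup.mk' M)
    rintro a (rfl | rfl | rfl) b (rfl | rfl | rfl)
    exacts [Commute.refl _, hXY.symm, hXZ.symm, hXY, Commute.refl _, hYZ, hXZ, hYZ.symm,
      Commute.refl _]
  have hE'n : E'.Normal := Subgroup.Normal.of_commutator_le S hcomm
  have hnorm : ∀ g : S, (g : Ω) ∈ FusionSystem.normalizerIn S E := fun g =>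
    ⟨g.2, H94.mem_normalizer_of_forall_conj_mem fun r hr => hE'n.conj_mem ⟨r, hES hr⟩ hr g⟩
  have hact : ∀ (g : S) (u : E), ((conjAut S E ⟨(g : Ω), hnorm g⟩ u * u⁻¹ : E) : Ω) =
      ((g * ⟨(u : Ω), hES u.2⟩ * g⁻¹ * (⟨(u : Ω), hES u.2⟩ : S)⁻¹ : S) : Ω) := fun g u => rfl
  have hof : ∀ u : E, (⟨(u : Ω), hES u.2⟩ : S) ∈ E' := fun u => u.2
  by_cases hET : E' ≤ T
  · -- `E` is the abelian maximal subgroup
    have hTE : T ≤ E' := fun t ht => hE.mem_of_centralizes t.2 fun u hu => by
      have := (H.commute_T ht (hET (show (⟨u, hES hu⟩ : S) ∈ E' from hu))).eq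
      have h' : (t : Ω) * u = u * t := congrArg Subtype.val this
      show (t : Ω) * u * (t : Ω)⁻¹ = u
      rw [h', mul_inv_cancel_right]
    have hEc : ∀ u v : E, Commute u v := fun u v =>
      Subtype.ext (show (u : Ω) * v = v * u from
        congrArg Subtype.val (H.commute_T (hET (hof u)) (hET (hof v))).eq)
    let L : Subgroup E :=
      { carrier := {u | u ^ p ^ (n - 3) = 1}
        one_mem' := one_pow _
        mul_mem' := fun {a b} ha hb => by
          show (a * b) ^ _ = 1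
          rw [(hEc a b).mul_pow, show a ^ _ = 1 from ha, show b ^ _ = 1 from hb, one_mul]
        inv_mem' := fun {a} ha => by
          show a⁻¹ ^ _ = 1
          rw [inv_pow, show a ^ _ = 1 from ha, inv_one] }
    have hexp : ∀ u : E, (u ^ p) ^ p ^ (n - 3) = 1 := fun u => by
      obtain ⟨i, j, hij⟩ := H.exists_form (hET (hof u))
      have : ((⟨(u : Ω), hES u.2⟩ : S) ^ p) ^ p ^ (n - 3) = 1 := by
        rw [hij, ← pow_mul, ← pow_succ', show n - 3 + 1 = n - 2 by omega,
          (hc.pow_pow i j).mul_pow, pow_right_comm, pow_right_comm Z, H.z_pow,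
          show n - 2 = n - 3 + 1 by omega, pow_succ, pow_mul, H.y_pow_top]
        simp
      exact Subtype.ext (by simpa using congrArg (Subtype.val : S → Ω) this)
    have hΦL : frattini E ≤ L := by
      refine frattini_le_of (p := p) L ?_ hexp
      rw [_root_.commutator_def, Subgroup.commutator_le]
      intro u _ v _
      rw [commutatorElement_eq_one_iff_mul_comm.mpr (hEc u v).eq]
      exact L.one_mem
    have hXinv : ∀ u : E, ∃ i j e : ℕ, (⟨(u : Ω), hES u.2⟩ : S) = Y ^ i * Z ^ j ∧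
        ((conjAut S E ⟨((X⁻¹ : S) : Ω), hnorm X⁻¹⟩ u * u⁻¹ : E) : Ω) =
          ((Y ^ j * (Z ^ p ^ (n - 3)) ^ (s * i + e * j) : S) : Ω) := by
      intro u
      obtain ⟨i, j, hij⟩ := H.exists_form (hET (hof u))
      obtain ⟨e, -, he, -⟩ := hdX i j
      refine ⟨i, j, e, hij, ?_⟩
      rw [hact, hij, inv_inv, ← he]
      congr 1
      have hcv : Commute (X⁻¹ * (Y ^ i * Z ^ j) * X) (Y ^ i * Z ^ j) :=
        H.commute_T (by simpa using hTn.conj_mem _ (H.mem_T i j) X⁻¹) (H.mem_T i j)
      exact hcv.inv_right.eq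
    have hwp : ∀ k : ℕ, ((Z ^ p ^ (n - 3)) ^ k) ^ p ^ (n - 3) = 1 := fun k => by
      rw [← pow_mul, show n - 3 = n - 4 + 1 by omega, pow_succ' p, ← mul_assoc, mul_comm k p,
        mul_assoc, pow_mul, ← pow_succ', show n - 4 + 1 = n - 3 by omega, H.pow_top, one_pow]
    have hXE := hE.mem_of_line hS L hΦL
      (fun α _ u hu => show (α u) ^ p ^ (n - 3) = 1 by
        rw [← map_pow, show u ^ p ^ (n - 3) = 1 from hu, map_one])
      (hnorm X⁻¹) (fun u => ?_) (fun u hu => ?_)
    · -- `x` lies in the abelian maximal subgroup: impossible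
      have hXT : X ∈ T := by
        have := T.inv_mem (hET (show X⁻¹ ∈ E' from hXE))
        simpa using this
      rw [hT, ← H.centralizer_y] at hXT
      have h1 := mem_centralizer_singleton_iff.mp hXT
      have h2 := H.conj_y
      rw [mul_assoc, ← h1, inv_mul_cancel_left, left_eq_mul, mul_comm, pow_mul] at h2
      have h3 := H.w_pow_inj (h2.trans (pow_zero _).symm)
      exact H.s_ne (h3.trans Nat.cast_zero)
    · obtain ⟨i, j, e, -, he⟩ := hXinv u
      have h1 : (Y ^ j * (Z ^ p ^ (n - 3)) ^ (s * i + e * j)) ^ p ^ (n - 3) = 1 := by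
        rw [((hc.pow_left j).pow_right _ |>.pow_right _).mul_pow, hwp, mul_one, pow_right_comm,
          H.y_pow_top, one_pow]
      refine Subtype.ext ?_
      rw [Subgroup.coe_pow, he, ← Subgroup.coe_pow, h1]
      rfl
    · obtain ⟨i, j, e, hij, he⟩ := hXinv u
      have hu' : (Y ^ i * Z ^ j : S) ^ p ^ (n - 3) = 1 := by
        rw [← hij]
        exact Subtype.ext (by
          simpa using congrArg (Subtype.val : E → Ω) (show u ^ p ^ (n - 3) = 1 from hu))
      rw [(hc.pow_pow i j).mul_pow, pow_right_comm, H.y_pow_top, one_pow, one_mul, pow_right_comm]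
        at hu'
      have hj := H.w_pow_inj (hu'.trans (pow_zero _).symm)
      rw [pow_eq_pow_of_cast H.y_pow (v := 0) hj, pow_zero, one_mul] at he
      have hZE : ((Z ^ p ^ (n - 4) : S) : Ω) ∈ E := hTE (pow_mem (subset_closure (by simp)) _)
      refine mem_frattini_of_zpowers hEp hZE ?_
      rw [he, ← Subgroup.coe_pow, ← pow_mul, ← pow_succ, show n - 4 + 1 = n - 3 by omega,
        Subgroup.coe_pow]
      exact pow_mem (mem_zpowers _) _
  -- an element outside the abelian maximal subgroup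
  obtain ⟨h, hhE, hhT⟩ := SetLike.not_le_iff_exists.mp hET
  have hpj : ∀ i j : ℕ, Y ^ i * Z ^ j ∈ E' → p ∣ j := by
    intro i j hij
    by_contra hj
    have hZj : Z ^ j ∈ E' := by
      have := mul_mem (inv_mem (pow_mem (show Y ∈ E' from hY) i)) hij
      rwa [inv_mul_cancel_left] at this
    have hZE : Z ∈ E' := by
      have hco : Nat.Coprime p j := hP.coprime_iff_not_dvd.mpr hj
      have h1 := Nat.gcd_eq_gcd_ab p j
      rw [hco.gcd_eq_one, Nat.cast_one] at h1
      rw [← zpow_one Z, h1, zpow_add, zpow_mul, zpow_mul, zpow_natCast, zpow_natCast]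
      exact mul_mem (zpow_mem hZp _) (zpow_mem hZj _)
    obtain ⟨a, t, ht, rfl⟩ := H.exists_decomp h
    have htE : t ∈ E' := by
      obtain ⟨k, l, rfl⟩ := H.exists_form ht
      exact mul_mem (pow_mem (show Y ∈ E' from hY) k) (pow_mem hZE l)
    have hxa : X ^ a ∈ E' := by
      have := mul_mem hhE (inv_mem htE)
      rwa [mul_inv_cancel_right] at this
    have ha : (a : ZMod p) ≠ 0 := fun h0 => hhT (by rw [H.x_pow_eq_one h0, one_mul]; exact ht)
    have hX : X ∈ E' := by
      have := pow_mem hxa ((a : ZMod p)⁻¹).val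
      rwa [← pow_mul, pow_eq_pow_of_cast H.x_pow (u := a * _) (v := 1) (by
        push_cast; rw [ZMod.natCast_zmod_val, mul_inv_cancel₀ ha]), pow_one] at this
    have htop : closure ({X, Y, Z} : Set S) ≤ E' := (closure_le E').mpr (by
      rintro b (rfl | rfl | rfl)
      · exact hX
      · exact hY
      · exact hZE)
    rw [H.gen] at htop
    exact hne (le_antisymm hES fun g hg => htop (mem_top ⟨g, hg⟩))
  -- the centre of `E`
  set M0 := center E with hM0
  set L : Subgroup E := T.comap (inclusion hES) with hLdef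
  have hLn : L.Normal := hTn.comap _
  have hcenT : ∀ u ∈ M0, inclusion hES u ∈ zpowers (Z ^ p) := by
    intro u hu
    have hcu : ∀ v ∈ E', Commute v (inclusion hES u) := fun v hv =>
      Subtype.ext (show (v : Ω) * u = u * v from congrArg Subtype.val (mem_center_iff.mp hu ⟨v, hv⟩))
    have hT' : inclusion hES u ∈ T := by
      rw [hT, ← H.centralizer_y]
      exact mem_centralizer_singleton_iff.mpr (hcu Y hY).symm.eq
    obtain ⟨i, j, hij⟩ := H.exists_form hT'
    rw [hij]
    exact H.mem_zp_of_commute hhT (hpj i j (hij ▸ u.2)) (hij ▸ hcu h hhE)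
  have hzpM0 : ∀ u : E, inclusion hES u ∈ zpowers (Z ^ p) → u ∈ M0 := fun u hu =>
    mem_center_iff.mpr fun v => Subtype.ext (show (v : Ω) * u = u * v from congrArg Subtype.val
      (mem_center_iff.mp (zpowers_le.mpr H.zp_central hu) ⟨v, hES v.2⟩))
  obtain ⟨a, t, ht, hh⟩ := H.exists_decomp h
  have ha : (a : ZMod p) ≠ 0 := fun h0 => hhT (by rw [hh, H.x_pow_eq_one h0, one_mul]; exact ht)
  set hE₀ : E := ⟨(h : Ω), hhE⟩ with hhE₀
  set yE : E := ⟨(Y : Ω), hY⟩ with hyE
  have hxq : ∀ (b : ℕ) (t' : S), t' ∈ T →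
      ((X ^ b * t' : S) : S ⧸ T) = (X : S ⧸ T) ^ b := fun b t' ht' => by
    rw [QuotientGroup.mk_mul, (QuotientGroup.eq_one_iff t').2 ht', mul_one, QuotientGroup.mk_pow]
  have hXp : (X : S ⧸ T) ^ p = 1 := by rw [← QuotientGroup.mk_pow, H.x_pow, QuotientGroup.mk_one]
  -- every element is a power of `h` times a power of `y` times a central element
  have hform : ∀ u : E, ∃ k i : ℕ, k < p ∧ i < p ∧ (hE₀ ^ k * yE ^ i)⁻¹ * u ∈ M0 := by
    intro u
    obtain ⟨b, t', ht', hu⟩ := H.exists_decomp (inclusion hES u)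
    set k := ((b : ZMod p) * (a : ZMod p)⁻¹).val with hk
    have hmemT : (h ^ k)⁻¹ * inclusion hES u ∈ T := by
      rw [← QuotientGroup.eq, QuotientGroup.mk_pow, hu, hh, hxq a t ht, hxq b t' ht', ← pow_mul]
      exact pow_eq_pow_of_cast hXp (by
        push_cast; rw [ZMod.natCast_zmod_val, mul_comm, inv_mul_cancel_right₀ ha])
    obtain ⟨i, j, hij⟩ := H.exists_form hmemT
    have hj : p ∣ j := hpj i j (hij ▸ mul_mem (inv_mem (pow_mem hhE k)) (hof u))
    refine ⟨k, i % p, ZMod.val_lt _, Nat.mod_lt _ hP.pos, hzpM0 _ ?_⟩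
    have : inclusion hES ((hE₀ ^ k * yE ^ (i % p))⁻¹ * u) = Z ^ j := by
      rw [map_mul, map_inv, map_mul, map_pow, map_pow, mul_inv_rev, mul_assoc,
        show inclusion hES hE₀ = h from rfl, show inclusion hES yE = Y from rfl, hij,
        ← pow_eq_pow_mod i H.y_pow, inv_mul_cancel_left]
    rw [this]
    obtain ⟨m, rfl⟩ := hj
    rw [pow_mul]
    exact pow_mem (mem_zpowers _) _
  have hΦM : frattini E ≤ M0 := by
    refine frattini_le_of (p := p) M0 ?_ fun u => ?_
    · have hgen : closure ({hE₀, yE} ∪ (M0 : Set E)) = ⊤ := by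
        rw [eq_top_iff]
        intro u _
        obtain ⟨k, i, -, -, hm⟩ := hform u
        have hh₀ : hE₀ ∈ closure ({hE₀, yE} ∪ (M0 : Set E)) := Subgroup.subset_closure (Or.inl (Or.inl rfl))
        have hy₀ : yE ∈ closure ({hE₀, yE} ∪ (M0 : Set E)) := Subgroup.subset_closure (Or.inl (Or.inr rfl))
        have := mul_mem (mul_mem (pow_mem hh₀ k) (pow_mem hy₀ i))
          (Subgroup.subset_closure (k := {hE₀, yE} ∪ (M0 : Set E)) (Or.inr hm))
        rwa [mul_inv_cancel_left] at this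
      refine commutator_le_of_gens hgen M0 ?_
      have hhy : Commute (yE : E ⧸ M0) hE₀ := by
        rw [commute_iff_eq, ← QuotientGroup.mk_mul, ← QuotientGroup.mk_mul, eq_comm, QuotientGroup.eq]
        refine hzpM0 _ ?_
        have h1 := zpowers_le.mpr H.w_mem_zp (H.dOp_y_mem h)
        simp only [dOp, mul_assoc] at h1
        simp only [map_mul, map_inv, mul_inv_rev, mul_assoc]
        exact h1
      have hM : ∀ m ∈ M0, ∀ v : E, Commute (m : E ⧸ M0) v := fun m hm v => by
        rw [(QuotientGroup.eq_one_iff m).2 hm]; exact Commute.one_left _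
      rintro b ((rfl | rfl) | hb) c ((rfl | rfl) | hc')
      exacts [Commute.refl _, hhy.symm, (hM c hc' _).symm, hhy, Commute.refl _, (hM c hc' _).symm,
        hM b hb _, hM b hb _, hM b hb _]
    · obtain ⟨b, t', ht', hu⟩ := H.exists_decomp (inclusion hES u)
      have hupT : (inclusion hES u) ^ p ∈ T := by
        rw [← QuotientGroup.eq_one_iff, QuotientGroup.mk_pow, hu, hxq b t' ht', ← pow_mul, mul_comm,
          pow_mul, hXp, one_pow]
      obtain ⟨i, j, hij⟩ := H.exists_form hupT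
      refine hzpM0 _ ?_
      rw [map_pow]
      by_cases huT : inclusion hES u ∈ T
      · obtain ⟨i', j', hij'⟩ := H.exists_form huT
        rw [hij', (hc.pow_pow i' j').mul_pow, pow_right_comm, H.y_pow, one_pow, one_mul,
          pow_right_comm]
        exact pow_mem (mem_zpowers _) _
      · rw [hij]
        refine H.mem_zp_of_commute huT (hpj i j (hij ▸ pow_mem (hof u) p)) ?_
        rw [← hij]
        exact (Commute.refl _).pow_right p
  have hM0L : M0 ≤ L := fun u hu =>
    (zpowers_le.mpr (pow_mem (show Z ∈ T from subset_closure (by simp)) p)) (hcenT u hu)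
  have hyL : yE ∈ L := show Y ∈ T from subset_closure (by simp)
  have hyM0 : yE ∉ M0 := by
    intro hmem
    have hcy : h * Y = Y * h :=
      Subtype.ext (show (h : Ω) * (Y : Ω) = (Y : Ω) * h from
        congrArg Subtype.val (mem_center_iff.mp hmem hE₀))
    refine hhT ?_
    rw [hT, ← H.centralizer_y]
    exact mem_centralizer_singleton_iff.mpr hcy
  obtain ⟨hLi, hidx⟩ : L.index = p ∧ M0.index = p ^ 2 := by
    have hM0n : M0.Normal := inferInstance
    have hle : M0.index ≤ p ^ 2 := by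
      let f : Fin p × Fin p → E ⧸ M0 := fun q => ((hE₀ ^ (q.1 : ℕ) * yE ^ (q.2 : ℕ) : E) : E ⧸ M0)
      have hsurj : Function.Surjective f := fun v => by
        obtain ⟨u, rfl⟩ := QuotientGroup.mk_surjective v
        obtain ⟨k, i, hk, hi, hm⟩ := hform u
        exact ⟨(⟨k, hk⟩, ⟨i, hi⟩), QuotientGroup.eq.2 hm⟩
      have := Nat.card_le_card_of_surjective f hsurj
      rwa [Nat.card_prod, Nat.card_fin, ← pow_two] at this
    have h1 : p ≤ L.index := by
      have := le_relIndex_of_lt hEp (H := L) (K := ⊤) fun htop => hhT (htop (mem_top hE₀))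
      rwa [relIndex_top_right] at this
    have h2 : p ≤ M0.relIndex L := le_relIndex_of_lt hEp fun hle' => hyM0 (hle' hyL)
    rw [← relIndex_mul_index hM0L, pow_two] at hle
    rw [← relIndex_mul_index hM0L, pow_two]
    have h3 : L.index ≤ p := by
      by_contra hlt
      rw [not_le] at hlt
      nlinarith [hP.two_le]
    have h4 : M0.relIndex L ≤ p := by
      by_contra hlt
      rw [not_le] at hlt
      nlinarith [hP.two_le]
    rw [le_antisymm h3 h1, le_antisymm h4 h2]
    exact ⟨rfl, rfl⟩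
  -- `z` acts as a transvection
  have hZT : Z ∈ T := subset_closure (by simp)
  have hZfix : ∀ u ∈ L, conjAut S E ⟨(Z : Ω), hnorm Z⟩ u * u⁻¹ = 1 := fun u hu => Subtype.ext (by
    rw [hact]
    have hzu : Commute Z (⟨(u : Ω), hES u.2⟩ : S) := H.commute_T hZT hu
    rw [hzu.eq, mul_inv_cancel_right, mul_inv_cancel]
    rfl)
  have hgE : (Z : Ω) ∉ E := fun hm => by
    have := hpj 0 1 (by rw [pow_zero, one_mul, pow_one]; exact hm)
    exact hP.one_lt.ne' (Nat.dvd_one.1 this)
  have h2ne : ((2 : ℕ) : ZMod p) ≠ 0 := by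
    rw [ne_eq, ZMod.natCast_eq_zero_iff]
    exact fun h => absurd (Nat.le_of_dvd two_pos h) (by omega)
  have htt : ((2 : ℕ) : ZMod p) * (((2 : ℕ) : ZMod p)⁻¹).val = 1 := by
    rw [ZMod.natCast_zmod_val, mul_inv_cancel₀ h2ne]
  obtain ⟨c, d, -, -, hdL, α, hα, β, hβ, -, hαd, hβx, -⟩ :=
    hE.exists_torus_extension hS (hnorm Z) hgE hΦM
      (fun α _ u hu => mem_center_iff.mpr fun v => by
        simpa using congrArg α (mem_center_iff.mp hu (α⁻¹ v)))
      (fun u hu => hZfix u (hM0L hu) ▸ one_mem _) hidx hM0L hLi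
      (fun u hu => hZfix u hu ▸ one_mem _) hF htt
  have hN : E ⊔ zpowers (Z : Ω) = S := by
    refine le_antisymm (sup_le hES (zpowers_le.mpr Z.2)) fun g hg => ?_
    set E2 := (E ⊔ zpowers (Z : Ω)).subgroupOf S with hE2
    have hZ2 : Z ∈ E2 := mem_sup_right (S := E) (mem_zpowers (Z : Ω))
    have hY2 : Y ∈ E2 := mem_sup_left (T := zpowers (Z : Ω)) hY
    have ht2 : ∀ t' ∈ T, t' ∈ E2 := fun t' ht' => (closure_le E2).mpr (by
      rintro b (rfl | rfl)
      · exact hY2
      · exact hZ2) ht'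
    have hxa : X ^ a ∈ E2 := by
      have := mul_mem (show h ∈ E2 from mem_sup_left (T := zpowers (Z : Ω)) hhE) (inv_mem (ht2 t ht))
      rwa [hh, mul_inv_cancel_right] at this
    have hX2 : X ∈ E2 := by
      have := pow_mem hxa ((a : ZMod p)⁻¹).val
      rwa [← pow_mul, pow_eq_pow_of_cast H.x_pow (u := a * _) (v := 1) (by
        push_cast; rw [ZMod.natCast_zmod_val, mul_inv_cancel₀ ha]), pow_one] at this
    have htop : closure ({X, Y, Z} : Set S) ≤ E2 := (closure_le E2).mpr (by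
      rintro b (rfl | rfl | rfl)
      · exact hX2
      · exact hY2
      · exact hZ2)
    rw [H.gen] at htop
    exact htop (mem_top ⟨g, hg⟩)
  let ψ : MulAut S :=
    ((MulEquiv.subgroupCongr hN).symm.trans β).trans (MulEquiv.subgroupCongr hN)
  have hdψ : ψ (inclusion hES d) = inclusion hES (α d) := Subtype.ext (hβx d)
  set t' := (((2 : ℕ) : ZMod p)⁻¹).val with ht'
  have hw2 := H.weight ψ (h := inclusion hES d) hdL (l := t') (by
    rw [hdψ, ← map_pow, ← map_inv, ← map_mul]
    rw [← map_pow, QuotientGroup.mk'_apply, QuotientGroup.mk'_apply, eq_comm, QuotientGroup.eq] at hαd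
    exact hM0L hαd)
  rw [ht', ZMod.natCast_zmod_val] at hw2
  have h4 : ((2 : ℕ) : ZMod p) * (2 : ℕ) = 1 := by
    have h' := congrArg (fun v => ((2 : ℕ) : ZMod p) * (2 : ℕ) * v) hw2
    simp only [mul_one] at h'
    rw [← h']
    field_simp
  have h3 : ((3 : ℕ) : ZMod p) = 0 := by
    push_cast at h4 ⊢
    linear_combination h4
  rw [ZMod.natCast_eq_zero_iff] at h3
  exact absurd (Nat.le_of_dvd (by norm_num) h3) (by omega)

/-- `G(p, n; ε)` has no proper candidates for `p ≥ 5`. -/
theorem Cand.eq_of_GFam (hS : IsPGroup p S) (hF : F.IsSaturated p) (hp5 : 5 ≤ p)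
    (H : GFam p n s X Y Z) (hE : Cand F p E) : E = S := by
  by_contra hne
  have hES := hE.le
  have := finite_of_le hES
  have hEp := hS.to_le hES
  have hP : p.Prime := hp.out
  have hn4 := H.four
  by_cases hY : (Y : Ω) ∈ E
  · exact hne (hE.eq_of_GFam_mem hS hF hp5 H hY)
  set T : Subgroup S := closure ({Y, Z} : Set S) with hT
  have hTn : T.Normal := H.normal_T
  set E' := E.subgroupOf S with hE'
  set w := Z ^ p ^ (n - 3) with hw
  have hc : Commute Y Z := H.comm
  have hYT : Y ∈ T := subset_closure (by simp)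
  have hZp : Z ^ p ∈ E' := hE.center_le H.zp_central
  have hwE : w ∈ E' := zpowers_le.mpr hZp H.w_mem_zp
  have hwc : w ∈ center S := zpowers_le.mpr H.zp_central H.w_mem_zp
  have hwT : w ∈ T := pow_mem (subset_closure (by simp)) _
  -- `y` normalizes `E`
  have hYact : ∀ u : S, ∃ k : ℤ, Y * u * Y⁻¹ * u⁻¹ = w ^ k := by
    intro u
    obtain ⟨k, hk⟩ := mem_zpowers_iff.1 (H.dOp_y_mem u⁻¹)
    refine ⟨-k, ?_⟩
    rw [zpow_neg, hk]
    calc Y * u * Y⁻¹ * u⁻¹ = Y * (u * Y⁻¹ * u⁻¹) := by simp [mul_assoc]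
      _ = Y * ((dOp u⁻¹ Y)⁻¹ * Y⁻¹) := by simp [dOp, mul_assoc]
      _ = Y * (Y⁻¹ * (dOp u⁻¹ Y)⁻¹) := by
        have hdc : dOp u⁻¹ Y ∈ center S := hk ▸ zpow_mem hwc k
        rw [mem_center_iff.mp (inv_mem hdc) Y⁻¹]
      _ = _ := by simp
  have hYn : (Y : Ω) ∈ FusionSystem.normalizerIn S E :=
    ⟨Y.2, H94.mem_normalizer_of_forall_conj_mem fun r hr => by
      obtain ⟨k, hk⟩ := hYact ⟨r, hES hr⟩
      have h1 := mul_mem (zpow_mem hwE k) (show (⟨r, hES hr⟩ : S) ∈ E' from hr)
      rw [← hk] at h1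
      simpa [Subgroup.mem_subgroupOf, hE'] using h1⟩
  have hYcomm : ∀ u : E, ((conjAut S E ⟨(Y : Ω), hYn⟩ u * u⁻¹ : E) : Ω) ∈ zpowers (w : Ω) := by
    intro u
    obtain ⟨k, hk⟩ := hYact ⟨(u : Ω), hES u.2⟩
    refine ⟨k, ?_⟩
    have h1 := congrArg (Subtype.val : S → Ω) hk
    rw [Subgroup.coe_zpow] at h1
    exact h1.symm
  have hwΦ : (⟨(w : Ω), hwE⟩ : E) ∉ frattini E := by
    intro hmem
    refine hY (hE.mem_of_frattini hS hYn fun u => ?_)
    obtain ⟨k, hk⟩ := mem_zpowers_iff.1 (hYcomm u)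
    rw [show conjAut S E ⟨(Y : Ω), hYn⟩ u * u⁻¹ = (⟨(w : Ω), hwE⟩ : E) ^ k from
      Subtype.ext (by simp [hk])]
    exact zpow_mem hmem k
  obtain rfl : n = 4 := by
    by_contra hn
    apply hwΦ
    have hZ' : (Z ^ p) ^ p ^ (n - 5) ∈ E' := pow_mem hZp _
    refine mem_frattini_of_zpowers hEp (a := (((Z ^ p) ^ p ^ (n - 5) : S) : Ω)) hZ' ?_
    rw [← Subgroup.coe_pow, ← pow_mul, ← pow_mul, show p * (p ^ (n - 5) * p) = p ^ (n - 3) by
      rw [← pow_succ, ← pow_succ']; congr 1; omega]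
    exact mem_zpowers _
  have hwZ : w = Z ^ p := by rw [hw, show 4 - 3 = 1 from rfl, pow_one]
  -- `E` is generated by `w` and an element outside `T`
  obtain ⟨h, hhE, hhT⟩ : ∃ h : S, h ∈ E' ∧ h ∉ T := by
    by_contra hcon
    push_neg at hcon
    refine hY (hE.mem_of_centralizes Y.2 fun u hu => ?_)
    have h' : (Y : Ω) * u = u * Y := congrArg Subtype.val
      (H.commute_T hYT (hcon ⟨u, hES hu⟩ hu)).eq
    show (Y : Ω) * u * (Y : Ω)⁻¹ = u
    rw [h', mul_inv_cancel_right]
  obtain ⟨a, t, ht, hh⟩ := H.exists_decomp h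
  have ha : (a : ZMod p) ≠ 0 := fun h0 => hhT (by rw [hh, H.x_pow_eq_one h0, one_mul]; exact ht)
  have hET : ∀ u ∈ E', u ∈ T → u ∈ zpowers w := by
    intro u hu huT
    obtain ⟨i, j, rfl⟩ := H.exists_form huT
    obtain ⟨e, he⟩ := H.dOp_pow a
    have hd : dOp h (Y ^ i * Z ^ j) ∈ E' := mul_mem (inv_mem hu) (mul_mem (mul_mem (inv_mem hhE) hu) hhE)
    rw [hh, H.dOp_mul a ht (H.mem_T i j), he] at hd
    have hyaj : Y ^ (a * j) ∈ E' := by
      have := mul_mem hd (inv_mem (pow_mem hwE (s * a * i + e * j)))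
      rwa [mul_inv_cancel_right] at this
    have key : ∀ k : ℕ, Y ^ k ∈ E' → (k : ZMod p) = 0 := by
      intro k hk
      by_contra hk0
      apply hY
      have := pow_mem hk ((k : ZMod p)⁻¹).val
      rwa [← pow_mul, pow_eq_pow_of_cast H.y_pow (u := k * _) (v := 1) (by
        push_cast; rw [ZMod.natCast_zmod_val, mul_inv_cancel₀ hk0]), pow_one] at this
    have hj : (j : ZMod p) = 0 := by
      have := key _ hyaj
      rw [Nat.cast_mul, mul_eq_zero] at this
      exact this.resolve_left ha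
    rw [ZMod.natCast_eq_zero_iff] at hj
    obtain ⟨m, rfl⟩ := hj
    rw [pow_mul, ← hwZ] at hu
    have hYi : Y ^ i ∈ E' := by
      have := mul_mem hu (inv_mem (pow_mem hwE m))
      rwa [mul_inv_cancel_right] at this
    rw [pow_eq_pow_of_cast H.y_pow ((key i hYi).trans Nat.cast_zero.symm), pow_zero, one_mul,
      pow_mul, ← hwZ]
    exact pow_mem (mem_zpowers _) m
  have hwp : w ^ p = 1 := H.pow_top
  have hxq : ∀ (b : ℕ) (t' : S), t' ∈ T →
      ((X ^ b * t' : S) : S ⧸ T) = (X : S ⧸ T) ^ b := fun b t' ht' => by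
    rw [QuotientGroup.mk_mul, (QuotientGroup.eq_one_iff t').2 ht', mul_one, QuotientGroup.mk_pow]
  have hXp : (X : S ⧸ T) ^ p = 1 := by rw [← QuotientGroup.mk_pow, H.x_pow, QuotientGroup.mk_one]
  have hhp : h ^ p = 1 := by
    have hpT : h ^ p ∈ T := by
      rw [← QuotientGroup.eq_one_iff, QuotientGroup.mk_pow, hh, hxq a t ht, ← pow_mul, mul_comm,
        pow_mul, hXp, one_pow]
    obtain ⟨k, hk⟩ := mem_zpowers_iff.1 (hET _ (pow_mem hhE p) hpT)
    by_contra hne1
    refine hwΦ ?_
    have hkne : ¬ (p : ℤ) ∣ k := by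
      rintro ⟨m, rfl⟩
      rw [zpow_mul, zpow_natCast, hwp, one_zpow] at hk
      exact hne1 hk.symm
    obtain ⟨u, v, huv⟩ : IsCoprime k (p : ℤ) :=
      ((Nat.prime_iff_prime_int.mp hP).coprime_iff_not_dvd.mpr hkne).symm
    have hwh : w = (h ^ p) ^ u := by
      rw [← hk, ← zpow_mul, mul_comm k u, eq_sub_of_add_eq huv, zpow_sub, zpow_one, mul_comm v,
        zpow_mul, zpow_natCast, hwp, one_zpow, inv_one, mul_one]
    refine mem_frattini_of_zpowers hEp (a := (h : Ω)) hhE ⟨u, ?_⟩
    show ((h : Ω) ^ p) ^ u = (w : Ω)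
    rw [hwh, Subgroup.coe_zpow, Subgroup.coe_pow]
  set hE₀ : E := ⟨(h : Ω), hhE⟩ with hhE₀
  set wE : E := ⟨(w : Ω), hwE⟩ with hwE₀
  have hform : ∀ u : E, ∃ i j : ℕ, i < p ∧ j < p ∧ u = hE₀ ^ i * wE ^ j := by
    intro u
    obtain ⟨b, t', ht', hu⟩ := H.exists_decomp (⟨(u : Ω), hES u.2⟩ : S)
    set k := ((b : ZMod p) * (a : ZMod p)⁻¹).val with hk
    have hmemT : (h ^ k)⁻¹ * ⟨(u : Ω), hES u.2⟩ ∈ T := by
      rw [← QuotientGroup.eq, QuotientGroup.mk_pow, hu, hh, hxq a t ht, hxq b t' ht', ← pow_mul]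
      exact pow_eq_pow_of_cast hXp (by
        push_cast; rw [ZMod.natCast_zmod_val, mul_comm, inv_mul_cancel_right₀ ha])
    obtain ⟨m, hm⟩ := mem_powers_iff_mem_zpowers.2
      (hET _ (mul_mem (inv_mem (pow_mem hhE k)) u.2) hmemT)
    have hm : w ^ m = (h ^ k)⁻¹ * ⟨(u : Ω), hES u.2⟩ := hm
    refine ⟨k, m % p, ZMod.val_lt _, Nat.mod_lt _ hP.pos, Subtype.ext ?_⟩
    rw [pow_eq_pow_mod m hwp] at hm
    have h1 := congrArg (fun v : S => ((h ^ k * v : S) : Ω)) hm
    simp only [mul_inv_cancel_left] at h1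
    simpa using h1.symm
  have hwcE : ∀ v : E, Commute v wE := fun v =>
    Subtype.ext (show (v : Ω) * w = w * v from congrArg Subtype.val
      (mem_center_iff.mp hwc ⟨(v : Ω), hES v.2⟩))
  have hwEp : wE ^ p = 1 := Subtype.ext (by simpa using congrArg (Subtype.val : S → Ω) hwp)
  have hhEp : hE₀ ^ p = 1 := Subtype.ext (by simpa using congrArg (Subtype.val : S → Ω) hhp)
  have hEc : ∀ u v : E, Commute u v := by
    intro u v
    obtain ⟨i, j, -, -, rfl⟩ := hform u
    obtain ⟨k, l, -, -, rfl⟩ := hform v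
    exact (((Commute.refl hE₀).pow_pow i k).mul_right ((hwcE hE₀).pow_pow i l)).mul_left
      (((hwcE hE₀).symm.pow_pow j k).mul_right ((Commute.refl wE).pow_pow j l))
  have hΦ : frattini E ≤ ⊥ := by
    refine frattini_le_of (p := p) ⊥ ?_ fun u => ?_
    · rw [_root_.commutator_def, Subgroup.commutator_le]
      intro u _ v _
      exact commutatorElement_eq_one_iff_mul_comm.mpr (hEc u v).eq
    · obtain ⟨i, j, -, -, rfl⟩ := hform u
      rw [Subgroup.mem_bot, ((hwcE hE₀).pow_pow i j).mul_pow, pow_right_comm, hhEp,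
        pow_right_comm wE, hwEp, one_pow, one_pow, one_mul]
  set L : Subgroup E := zpowers wE with hL
  have hhL : hE₀ ∉ L := by
    intro hm
    obtain ⟨k, hk⟩ := mem_zpowers_iff.1 hm
    refine hhT ?_
    rw [show h = w ^ k from Subtype.ext (by simpa using (congrArg (Subtype.val : E → Ω) hk).symm)]
    exact zpow_mem hwT k
  have hwne : wE ≠ 1 := fun h1 => hwΦ (h1 ▸ one_mem _)
  have hcardL : Nat.card L = p := by rw [hL, Nat.card_zpowers, orderOf_eq_prime hwEp hwne]
  obtain ⟨hLi, hcardE⟩ : L.index = p ∧ Nat.card E = p ^ 2 := by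
    have hle : Nat.card E ≤ p ^ 2 := by
      let f : Fin p × Fin p → E := fun q => hE₀ ^ (q.1 : ℕ) * wE ^ (q.2 : ℕ)
      have hsurj : Function.Surjective f := fun v => by
        obtain ⟨i, j, hi, hj, rfl⟩ := hform v
        exact ⟨(⟨i, hi⟩, ⟨j, hj⟩), rfl⟩
      have := Nat.card_le_card_of_surjective f hsurj
      rwa [Nat.card_prod, Nat.card_fin, ← pow_two] at this
    have h1 : p ≤ L.index := by
      have := le_relIndex_of_lt hEp (H := L) (K := ⊤) fun htop => hhL (htop (mem_top hE₀))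
      rwa [relIndex_top_right] at this
    have h2 := card_mul_index L
    rw [hcardL] at h2
    have h3 : p * p ≤ Nat.card E := h2 ▸ Nat.mul_le_mul_left p h1
    have h4 : Nat.card E = p ^ 2 := le_antisymm hle (by rwa [pow_two])
    refine ⟨?_, h4⟩
    rw [h4, pow_two] at h2
    exact Nat.eq_of_mul_eq_mul_left hP.pos h2
  have hidx : (⊥ : Subgroup E).index = p ^ 2 := by rw [index_bot, hcardE]
  have hYfix : ∀ u ∈ L, conjAut S E ⟨(Y : Ω), hYn⟩ u * u⁻¹ = 1 := fun u hu => by
    obtain ⟨k, rfl⟩ := mem_zpowers_iff.1 hu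
    have : conjAut S E ⟨(Y : Ω), hYn⟩ wE = wE := Subtype.ext (by
      show (Y : Ω) * w * (Y : Ω)⁻¹ = w
      rw [show (Y : Ω) * w = w * Y from congrArg Subtype.val (mem_center_iff.mp hwc Y),
        mul_inv_cancel_right])
    rw [map_zpow, this, mul_inv_cancel]
  have hinv : ∀ α ∈ F.autGroup E, ∀ u ∈ (⊥ : Subgroup E), α u ∈ (⊥ : Subgroup E) := by
    intro α _ u hu
    rw [Subgroup.mem_bot.1 hu, map_one]
    exact one_mem _
  have h2ne : ((2 : ℕ) : ZMod p) ≠ 0 := by
    rw [ne_eq, ZMod.natCast_eq_zero_iff]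
    exact fun h => absurd (Nat.le_of_dvd two_pos h) (by omega)
  have htt : ((2 : ℕ) : ZMod p) * (((2 : ℕ) : ZMod p)⁻¹).val = 1 := by
    rw [ZMod.natCast_zmod_val, mul_inv_cancel₀ h2ne]
  set N := E ⊔ zpowers (Y : Ω) with hN
  have : (⊥ : Subgroup E).Normal := inferInstance
  obtain ⟨c, d, -, -, hdL, α, hα, β, hβ, -, hαd, hβx, -⟩ :=
    hE.exists_torus_extension hS hYn hY hΦ hinv
      (fun u hu => by rw [Subgroup.mem_bot.1 hu, map_one, inv_one, mul_one]; exact one_mem _)
      hidx bot_le hLi (fun u hu => hYfix u hu ▸ one_mem _) hF htt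
  have hαd' : α d = d ^ (((2 : ℕ) : ZMod p)⁻¹).val := by
    rw [← map_pow, QuotientGroup.mk'_apply, QuotientGroup.mk'_apply, QuotientGroup.eq,
      Subgroup.mem_bot, inv_mul_eq_one] at hαd
    exact hαd
  -- the maximal subgroup `N` above `E`
  have hNS : N ≤ S := sup_le hES (zpowers_le.mpr Y.2)
  have := finite_of_le hNS
  set N' := N.subgroupOf S with hN'
  have hhN : h ∈ N' := mem_sup_left (T := zpowers (Y : Ω)) hhE
  have hYN : Y ∈ N' := mem_sup_right (S := E) (mem_zpowers (Y : Ω))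
  have hwN : w ∈ N' := mem_sup_left (T := zpowers (Y : Ω)) hwE
  have hN'n : N'.Normal := by
    refine Subgroup.Normal.of_commutator_le S (le_trans ?_
      ((closure_le N').mpr (show ({Y, w} : Set S) ⊆ N' by rintro b (rfl | rfl) <;> assumption)))
    have hKn : (closure ({Y, w} : Set S)).Normal := by
      refine ⟨fun u hu g => ?_⟩
      induction hu using Subgroup.closure_induction with
      | mem b hb =>
        rcases hb with rfl | rfl
        · rw [show g * b * g⁻¹ = b * dOp g⁻¹ b by simp [dOp, mul_assoc]]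
          exact mul_mem (subset_closure (by simp))
            (zpowers_le.mpr (subset_closure (show w ∈ ({b, w} : Set S) by simp)) (H.dOp_y_mem _))
        · rw [mem_center_iff.mp hwc g, mul_inv_cancel_right]
          exact subset_closure (by simp)
      | one => simp
      | mul u v _ _ hu hv =>
        rw [show g * (u * v) * g⁻¹ = g * u * g⁻¹ * (g * v * g⁻¹) by group]
        exact mul_mem hu hv
      | inv u _ hu =>
        rw [show g * u⁻¹ * g⁻¹ = (g * u * g⁻¹)⁻¹ by group]
        exact inv_mem hu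
    refine commutator_le_of_gens H.gen _ ?_
    have hq : ∀ a b : S, a⁻¹ * (b⁻¹ * a * b) ∈ closure ({Y, w} : Set S) →
        Commute (a : S ⧸ closure ({Y, w} : Set S)) b := fun a b hab => by
      rw [commute_iff_eq, ← QuotientGroup.mk_mul, ← QuotientGroup.mk_mul, eq_comm, QuotientGroup.eq]
      simpa [mul_assoc] using hab
    have hYw : zpowers w ≤ closure ({Y, w} : Set S) := zpowers_le.mpr (subset_closure (by simp))
    have hXY : Commute (Y : S ⧸ closure ({Y, w} : Set S)) X := hq _ _ (hYw (H.dOp_y_mem X))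
    have hXZ : Commute (Z : S ⧸ closure ({Y, w} : Set S)) X := hq _ _ (by
      obtain ⟨e, he⟩ := H.dOp_pow 1
      have h1 := he 0 1
      simp only [pow_one, pow_zero, one_mul] at h1
      show dOp X Z ∈ _
      rw [h1]
      exact mul_mem (subset_closure (by simp)) (hYw (pow_mem (mem_zpowers _) _)))
    have hYZ : Commute (Y : S ⧸ closure ({Y, w} : Set S)) Z :=
      hc.map (QuotientGroup.mk' (closure ({Y, w} : Set S)))
    rintro a (rfl | rfl | rfl) b (rfl | rfl | rfl)
    exacts [Commute.refl _, hXY.symm, hXZ.symm, hXY, Commute.refl _, hYZ, hXZ, hYZ.symm,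
      Commute.refl _]
  -- it has index `p`
  have hxaT : ∀ u : S, ∃ k : ℕ, (h ^ k)⁻¹ * u ∈ T := by
    intro u
    obtain ⟨b, t', ht', hu⟩ := H.exists_decomp u
    refine ⟨((b : ZMod p) * (a : ZMod p)⁻¹).val, ?_⟩
    rw [← QuotientGroup.eq, QuotientGroup.mk_pow, hu, hh, hxq a t ht, hxq b t' ht', ← pow_mul]
    exact pow_eq_pow_of_cast hXp (by
      push_cast; rw [ZMod.natCast_zmod_val, mul_comm, inv_mul_cancel_right₀ ha])
  have hZN : Z ∉ N' := by
    intro hZ
    -- otherwise `N` would be everything, while `y` normalizes `E` and `z` does not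
    have hNn : N ≤ Subgroup.normalizer (E : Set Ω) :=
      sup_le Subgroup.le_normalizer (zpowers_le.mpr hYn.2)
    have hz := Subgroup.mem_normalizer_iff.1 (inv_mem (hNn hZ)) h
    have h1 : ((Z⁻¹ : S) : Ω) * h * ((Z⁻¹ : S) : Ω)⁻¹ ∈ E := by simpa using hz.1 hhE
    have h2 : Z⁻¹ * h * Z ∈ E' := by
      simpa [hE', Subgroup.mem_subgroupOf] using h1
    have h3 : dOp h Z ∈ E' := by
      rw [dOp]
      have h7 : Z⁻¹ * (h⁻¹ * Z * h) = ((Z⁻¹ * h * Z)⁻¹ * h) := by simp [mul_assoc]
      rw [h7]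
      exact mul_mem (inv_mem h2) hhE
    obtain ⟨e, he⟩ := H.dOp_pow a
    have h4 := he 0 1
    simp only [pow_one, pow_zero, one_mul, mul_one] at h4
    rw [hh, H.dOp_mul a ht (subset_closure (by simp)), h4] at h3
    have hya : Y ^ a ∈ E' := by
      have := mul_mem h3 (inv_mem (pow_mem hwE (s * a * 0 + e)))
      rwa [mul_inv_cancel_right] at this
    have := hET _ hya (pow_mem hYT a)
    obtain ⟨k, hk⟩ := mem_zpowers_iff.1 this
    -- `Y ^ a` is central, so it commutes with `h`
    have hce : Commute h (Y ^ a * Z ^ 0) := by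
      rw [pow_zero, mul_one, ← hk]
      exact mem_center_iff.mp (zpow_mem hwc k) h
    have hmem := H.mem_zp_of_commute hhT (dvd_zero p) hce
    rw [pow_zero, mul_one] at hmem
    have hX : Commute X (Y ^ a) := mem_center_iff.mp (zpowers_le.mpr H.zp_central hmem) X
    obtain ⟨e1, he1⟩ := H.dOp_pow 1
    have h8 := he1 a 0
    simp only [pow_one, pow_zero, mul_one, one_mul, mul_zero, add_zero] at h8
    have h9 : dOp X (Y ^ a) = 1 := by
      rw [dOp, mul_assoc _ (Y ^ a), ← hX.eq]; group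
    rw [h9] at h8
    have h10 := H.w_pow_inj (u := 0) (v := s * a) (by rw [pow_zero]; exact h8)
    push_cast at h10
    exact mul_ne_zero H.s_ne ha h10.symm
  have hNindex : ∀ g : S, g ∉ N' → ∀ K : Subgroup S, N' ≤ K → g ∈ K → K = ⊤ := by
    intro g hg K hNK hgK
    have hTK : T ≤ K := by
      obtain ⟨k, hk⟩ := hxaT g
      obtain ⟨i, j, hij⟩ := H.exists_form hk
      have hj : ¬ p ∣ j := by
        rintro ⟨m, rfl⟩
        rw [pow_mul, ← hwZ] at hij
        apply hg
        rw [show g = h ^ k * (Y ^ i * w ^ m) by rw [← hij]; group]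
        exact mul_mem (pow_mem hhN k) (mul_mem (pow_mem hYN i) (pow_mem hwN m))
      have hZj : Z ^ j ∈ K := by
        have h1 := mul_mem (inv_mem (hNK (pow_mem hhN k))) hgK
        rw [hij] at h1
        have := mul_mem (inv_mem (hNK (pow_mem hYN i))) h1
        rwa [inv_mul_cancel_left] at this
      have hZpK : Z ^ p ∈ K := hwZ ▸ hNK hwN
      have hco : Nat.Coprime p j := hP.coprime_iff_not_dvd.mpr hj
      have h1 := Nat.gcd_eq_gcd_ab p j
      rw [hco.gcd_eq_one, Nat.cast_one] at h1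
      refine (closure_le K).mpr ?_
      rintro b (rfl | rfl)
      · exact hNK hYN
      · rw [← zpow_one b, h1, zpow_add, zpow_mul, zpow_mul, zpow_natCast, zpow_natCast]
        exact mul_mem (zpow_mem hZpK _) (zpow_mem hZj _)
    rw [eq_top_iff]
    intro u _
    obtain ⟨k, hk⟩ := hxaT u
    have := mul_mem (hNK (pow_mem hhN k)) (hTK hk)
    rwa [mul_inv_cancel_left] at this
  have hNne : N ≠ S := fun h' => hZN (show (Z : Ω) ∈ N from h'.symm ▸ Z.2)
  have hNnorm : ∀ g : S, (g : Ω) ∈ FusionSystem.normalizerIn S N := fun g =>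
    ⟨g.2, H94.mem_normalizer_of_forall_conj_mem fun r hr => hN'n.conj_mem ⟨r, hNS hr⟩ hr g⟩
  have hSN : FusionSystem.normalizerIn S N = S :=
    le_antisymm (normalizerIn_le S N) fun g hg => hNnorm ⟨g, hg⟩
  have hNfn : F.IsFullyNormalized N := by
    refine ⟨hNS, fun Q _ => ?_⟩
    rw [hSN]
    exact card_le_of_le (normalizerIn_le S Q)
  -- it is centric
  have hNc : F.IsCentric N := by
    refine ⟨hNS, fun Q hQ c hcQ => ?_⟩
    have hQS := isConj_le_right hQ
    have := finite_of_le hQS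
    have hQcard : Nat.card Q = Nat.card N := (isConj_card_eq hQ).symm
    set Q' := Q.subgroupOf S with hQ'
    -- conjugates of `N` are maximal subgroups
    have hcard' : Nat.card Q' = Nat.card N' := by
      rw [hQ', hN', Nat.card_congr (subgroupOfEquivOfLe hQS).toEquiv,
        Nat.card_congr (subgroupOfEquivOfLe hNS).toEquiv, hQcard]
    have hN'co : IsCoatom N' := by
      refine ⟨fun h' => hZN (h' ▸ mem_top Z), fun K hK => ?_⟩
      obtain ⟨g, hgK, hgN⟩ := Set.exists_of_ssubset hK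
      exact hNindex g hgN K hK.le hgK
    have hN'i : N'.index = p := (coatom_spec H.isP hN'co).2.1
    have hQ'i : Q'.index = p := by
      have e1 := card_mul_index Q'
      rw [hcard', ← card_mul_index N', hN'i] at e1
      exact Nat.eq_of_mul_eq_mul_left Nat.card_pos e1
    have hQ'co : IsCoatom Q' := by
      refine ⟨fun h' => hP.one_lt.ne' (by rw [← hQ'i, h', index_top]), fun K hK => ?_⟩
      have hdvd := index_dvd_of_le hK.le
      rw [hQ'i] at hdvd
      rcases (Nat.dvd_prime hP).1 hdvd with h1 | h1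
      · exact index_eq_one.1 h1
      · refine absurd (eq_of_le_of_card_ge hK.le ?_) hK.ne
        have e1 := card_mul_index K
        rw [h1, ← card_mul_index Q', hQ'i] at e1
        exact (Nat.eq_of_mul_eq_mul_right hP.pos e1).le
    have hcomm := (coatom_spec H.isP hQ'co).2.2
    -- it contains `y` and `w`
    have hdc : ∀ u v : S, dOp u v ∈ commutator S := fun u v => by
      rw [show dOp u v = ⁅v⁻¹, u⁻¹⁆ by simp [dOp, commutatorElement_def, mul_assoc]]
      exact commutator_mem_commutator (mem_top _) (mem_top _)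
    obtain ⟨e1, he1⟩ := H.dOp_pow 1
    have hwQ : w ∈ Q' := by
      have h8 := he1 1 0
      simp only [pow_one, pow_zero, mul_one, one_mul, mul_zero, add_zero] at h8
      have h9 : w ^ s ∈ Q' := h8 ▸ hcomm (hdc X Y)
      have := pow_mem h9 ((s : ZMod p)⁻¹).val
      rwa [← pow_mul, pow_eq_pow_of_cast hwp (u := s * _) (v := 1) (by
        push_cast; rw [ZMod.natCast_zmod_val, mul_inv_cancel₀ H.s_ne]), pow_one] at this
    have hYQ : Y ∈ Q' := by
      have h8 := he1 0 1
      simp only [pow_one, pow_zero, mul_one, one_mul, mul_zero, zero_add] at h8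
      have h9 := mul_mem (hcomm (hdc X Z)) (inv_mem (pow_mem hwQ e1))
      rwa [h8, mul_inv_cancel_right] at h9
    obtain ⟨hcS, hcc⟩ := mem_centralizerIn.1 hcQ
    have hcT : (⟨c, hcS⟩ : S) ∈ T := by
      rw [hT, ← H.centralizer_y]
      refine mem_centralizer_singleton_iff.mpr (Subtype.ext ?_)
      show c * (Y : Ω) = (Y : Ω) * c
      exact mul_inv_eq_iff_eq_mul.1 (hcc Y hYQ)
    obtain ⟨q, hqQ, hqT⟩ : ∃ q : S, q ∈ Q' ∧ q ∉ T := by
      by_contra hcon
      push_neg at hcon
      obtain ⟨φ, hφ, hr⟩ := hQ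
      have hcm : Commute h Y := by
        have h1 := H.commute_T (hcon ⟨φ ⟨(h : Ω), hhN⟩, H93.apply_mem hφ _⟩ (hr.le ⟨_, rfl⟩))
          (hcon ⟨φ ⟨(Y : Ω), hYN⟩, H93.apply_mem hφ _⟩ (hr.le ⟨_, rfl⟩))
        have h2 := congrArg (Subtype.val : S → Ω) h1.eq
        simp only [Subgroup.coe_mul, ← map_mul] at h2
        exact Subtype.ext (congrArg (Subtype.val : N → Ω) (F.injective_of_mem hφ h2) :)
      refine hhT ?_
      rw [hT, ← H.centralizer_y]
      exact mem_centralizer_singleton_iff.mpr hcm.eq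
    obtain ⟨i, j, hij⟩ := H.exists_form hcT
    have hqc : Commute q (⟨c, hcS⟩ : S) := Subtype.ext (show (q : Ω) * c = c * q from
      (mul_inv_eq_iff_eq_mul.1 (hcc q hqQ)).symm)
    have hj : p ∣ j := by
      obtain ⟨b, t', ht', rfl⟩ := H.exists_decomp q
      obtain ⟨e, he⟩ := H.dOp_pow b
      have h1 : dOp (X ^ b * t') (Y ^ i * Z ^ j) = 1 := by
        rw [hij] at hqc
        rw [dOp, mul_assoc _ (Y ^ i * Z ^ j), ← hqc.eq]
        group
      rw [H.dOp_mul b ht' (H.mem_T _ _), he, mul_eq_one_iff_eq_inv] at h1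
      have h2 : Commute h (Y ^ (b * j) * Z ^ 0) := by
        rw [pow_zero, mul_one, h1]
        exact mem_center_iff.mp (inv_mem (pow_mem hwc _)) h
      have hb : (b : ZMod p) ≠ 0 := fun h0 => hqT (by rw [H.x_pow_eq_one h0, one_mul]; exact ht')
      by_contra hj
      have hcast : ((b * j : ℕ) : ZMod p) ≠ 0 := by
        rw [Nat.cast_mul]
        exact mul_ne_zero hb (by rwa [ne_eq, ZMod.natCast_eq_zero_iff])
      have h3 : Commute h (Y ^ (b * j)) := by rwa [pow_zero, mul_one] at h2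
      have h4 := h3.pow_right ((b * j : ℕ) : ZMod p)⁻¹.val
      rw [← pow_mul, pow_eq_pow_of_cast H.y_pow (u := b * j * _) (v := 1) (by
        push_cast
        push_cast at hcast
        rw [ZMod.natCast_zmod_val, mul_inv_cancel₀ hcast]), pow_one] at h4
      refine hhT ?_
      rw [hT, ← H.centralizer_y]
      exact mem_centralizer_singleton_iff.mpr h4.eq
    obtain ⟨m, rfl⟩ := hj
    rw [pow_mul, ← hwZ] at hij
    have : (⟨c, hcS⟩ : S) ∈ Q' := hij ▸ mul_mem (pow_mem hYQ i) (pow_mem hwQ m)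
    exact this
  -- so it is not radical, and its induced automorphisms form a normal subgroup
  have hnrad : ¬ F.IsRadical p N := fun hrad =>
    hNne ((Cand.mk hNc hrad hNfn).eq_of_GFam_mem hS hF hp5 H hYN)
  have hfa := IsFullyNormalized.isFullyAutomized hS hF hNfn
  obtain ⟨-, R, hR⟩ := hfa
  have := finite_mulAut hNS
  let K : Subgroup (F.autGroup N) := pCore p (F.autGroup N)
  have hK : K.Normal := H19.pCore_normal p _
  have hKR : K ≤ (R : Subgroup (F.autGroup N)) := H19.pCore_le_sylow R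
  let P : Subgroup S := (K.map (F.autGroup N).subtype).comap
    ((conjAut S N).comp (MonoidHom.codRestrict S.subtype (FusionSystem.normalizerIn S N) hNnorm))
  have hInnK : ∀ g ∈ N', g ∈ P := by
    intro g hg
    have hInn : Inn N ≤ F.autGroup N := inn_le_autGroup F hNS
    have hnor : ((Inn N).subgroupOf (F.autGroup N)).Normal := Subgroup.normal_subgroupOf
    have hp' : IsPGroup p ((Inn N).subgroupOf (F.autGroup N)) := by
      refine IsPGroup.comap_subtype ?_
      rw [inn_eq_autInducedBy]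
      exact H93.isPGroup_autInducedBy (hS.to_le hNS) N
    have hmem : conjAut S N ⟨(g : Ω), hNnorm g⟩ ∈ Inn N := by
      rw [inn_eq_autInducedBy, mem_autInducedBy]
      exact ⟨(g : Ω), hg, fun _ => rfl⟩
    exact ⟨⟨_, hInn hmem⟩, H19.le_pCore hnor hp' hmem, rfl⟩
  have hPtop : P = ⊤ := by
    by_contra hPne
    apply hnrad
    refine ⟨hNS, le_antisymm ?_ ?_⟩
    · rintro _ ⟨γ, hγ, rfl⟩
      have hγR := hKR hγ
      rw [hR] at hγR
      obtain ⟨g, hg, hge⟩ := mem_autInducedBy.1 (Subgroup.mem_subgroupOf.1 hγR)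
      rw [inn_eq_autInducedBy, mem_autInducedBy]
      refine ⟨g, ?_, hge⟩
      by_contra hgN
      refine hPne (hNindex ⟨g, hg⟩ hgN P hInnK ⟨γ, hγ, ?_⟩)
      exact MulEquiv.ext fun u => Subtype.ext (hge u)
    · intro γ hγ
      rw [inn_eq_autInducedBy, mem_autInducedBy] at hγ
      obtain ⟨g, hg, hge⟩ := hγ
      obtain ⟨δ, hδ, hδe⟩ := hInnK ⟨g, hNS hg⟩ hg
      refine ⟨δ, hδ, hδe.trans (MulEquiv.ext fun u => Subtype.ext ?_)⟩
      exact (hge u).symm
  -- extend to `S`
  have hmaps : N.subtype.comp β.toMonoidHom ∈ F.Hom N := (mem_autGroup_iff hNS).1 hβ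
  have hr : (N.subtype.comp β.toMonoidHom).range = N := by
    apply le_antisymm
    · rintro _ ⟨u, rfl⟩; exact Subtype.coe_prop _
    · intro u hu; exact ⟨β⁻¹ ⟨u, hu⟩, by simp⟩
  have hext : S ≤ FusionSystem.extender S N (N.subtype.comp β.toMonoidHom) := by
    intro g hg
    obtain ⟨δ, hδ, hδe⟩ := (hPtop.ge (mem_top (⟨g, hg⟩ : S)) : _)
    have h2 := hKR (hK.conj_mem δ hδ ⟨β, hβ⟩)
    rw [hR] at h2
    obtain ⟨g', hg', hge'⟩ := mem_autInducedBy.1 (Subgroup.mem_subgroupOf.1 h2)
    refine mem_extender.2 ⟨hNnorm ⟨g, hg⟩, g', hg', fun u hu => ?_⟩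
    have h3 := hge' (β u)
    show ((β ⟨g * u * g⁻¹, hu⟩ : N) : Ω) = g' * ((β u : N) : Ω) * g'⁻¹
    rw [← h3]
    simp only [Subgroup.coe_mul, Subgroup.coe_inv, MulAut.mul_apply, MulAut.inv_apply_self]
    exact congrArg (fun v : N => ((β v : N) : Ω))
      (Subtype.ext (congrArg (fun ε : MulAut N => ((ε u : N) : Ω)) hδe).symm)
  obtain ⟨φ, hφ, hφx⟩ := exists_extension hmaps hr (IsFullyNormalized.isReceptive hS hF hNfn)
  have hφS : φ.comp (inclusion hext) ∈ F.Hom S := restrict_mem hφ hext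
  let ψ : MulAut S := homEquiv (φ.comp (inclusion hext)) (F.injective_of_mem hφS) (range_eq_self hφS)
  have hψd : ψ ⟨(d : Ω), hES d.2⟩ = ⟨((α d : E) : Ω), hES (α d).2⟩ := Subtype.ext (by
    show φ (inclusion hext ⟨(d : Ω), hES d.2⟩) = _
    rw [← hβx d]
    exact hφx (inclusion le_sup_left d))
  have hdT : (⟨(d : Ω), hES d.2⟩ : S) ∉ T := by
    intro hdT
    obtain ⟨k, hk⟩ := mem_zpowers_iff.1 (hET _ (show (⟨(d : Ω), hES d.2⟩ : S) ∈ E' from d.2) hdT)
    exact hdL ⟨k, Subtype.ext (by simpa using congrArg (Subtype.val : S → Ω) hk)⟩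
  set t' := (((2 : ℕ) : ZMod p)⁻¹).val with ht'
  have hw2 := H.weight ψ (h := ⟨(d : Ω), hES d.2⟩) hdT (l := t') (by
    rw [hψd, show (⟨((α d : E) : Ω), hES (α d).2⟩ : S) = (⟨(d : Ω), hES d.2⟩ : S) ^ t' from
      Subtype.ext (by simp [hαd']), inv_mul_cancel]
    exact one_mem _)
  rw [ht', ZMod.natCast_zmod_val] at hw2
  have h4 : ((2 : ℕ) : ZMod p) * (2 : ℕ) = 1 := by
    have h' := congrArg (fun v => ((2 : ℕ) : ZMod p) * (2 : ℕ) * v) hw2
    simp only [mul_one] at h'
    rw [← h']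
    field_simp
  have h3 : ((3 : ℕ) : ZMod p) = 0 := by
    push_cast at h4 ⊢
    linear_combination h4
  rw [ZMod.natCast_eq_zero_iff] at h3
  exact absurd (Nat.le_of_dvd (by norm_num) h3) (by omega)

end Cfsg.Agent.H24
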