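import Cfsg.Agent.H58.PSLThree.Semidihedral
import Cfsg.Agent.H24.MaxClassFailures
import Cfsg.Agent.H21.Complement
import Cfsg.Agent.H49.QDModel
import Cfsg.Agent.H49.Homs

/-!
`GL(2, q)` with semidihedral Sylow 2-subgroups of prescribed order, for suitable primes `q`.
-/

set_option autoImplicit false

namespace Cfsg.Agent.H24

open Subgroup Matrix MatrixGroups
open Cfsg.Agent.H58.PSLThree

/-- What is needed from the linear group. -/
structure SDData {G : Type*} [Group G] (g s : G) (H : Subgroup G) (a : ℕ) : Prop where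
  two_le : 2 ≤ a
  order : orderOf g = 2 ^ (a + 1)
  s_sq : s * s = 1
  conj : s * g * s = g ^ 2 ^ a * g⁻¹
  s_not : s ∉ zpowers g
  central : g ^ 2 ^ a ∈ Subgroup.center G
  normal : H.Normal
  g_not : g ∉ H
  g_sq : g * g ∈ H
  gs_mem : g * s ∈ H
  v_top : (Nat.card G).factorization 2 = a + 2
  v_H : (Nat.card H).factorization 2 = a + 1
  fused : ∀ y y' : G, y * y = g ^ 2 ^ a → y' * y' = g ^ 2 ^ a → ∃ c ∈ H, c * y * c⁻¹ = y'

/-- The linear groups realize every order. -/
theorem exists_sdData (a : ℕ) (ha : 2 ≤ a) :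
    ∃ (G : Type) (_ : Group G) (_ : Finite G) (g s : G) (H : Subgroup G), SDData g s H a := by
  classical
  obtain ⟨b, rfl⟩ : ∃ b, a = b + 2 := ⟨a - 2, by omega⟩
  have : NeZero (2 ^ (b + 2 + 1)) := ⟨pow_ne_zero _ two_ne_zero⟩
  have hM0 : ((2 ^ (b + 2 + 1) : ℕ) : ZMod (2 ^ (b + 2 + 1))) = 0 := ZMod.natCast_self _
  obtain ⟨q, -, hq, hqr⟩ := Nat.forall_exists_prime_gt_and_eq_mod
    (a := ((2 ^ (b + 2) - 1 : ℕ) : ZMod (2 ^ (b + 2 + 1))))
    (IsUnit.of_mul_eq_one ((2 ^ (b + 2) - 1 : ℕ) : ZMod (2 ^ (b + 2 + 1))) (by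
      rw [Nat.cast_sub Nat.one_le_two_pow, Nat.cast_one, Nat.cast_pow, Nat.cast_ofNat]
      have h2 : (2 : ZMod (2 ^ (b + 2 + 1))) ^ (b + 2 + 1) = 0 := by exact_mod_cast hM0
      linear_combination (2 ^ (b + 1) - 1 : ZMod (2 ^ (b + 2 + 1))) * h2)) 2
  have : Fact q.Prime := ⟨hq⟩
  obtain ⟨t, ht⟩ : ∃ t, q = 2 ^ (b + 2 + 1) * t + (2 ^ (b + 2) - 1) := by
    refine ⟨q / 2 ^ (b + 2 + 1), ?_⟩
    have h := congrArg ZMod.val hqr
    have hlt : 2 ^ (b + 2) < 2 ^ (b + 2 + 1) := Nat.pow_lt_pow_right one_lt_two (by omega)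
    rw [ZMod.val_natCast, ZMod.val_natCast, Nat.mod_eq_of_lt (a := 2 ^ (b + 2) - 1) (by omega)] at h
    have := Nat.div_add_mod q (2 ^ (b + 2 + 1))
    omega
  set u := 2 ^ b with hu
  have hupos : 0 < u := Nat.two_pow_pos b
  obtain ⟨q', hq'⟩ : ∃ q', q = 4 * q' + 3 := ⟨u * (2 * t) + (u - 1), by
    rw [ht, pow_succ, pow_add, ← hu]
    have : u * 2 ^ 2 * 2 * t = 4 * (u * (2 * t)) := by ring
    omega⟩
  have hq4 : Fintype.card (ZMod q) % 4 = 3 := by rw [ZMod.card]; omega
  have hplus : q + 1 = 2 ^ (b + 2) * (2 * t + 1) := by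
    rw [ht, mul_add, mul_one, pow_succ 2 (b + 2)]
    have : 2 ^ (b + 2) * 2 * t = 2 ^ (b + 2) * (2 * t) := by ring
    have := Nat.two_pow_pos (b + 2)
    omega
  have hminus : q - 1 = 2 * (2 * q' + 1) := by omega
  have hsq : q ^ 2 - 1 = 2 ^ (b + 2 + 1) * ((2 * q' + 1) * (2 * t + 1)) := by
    rw [show q ^ 2 - 1 = (q + 1) * (q - 1) by rw [← Nat.sq_sub_sq, one_pow], hplus, hminus]
    ring
  have hodd : Odd ((2 * q' + 1) * (2 * t + 1)) := (odd_two_mul_add_one q').mul (odd_two_mul_add_one t)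
  have hF2 : (2 : ZMod q) ≠ 0 := two_ne_zero_of_odd_card (by omega)
  have hv : ∀ {n k m : ℕ}, n = 2 ^ k * m → Odd m → n.factorization 2 = k := by
    rintro n k m rfl hm
    rw [Nat.factorization_mul (by positivity) (Nat.ne_of_odd_add (by simpa using hm) : m ≠ 0),
      Nat.Prime.factorization_pow Nat.prime_two, Finsupp.add_apply, Finsupp.single_eq_same,
      Nat.factorization_eq_zero_of_not_dvd (fun hd => Nat.not_even_iff_odd.2 hm (even_iff_two_dvd.2 hd)),
      add_zero]
  -- the Sylow 2-subgroup of the torus is cyclic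
  set C := ctor (F := ZMod q)
  let σ : Sylow 2 C := default
  have hσ : Nat.card σ = 2 ^ (b + 2 + 1) := by
    rw [σ.card_eq_multiplicity, card_ctor hq4, ZMod.card, hv hsq hodd]
  have : IsMulCommutative (σ : Subgroup C) :=
    ⟨⟨fun x y => Subtype.ext (Subtype.ext (ctor_comm (x : C).2 (y : C).2))⟩⟩
  have hneg : ∀ x : GL (Fin 2) (ZMod q), x ∈ C → x * x = 1 → x = 1 ∨ x = -1 := by
    intro x hx h
    have h' := congrArg (fun A : GL (Fin 2) (ZMod q) => (A : Matrix (Fin 2) (Fin 2) (ZMod q))) h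
    simp only [Units.val_mul] at h'
    rw [ctor_shape hx] at h'
    have e00 := congrFun (congrFun h' 0) 0
    have e10 := congrFun (congrFun h' 1) 0
    simp [Matrix.mul_apply, Fin.sum_univ_two] at e00 e10
    set c0 := (x : Matrix (Fin 2) (Fin 2) (ZMod q)) 0 0 with hc0
    set c1 := (x : Matrix (Fin 2) (Fin 2) (ZMod q)) 1 0 with hc1
    have h10 : c1 = 0 := by
      have hp : (2 : ZMod q) * c0 * c1 = 0 := by linear_combination e10
      rcases mul_eq_zero.1 hp with hp' | hp'
      · have h00 : c0 = 0 := (mul_eq_zero.1 hp').resolve_left hF2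
        rw [h00] at e00
        exact absurd (by linear_combination -e00) (not_isSquare_neg_one hq4 c1)
      · exact hp'
    rw [h10] at e00
    have hsh := ctor_shape hx
    rw [← hc0, ← hc1, h10] at hsh
    rcases mul_self_eq_one_iff.1 (by linear_combination e00 : c0 * c0 = 1) with h1 | h1
    · left; refine Units.ext ?_
      rw [hsh, h1]
      ext i j; fin_cases i <;> fin_cases j <;> simp
    · right; refine Units.ext ?_
      rw [hsh, h1]
      ext i j; fin_cases i <;> fin_cases j <;> simp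
  have hcyc : IsCyclic (σ : Subgroup C) := by
    refine H21.isCyclic_of_comm_unique σ.isPGroup' fun U V hU hV => ?_
    have key : ∀ U : Subgroup (σ : Subgroup C), Nat.card U = 2 →
        ∀ x, x ∈ U ↔ x = 1 ∨ (((x : C)) : GL (Fin 2) (ZMod q)) = -1 := by
      intro U hU
      have hnt : Nontrivial U := Finite.one_lt_card_iff_nontrivial.1 (by omega)
      have hcl : ∀ x ∈ U, x = 1 ∨ (((x : C)) : GL (Fin 2) (ZMod q)) = -1 := fun x hx => by
        have h2 : x * x = 1 := by
          have := pow_card_eq_one' (x := (⟨x, hx⟩ : U))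
          rw [hU, pow_two] at this
          exact congrArg Subtype.val this
        refine (hneg _ (x : C).2 (congrArg (fun r : σ => ((r : C) : GL (Fin 2) (ZMod q))) h2)).imp_left
          fun h => Subtype.ext (Subtype.ext h)
      obtain ⟨⟨w, hw⟩, hw1⟩ := exists_ne (1 : U)
      have hw' := (hcl w hw).resolve_left fun h => hw1 (Subtype.ext h)
      refine fun x => ⟨hcl x, fun hx => ?_⟩
      rcases hx with rfl | hx
      · exact one_mem _
      · rwa [show x = w from Subtype.ext (Subtype.ext (hx.trans hw'.symm))]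
    ext x
    rw [key U hU, key V hV]
  obtain ⟨γ, hγ⟩ := hcyc.exists_generator (α := (σ : Subgroup C))
  set g : GL (Fin 2) (ZMod q) := ((γ : C) : GL (Fin 2) (ZMod q)) with hgdef
  have hgC : g ∈ C := (γ : C).2
  have hord : orderOf g = 2 ^ (b + 2 + 1) := by
    rw [hgdef, Subgroup.orderOf_coe, Subgroup.orderOf_coe, orderOf_eq_card_of_forall_mem_zpowers hγ]
    exact hσ
  have hz : g ^ 2 ^ (b + 2) = -1 := by
    refine (hneg _ (pow_mem hgC _) (by rw [← pow_two, ← pow_mul, ← pow_succ, ← hord, pow_orderOf_eq_one])).resolve_left ?_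
    rw [← orderOf_dvd_iff_pow_eq_one, hord, Nat.pow_dvd_pow_iff_le_right (le_refl 2)]
    omega
  set det := GeneralLinearGroup.det (n := Fin 2) (R := ZMod q) with hdet
  have hdetC : ∀ x : GL (Fin 2) (ZMod q), (det x : ZMod q) = (x : Matrix (Fin 2) (Fin 2) (ZMod q)).det :=
    fun _ => rfl
  have hsol : ∀ d : (ZMod q)ˣ, ∃ c ∈ C, det c = d := by
    intro d
    obtain ⟨x, y, hxy⟩ := ZMod.sq_add_sq q (d : ZMod q)
    have hd : (!![x, -y; y, x]).det = (d : ZMod q) := by rw [det_fin_two_of, ← hxy]; ring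
    refine ⟨GeneralLinearGroup.mkOfDetNeZero !![x, -y; y, x] (hd ▸ d.ne_zero), mem_ctor.2 ?_,
      Units.ext hd⟩
    show !![x, -y; y, x] 0 0 = !![x, -y; y, x] 1 1 ∧ !![x, -y; y, x] 0 1 = -!![x, -y; y, x] 1 0
    simp
  have hdg : det g = -1 := by
    -- some torus element of determinant `-1` lies in the Sylow subgroup
    obtain ⟨c, hc, hcd⟩ := hsol (-1)
    have : (σ : Subgroup C).Normal :=
      ⟨fun u hu v => by rwa [show v * u * v⁻¹ = u from Subtype.ext (by
        push_cast; rw [ctor_comm v.2 u.2, mul_inv_cancel_right])]⟩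
    obtain ⟨m, hm⟩ : Odd (σ : Subgroup C).index :=
      Nat.odd_iff.2 (Nat.two_dvd_ne_zero.1 σ.not_dvd_index)
    obtain ⟨j, hj⟩ := mem_zpowers_iff.1
      (hγ ⟨_, pow_index_mem (σ : Subgroup C) ⟨c, hc⟩⟩)
    have hj' : g ^ j = c ^ (σ : Subgroup C).index := by
      have := congrArg (fun r : σ => ((r : C) : GL (Fin 2) (ZMod q))) hj
      simpa [hgdef] using this
    have h := congrArg det hj'
    rw [map_zpow, map_pow, hcd, hm, pow_succ, pow_mul, neg_one_sq, one_pow, one_mul] at h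
    have h4 : det g ^ (2 ^ (b + 2 + 1)) = 1 := by rw [← map_pow, ← hord, pow_orderOf_eq_one, map_one]
    have hord2 : det g ^ (2 * (2 * q' + 1)) = 1 := by
      have := pow_card_eq_one' (x := det g)
      rwa [Nat.card_units, Nat.card_zmod, hminus] at this
    have h2 : det g ^ 2 = 1 := by
      have hg' := pow_gcd_eq_one.2 ⟨h4, hord2⟩
      rwa [pow_succ' 2, Nat.gcd_mul_left, Nat.Coprime.gcd_eq_one
        (Nat.Coprime.pow_left _ (Nat.coprime_two_left.2 (odd_two_mul_add_one q'))), mul_one] at hg'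
    rcases Int.even_or_odd' j with ⟨k, rfl | rfl⟩
    · rw [_root_.zpow_mul, zpow_two, ← pow_two, h2, _root_.one_zpow] at h
      exact absurd (congrArg Units.val h.symm) (by
        simpa using fun h' : (-1 : ZMod q) = 1 => hF2 (by linear_combination -h'))
    · rwa [_root_.zpow_add, _root_.zpow_mul, zpow_two, ← pow_two, h2, _root_.one_zpow, one_mul, zpow_one] at h
  have hds : det (jm : GL (Fin 2) (ZMod q)) = -1 := Units.ext (by
    rw [hdetC, coe_jm, det_fin_two_of]; simp)
  have hconj : jm * g * jm = g ^ 2 ^ (b + 2) * g⁻¹ := by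
    rw [hz, eq_mul_inv_iff_mul_eq, ctor_comm (jm_conj_mem hgC) hgC]
    refine Units.ext ?_
    rw [mul_jm_conj hgC, ← hdetC, hdg]
    simp
  have hjC : (jm : GL (Fin 2) (ZMod q)) ∉ C := by
    rw [mem_ctor]; intro h
    simp [coe_jm] at h
    exact hF2 (by linear_combination h)
  have hcard : Nat.card (GL (Fin 2) (ZMod q)) = (q ^ 2 - 1) * (q * (q - 1)) := by
    rw [Matrix.card_GL_field, ZMod.card, Fin.prod_univ_two]
    simp only [Fin.val_zero, Fin.val_one, pow_zero, pow_one]
    rw [Nat.mul_sub q q 1, mul_one, ← pow_two]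
  have hq1 : Odd q := Nat.odd_iff.2 (by omega)
  refine ⟨GL (Fin 2) (ZMod q), inferInstance, inferInstance, g, jm, det.ker, by omega, hord,
    jm_mul_self, hconj, fun h => hjC ?_, ?_, inferInstance, ?_, ?_, ?_, ?_, ?_, ?_⟩
  · exact zpowers_le.mpr hgC h
  · rw [hz]; exact Subgroup.mem_center_iff.2 fun X => by rw [mul_neg_one, neg_one_mul]
  · rw [MonoidHom.mem_ker, hdg]
    exact fun h => hF2 (by have h' := congrArg Units.val h; simp at h'; linear_combination -h')
  · rw [MonoidHom.mem_ker, map_mul, hdg, neg_mul_neg, one_mul]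
  · rw [MonoidHom.mem_ker, map_mul, hdg, hds, neg_mul_neg, one_mul]
  · refine hv (m := (2 * q' + 1) * (2 * t + 1) * (q * (2 * q' + 1))) ?_
      (hodd.mul (hq1.mul (odd_two_mul_add_one q')))
    rw [hcard, hsq, hminus]; ring
  · have hsurj : Function.Surjective det := fun d => (hsol d).imp fun _ h => h.2
    have := det.ker.card_mul_index
    rw [index_ker, MonoidHom.range_eq_top.2 hsurj, card_top, Nat.card_units, Nat.card_zmod, hcard] at this
    have hk : Nat.card det.ker = (q ^ 2 - 1) * q := by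
      refine Nat.eq_of_mul_eq_mul_right (show 0 < q - 1 by omega) (this.trans ?_)
      ring
    exact hv (hk.trans (by rw [hsq, mul_assoc])) (hodd.mul hq1)
  · intro y y' hy hy'
    -- square roots of `-1` are conjugate
    have key : ∀ w : GL (Fin 2) (ZMod q), w * w = -1 →
        ∃ c ∈ det.ker, c * i0 * c⁻¹ = w := by
      intro w hw
      have h' := congrArg (fun A : GL (Fin 2) (ZMod q) => (A : Matrix (Fin 2) (Fin 2) (ZMod q))) hw
      simp only [Units.val_mul] at h'
      have e00 := congrFun (congrFun h' 0) 0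
      have e01 := congrFun (congrFun h' 0) 1
      have e10 := congrFun (congrFun h' 1) 0
      simp [Matrix.mul_apply, Fin.sum_univ_two] at e00 e01 e10
      set M := (w : Matrix (Fin 2) (Fin 2) (ZMod q)) with hM
      have htr : M 0 0 + M 1 1 = 0 := by
        by_contra hne
        have h01 : M 0 1 * (M 0 0 + M 1 1) = 0 := by linear_combination e01
        rw [(mul_eq_zero.1 h01).resolve_right hne] at e00
        exact not_isSquare_neg_one hq4 (M 0 0) (by linear_combination e00)
      obtain ⟨c, hc⟩ := trace_zero_det_one_conj hq4 (A := w) (by rw [trace_fin_two, ← hM]; exact htr)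
        (by rw [det_fin_two, ← hM]; linear_combination M 0 0 * htr - e00)
      obtain ⟨d, hd, hdd⟩ := hsol (det c)⁻¹
      refine ⟨c * d, by rw [MonoidHom.mem_ker, map_mul, hdd, mul_inv_cancel], ?_⟩
      have hdi : d * i0 * d⁻¹ = i0 := by
        rw [ctor_comm hd (mem_ctor.2 (by simp [coe_i0])), mul_inv_cancel_right]
      rw [_root_.mul_inv_rev, show c * d * i0 * (d⁻¹ * c⁻¹) = c * (d * i0 * d⁻¹) * c⁻¹ by
        simp only [mul_assoc], hdi, hc]
    rw [hz] at hy hy'
    obtain ⟨c, hc, rfl⟩ := key y hy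
    obtain ⟨c', hc', rfl⟩ := key y' hy'
    exact ⟨c' * c⁻¹, mul_mem hc' (inv_mem hc), by group⟩

section

variable {G : Type*} [Group G] [Finite G] {g s : G} {H : Subgroup G} {a : ℕ}

/-- The subgroup `⟨g⟩ ∪ ⟨g⟩ s`. -/
def SDData.sylow (d : SDData g s H a) : Subgroup G :=
  extendInvol (zpowers g) s d.s_sq fun x hx => by
    obtain ⟨i, rfl⟩ := mem_zpowers_iff.1 hx
    have hi : s⁻¹ = s := inv_eq_of_mul_eq_one_right d.s_sq
    nth_rw 2 [← hi]
    rw [← conj_zpow, hi, d.conj]
    exact zpow_mem (mul_mem (pow_mem (mem_zpowers g) _) (inv_mem (mem_zpowers g))) _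

theorem SDData.mem_cases (d : SDData g s H a) {t : G} (ht : t ∈ d.sylow) :
    ∃ i : ℤ, t = g ^ i ∨ t = g ^ i * s := by
  rcases mem_extendInvol.1 ht with h | h
  · obtain ⟨i, hi⟩ := mem_zpowers_iff.1 h
    exact ⟨i, .inl hi.symm⟩
  · obtain ⟨i, hi⟩ := mem_zpowers_iff.1 h
    exact ⟨i, .inr (by rw [hi, mul_assoc, d.s_sq, mul_one])⟩

theorem SDData.card_sylow (d : SDData g s H a) : Nat.card d.sylow = 2 ^ (a + 2) := by
  rw [SDData.sylow, card_extendInvol d.s_not, Nat.card_zpowers, d.order, ← pow_succ']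

theorem SDData.g_mem (d : SDData g s H a) : g ∈ d.sylow := le_extendInvol (mem_zpowers g)

theorem SDData.s_mem (d : SDData g s H a) : s ∈ d.sylow := invol_mem_extendInvol

theorem SDData.sylow_inf (d : SDData g s H a) : Nat.card ↥(d.sylow ⊓ H) = 2 ^ (a + 1) := by
  have := d.normal
  have h2 : H.relIndex d.sylow = 2 := by
    refine index_eq_two_iff.2 ⟨⟨g, d.g_mem⟩, fun ⟨t, ht⟩ => ?_⟩
    simp only [mem_subgroupOf, Subgroup.coe_mul]
    obtain ⟨i, hi⟩ := d.mem_cases ht
    have hgi : ∀ i : ℤ, g ^ i ∈ H ↔ Even i := fun i => by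
      rcases Int.even_or_odd' i with ⟨k, rfl | rfl⟩
      · simp only [even_two_mul, iff_true, _root_.zpow_mul, zpow_two]; exact zpow_mem d.g_sq k
      · rw [_root_.zpow_add, _root_.zpow_mul, zpow_two, zpow_one, mul_mem_cancel_left (zpow_mem d.g_sq k)]
        exact iff_of_false d.g_not (Int.not_even_iff_odd.2 ⟨k, rfl⟩)
    have hgis : ∀ i : ℤ, g ^ i * s ∈ H ↔ ¬ Even i := fun i => by
      rw [show g ^ i * s = g ^ (i - 1) * (g * s) by rw [_root_.zpow_sub_one]; group,
        mul_mem_cancel_right d.gs_mem, hgi]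
      simp [parity_simps]
    rcases hi with rfl | rfl
    · rw [← _root_.zpow_add_one, hgi, hgi]
      by_cases h : Even i <;> simp [xor_def, h, Int.even_add_one, Int.even_add, ← Int.not_even_iff_odd]
    · have : g ^ i * s * g ∈ H ↔ g * (g ^ i * s) ∈ H := d.normal.mem_comm_iff
      rw [this, ← mul_assoc, ← _root_.zpow_one_add, hgis, hgis]
      by_cases h : Even i <;> simp [xor_def, h, Int.even_add_one, Int.even_add, ← Int.not_even_iff_odd]
  have := card_mul_relIndex (inf_le_left : d.sylow ⊓ H ≤ d.sylow)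
  rw [inf_relIndex_left, h2, d.card_sylow, pow_succ] at this
  exact Nat.eq_of_mul_eq_mul_right two_pos this

end

end Cfsg.Agent.H24
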