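import Cfsg.Agent.H24.Resistant
import Cfsg.Agent.H93.Realized

/-!
Saturated systems without a chain of strongly closed subgroups with cyclic steps.
-/

namespace Cfsg.Agent.H24

open Subgroup

/-- Having a chain of strongly closed subgroups from `1` to `S` with cyclic steps. -/
def HasCyclicChain {Ω : Type*} [Group Ω] {S : Subgroup Ω} (F : FusionSystem S) : Prop :=
  ∃ (m : ℕ) (c : Fin (m + 1) → Subgroup Ω), c 0 = ⊥ ∧ c (Fin.last m) = S ∧
    (∀ i : Fin (m + 1), F.StronglyClosed (c i)) ∧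
    ∀ i : Fin m, c i.castSucc ≤ c i.succ ∧ ∃ x ∈ S, c i.succ = c i.castSucc ⊔ zpowers x

variable {Ω : Type*} [Group Ω] {S : Subgroup Ω}

/-- Where a property of the members of a chain is lost. -/
theorem chain_step {F : FusionSystem S} (h : HasCyclicChain F) (T : Subgroup Ω → Prop) (h0 : T ⊥)
    (hS : ¬ T S) :
    ∃ C D : Subgroup Ω, ∃ x ∈ S, F.StronglyClosed C ∧ F.StronglyClosed D ∧ T C ∧ ¬ T D ∧
      D = C ⊔ zpowers x := by
  obtain ⟨m, c, hc0, hcl, hcs, hstep⟩ := h
  by_contra hcon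
  have hall : ∀ i : Fin (m + 1), T (c i) := fun i => by
    induction i using Fin.induction with
    | zero => rwa [hc0]
    | succ i ih =>
      by_contra hne
      obtain ⟨-, x, hx, hD⟩ := hstep i
      exact hcon ⟨_, _, x, hx, hcs _, hcs _, ih, hne, hD⟩
  exact hS (hcl ▸ hall (Fin.last m))

/-- A chain gives a nontrivial cyclic strongly closed subgroup. -/
theorem exists_cyclic_of_chain {F : FusionSystem S} (h : HasCyclicChain F) (hS : S ≠ ⊥) :
    ∃ x ∈ S, x ≠ 1 ∧ F.StronglyClosed (zpowers x) := by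
  obtain ⟨C, D, x, hx, -, hD, rfl, hne, rfl⟩ := chain_step h (fun T => T = ⊥) rfl hS
  rw [bot_sup_eq] at hD hne
  exact ⟨x, hx, fun h1 => hne (by rw [h1, zpowers_one_eq_bot]), hD⟩

/-- The system realized by an injection onto a Sylow subgroup. -/
theorem exists_realized [Finite S] {p : ℕ} [Fact p.Prime] {G : Type*} [Group G] [Finite G]
    (T : Sylow p G) (e : S ≃* (T : Subgroup G)) :
    ∃ F : FusionSystem S, F.IsSaturated p ∧ ∀ (x y : Ω) (hx : x ∈ S) (hy : y ∈ S),
      (∃ g : G, ((e ⟨y, hy⟩ : T) : G) = g * ((e ⟨x, hx⟩ : T) : G) * g⁻¹) →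
        ∃ φ ∈ F.Hom (zpowers x), φ ⟨x, mem_zpowers x⟩ = y := by
  let ι : S →* G := (T : Subgroup G).subtype.comp e.toMonoidHom
  have hι : Function.Injective ι := (T : Subgroup G).subtype_injective.comp e.injective
  let F : FusionSystem S :=
    { Hom := fun P => {φ | ∃ (hP : P ≤ S) (hv : ∀ x : P, φ x ∈ S), ∃ g : G,
        ∀ x : P, ι ⟨φ x, hv x⟩ = g * ι ⟨x, hP x.2⟩ * g⁻¹}
      le_of_mem := fun ⟨hP, hv, _⟩ => ⟨hP, hv⟩
      injective_of_mem := by
        rintro P φ ⟨hP, hv, g, hg⟩ u v huv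
        have h1 := hg u
        rw [show (⟨φ u, hv u⟩ : S) = ⟨φ v, hv v⟩ from Subtype.ext huv, hg v] at h1
        exact Subtype.ext (congrArg Subtype.val (hι (mul_left_cancel (mul_right_cancel h1))) :).symm
      conj_mem := by
        intro P g hP hg
        refine ⟨hP, fun x => S.mul_mem (S.mul_mem hg (hP x.2)) (S.inv_mem hg), ι ⟨g, hg⟩, fun x => ?_⟩
        rw [← map_inv, ← map_mul, ← map_mul]
        rfl
      comp_mem := by
        rintro P Q φ ψ ⟨hP, hv, g, hg⟩ ⟨hQ, hw, k, hk⟩ h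
        refine ⟨hP, fun x => hw _, k * g, fun x => ?_⟩
        have h1 := hk ⟨φ x, h x⟩
        have h2 : (⟨φ x, hQ (h x)⟩ : S) = ⟨φ x, hv x⟩ := rfl
        rw [h2, hg] at h1
        refine h1.trans ?_
        group
      inv_mem := by
        rintro P φ ⟨hP, hv, g, hg⟩
        have hi : Function.Injective φ := by
          intro u v huv
          have h1 := hg u
          rw [show (⟨φ u, hv u⟩ : S) = ⟨φ v, hv v⟩ from Subtype.ext huv, hg v] at h1
          exact Subtype.ext (congrArg Subtype.val (hι (mul_left_cancel (mul_right_cancel h1))) :).symm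
        refine ⟨P.subtype.comp (MonoidHom.ofInjective hi).symm.toMonoidHom,
          ⟨?_, fun y => hP (Subtype.coe_prop _), g⁻¹, ?_⟩, fun x => ?_⟩
        · rintro _ ⟨x, rfl⟩; exact hv x
        · rintro ⟨_, x, rfl⟩
          have : (MonoidHom.ofInjective hi).symm ⟨φ x, x, rfl⟩ = x := by
            rw [MulEquiv.symm_apply_eq]; exact Subtype.ext rfl
          have h1 := hg x
          simp only [MonoidHom.coe_comp, Subgroup.coe_subtype, MulEquiv.coe_toMonoidHom,
            Function.comp_apply, this]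
          rw [h1]
          group
        · have : (MonoidHom.ofInjective hi).symm ⟨φ x, x, rfl⟩ = x := by
            rw [MulEquiv.symm_apply_eq]; exact Subtype.ext rfl
          simp [this] }
  refine ⟨F, H93.IsRealizedBy.isSaturated (ι := ι) ⟨hι, fun P hP φ hφ =>
    ⟨fun ⟨_, _, g, hg⟩ => ⟨g, hg⟩, fun ⟨g, hg⟩ => ⟨hP, hφ, g, hg⟩⟩⟩ ⟨T, ?_⟩, ?_⟩
  · ext g
    exact ⟨fun hg => ⟨e.symm ⟨g, hg⟩, by simp [ι]⟩, fun ⟨s, hs⟩ => hs ▸ (e s).2⟩
  intro x y hx hy ⟨g, hg⟩
  let χ : zpowers x →* G := (MulAut.conj g).toMonoidHom.comp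
    (ι.comp (inclusion (zpowers_le.mpr hx)))
  have hval : ∀ u : zpowers x, χ u ∈ ι.range := by
    rintro ⟨u, hu⟩
    obtain ⟨i, rfl⟩ := mem_zpowers_iff.1 hu
    have : (⟨x ^ i, hu⟩ : zpowers x) = (⟨x, mem_zpowers x⟩ : zpowers x) ^ i := Subtype.ext (by simp)
    rw [this, map_zpow]
    exact zpow_mem (show χ ⟨x, mem_zpowers x⟩ ∈ ι.range from ⟨⟨y, hy⟩, hg⟩) i
  let φ : zpowers x →* Ω := S.subtype.comp ((MonoidHom.ofInjective hι).symm.toMonoidHom.comp
    (χ.codRestrict ι.range hval))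
  refine ⟨φ, ⟨zpowers_le.mpr hx, fun u => Subtype.coe_prop _, g, fun u => ?_⟩, ?_⟩
  · show ι _ = χ u
    exact congrArg Subtype.val ((MonoidHom.ofInjective hι).apply_symm_apply ⟨χ u, hval u⟩)
  · have : (MonoidHom.ofInjective hι).symm ⟨χ ⟨x, mem_zpowers x⟩, hval _⟩ = ⟨y, hy⟩ := by
      rw [MulEquiv.symm_apply_eq]
      exact Subtype.ext hg.symm
    exact congrArg Subtype.val this

section Abelian

variable [Finite S]

/-- The system of a group of automorphisms of an abelian `S` of order prime to `p`; if it fixes no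
subgroup of order `p` it has no chain. -/
theorem exists_no_chain_of_automorphisms {p : ℕ} [Fact p.Prime] (hS : IsPGroup p S) (hne : S ≠ ⊥)
    (hab : ∀ x y : S, Commute x y) (A : Subgroup (MulAut S)) (hA : (Nat.card A).Coprime p)
    (hfix : ∀ q : S, q ^ p = 1 → (∀ α ∈ A, α q ∈ zpowers q) → q = 1) :
    ∃ F : FusionSystem S, F.IsSaturated p ∧ ¬ HasCyclicChain F := by
  have hP : p.Prime := Fact.out
  let F : FusionSystem S :=
    { Hom := fun P => {φ | ∃ hP : P ≤ S, ∃ α ∈ A, ∀ x : P, φ x = (α ⟨x, hP x.2⟩ : S)}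
      le_of_mem := by
        rintro P φ ⟨hP, α, -, h⟩
        exact ⟨hP, fun x => by rw [h]; exact Subtype.coe_prop _⟩
      injective_of_mem := by
        rintro P φ ⟨hP, α, -, h⟩ u v huv
        rw [h, h] at huv
        exact Subtype.ext (congrArg Subtype.val (α.injective (Subtype.ext huv)) :)
      conj_mem := fun {P g} hP hg => ⟨hP, 1, one_mem _, fun x => by
        show g * (x : Ω) * g⁻¹ = x
        have : g * (x : Ω) = x * g := congrArg Subtype.val (hab ⟨g, hg⟩ ⟨x, hP x.2⟩).eq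
        rw [this, mul_inv_cancel_right]⟩
      comp_mem := by
        rintro P Q φ ψ ⟨hP, α, hα, h⟩ ⟨hQ, β, hβ, h'⟩ hv
        refine ⟨hP, β * α, mul_mem hβ hα, fun x => ?_⟩
        rw [MonoidHom.comp_apply, h', MulAut.mul_apply]
        exact congrArg (fun u => ((β u : S) : Ω)) (Subtype.ext (h x))
      inv_mem := by
        rintro P φ ⟨hP, α, hα, h⟩
        have hr : φ.range ≤ S := by
          rintro _ ⟨x, rfl⟩; rw [h]; exact Subtype.coe_prop _
        refine ⟨S.subtype.comp (α⁻¹.toMonoidHom.comp (inclusion hr)),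
          ⟨hr, α⁻¹, inv_mem hα, fun _ => rfl⟩, fun x => ?_⟩
        have : (⟨φ x, hr ⟨x, rfl⟩⟩ : S) = α ⟨x, hP x.2⟩ := Subtype.ext (h x)
        show ((α⁻¹ ⟨φ x, _⟩ : S) : Ω) = x
        rw [this, MulAut.inv_apply_self] }
  refine ⟨F, fun P hP => ⟨P, H93.isConj_refl F hP, ⟨hP, ?_⟩, hP, ?_⟩, fun hch => ?_⟩
  · -- both `Aut_S(P)` and the Sylow subgroups are trivial
    have hbot : (autInducedBy S P).subgroupOf (F.autGroup P) = ⊥ := by
      rw [eq_bot_iff]
      intro β hβ
      obtain ⟨g, hg, hge⟩ := H93.mem_autInducedBy.1 (Subgroup.mem_subgroupOf.1 hβ)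
      refine Subgroup.mem_bot.2 (Subtype.ext (MulEquiv.ext fun x => Subtype.ext ?_))
      rw [hge]
      show g * (x : Ω) * g⁻¹ = x
      have : g * (x : Ω) = x * g := congrArg Subtype.val (hab ⟨g, hg⟩ ⟨x, hP x.2⟩).eq
      rw [this, mul_inv_cancel_right]
    have := H93.finite_mulAut hP
    obtain ⟨R⟩ : Nonempty (Sylow p (F.autGroup P)) := inferInstance
    have hRbot : (R : Subgroup (F.autGroup P)) = ⊥ := by
      rw [eq_bot_iff]
      rintro β hβ
      obtain ⟨k, hk⟩ := R.isPGroup' ⟨β, hβ⟩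
      have hk' : (β : MulAut P) ^ p ^ k = 1 := congrArg (fun r : R => ((r : F.autGroup P) : MulAut P)) hk
      obtain ⟨hP', α, hα, h⟩ := (H93.mem_autGroup_iff hP).1 β.2
      -- replace `α` by a power of order prime to `p`, acting in the same way
      obtain ⟨u, hu⟩ : ∃ u : ℕ, (α ^ p ^ k) ^ u = α := by
        have hcop : (orderOf α).Coprime (p ^ k) :=
          (Nat.Coprime.coprime_dvd_left (by
            have := orderOf_dvd_natCard (⟨α, hα⟩ : A)
            rwa [Subgroup.orderOf_mk] at this) hA).pow_right k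
        exact exists_pow_eq_self_of_coprime hcop.symm
      have hpow : ∀ (j : ℕ) (x : P), ((((β : MulAut P) ^ j) x : P) : Ω) = ((α ^ j) ⟨x, hP x.2⟩ : S) := by
        intro j
        induction j with
        | zero => intro x; simp
        | succ j ih =>
          intro x
          rw [pow_succ', pow_succ', MulAut.mul_apply, MulAut.mul_apply]
          refine (h _).trans (congrArg (fun v => ((α v : S) : Ω)) (Subtype.ext (ih x)))
      refine Subgroup.mem_bot.2 (Subtype.ext (MulEquiv.ext fun x => Subtype.ext ?_))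
      have h1 := hpow (p ^ k * u) x
      rw [pow_mul, hk', one_pow, pow_mul, hu] at h1
      have h2 : (((β : MulAut P) x : P) : Ω) = (α ⟨x, hP x.2⟩ : S) := h x
      rw [h2, ← h1]
      rfl
    exact ⟨R, by rw [hRbot, hbot]⟩
  · rintro Q φ ⟨hQ, α, hα, h⟩ -
    have hr : FusionSystem.extender S Q φ ≤ S :=
      (H93.extender_le_normalizerIn S Q φ).trans (H93.normalizerIn_le S Q)
    refine ⟨S.subtype.comp (α.toMonoidHom.comp (inclusion hr)), ⟨hr, α, hα, fun _ => rfl⟩,
      fun x hx _ => (h ⟨x, hx⟩).symm⟩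
  · obtain ⟨x, hx, hx1, hC⟩ := exists_cyclic_of_chain hch hne
    obtain ⟨k, hk⟩ := hS ⟨x, hx⟩
    have hxk : x ^ p ^ k = 1 := congrArg Subtype.val hk
    obtain ⟨j, hj, hjo⟩ := (Nat.dvd_prime_pow hP).1 (orderOf_dvd_of_pow_eq_one hxk)
    have hj0 : j ≠ 0 := fun h => hx1 (orderOf_eq_one_iff.1 (hjo.trans (by rw [h, pow_zero])))
    obtain ⟨i, rfl⟩ : ∃ i, j = i + 1 := ⟨j - 1, by omega⟩
    set q : S := ⟨x, hx⟩ ^ p ^ i with hq
    have hqp : q ^ p = 1 := by
      rw [hq, ← pow_mul, ← pow_succ]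
      exact Subtype.ext (by rw [Subgroup.coe_pow, ← hjo, pow_orderOf_eq_one]; rfl)
    have hqne : q ≠ 1 := by
      intro h
      have h' := congrArg Subtype.val h
      rw [hq, Subgroup.coe_pow] at h'
      have := orderOf_dvd_of_pow_eq_one (show x ^ p ^ i = 1 from h')
      rw [hjo, Nat.pow_dvd_pow_iff_le_right hP.one_lt] at this
      omega
    refine hqne (hfix q hqp fun α hα => ?_)
    have hCS : zpowers x ≤ S := zpowers_le.mpr hx
    have hmem : ((α q : S) : Ω) ∈ zpowers x :=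
      hC.2 (zpowers x) le_rfl (S.subtype.comp (α.toMonoidHom.comp (inclusion hCS)))
        ⟨hCS, α, hα, fun _ => rfl⟩ ⟨(q : Ω), by rw [hq]; exact pow_mem (mem_zpowers x) _⟩
    obtain ⟨l, hl⟩ := mem_zpowers_iff.1 hmem
    -- elements of order `p` of the cyclic group are powers of `q`
    have hαp : (x ^ l) ^ p = 1 := by
      rw [hl, ← Subgroup.coe_pow, ← map_pow, hqp, map_one]; rfl
    rw [← zpow_natCast (x ^ l) p, ← zpow_mul, ← orderOf_dvd_iff_zpow_eq_one, hjo] at hαp
    obtain ⟨w, hw⟩ := hαp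
    have hlw : l = (p ^ i : ℕ) * w := by
      push_cast at hw ⊢
      rw [pow_succ] at hw
      exact mul_right_cancel₀ (Int.natCast_ne_zero.2 hP.ne_zero) (hw.trans (by ring))
    refine ⟨w, Subtype.ext ?_⟩
    show ((q ^ w : S) : Ω) = _
    rw [← hl, hlw, zpow_mul, zpow_natCast, hq]
    push_cast
    rfl

end Abelian

end Cfsg.Agent.H24
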