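import Cfsg.Agent.H24.CyclicSeries
import Cfsg.Agent.H24.SupersolubleFailures

/-!
The automizers of a system with a chain of strongly closed subgroups with cyclic steps.
-/

set_option autoImplicit false

namespace Cfsg.Agent.H24

open Subgroup
open scoped commutatorElement

variable {Ω : Type*} [Group Ω] {S : Subgroup Ω} [Finite S] {F : FusionSystem S} {p : ℕ}
  [hp : Fact p.Prime]

/-- A group of automorphisms of `P ≤ S` leaving invariant the members of a chain is, modulo a normal
`p`-subgroup, abelian of exponent dividing `p - 1`. -/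
theorem isPGroup_powCommutator_of_chain (hS : IsPGroup p S) (h : HasCyclicChain F) {P : Subgroup Ω}
    (hP : P ≤ S) {A : Type*} [Group A] (ρ : A →* MulAut P) (hρ : Function.Injective ρ)
    (hinv : ∀ C, F.StronglyClosed C → ∀ a, ∀ y ∈ C.subgroupOf P, ρ a y ∈ C.subgroupOf P) :
    IsPGroup p (powCommutator A p) := by
  have := H93.finite_of_le hP
  obtain ⟨m, c, hc0, hcl, hcs, hstep⟩ := h
  have hn : ∀ i, ((c i).subgroupOf S).Normal := fun i => ⟨fun x hx g => by
    show (g : Ω) * x * (g : Ω)⁻¹ ∈ c i
    exact H93.StronglyClosed.conj_mem (hcs i) g.2 hx⟩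
  have hnP : ∀ i, ((c i).subgroupOf P).Normal := fun i => ⟨fun x hx g => by
    show (g : Ω) * x * (g : Ω)⁻¹ ∈ c i
    exact H93.StronglyClosed.conj_mem (hcs i) (hP g.2) hx⟩
  have key : ∀ i, NilOn p ρ (powCommutator A p) ((c i).subgroupOf P) := by
    intro i
    induction i using Fin.induction with
    | zero => rw [hc0, bot_subgroupOf]; exact nilOn_bot
    | succ i ih =>
      obtain ⟨hle, x₀, hx₀, hx⟩ := hstep i
      have := hn i.castSucc
      set π := QuotientGroup.mk' ((c i.castSucc).subgroupOf S)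
      let f : P →* S ⧸ (c i.castSucc).subgroupOf S := π.comp (inclusion hP)
      have hker : ∀ y : P, f y = 1 ↔ y ∈ (c i.castSucc).subgroupOf P := fun y =>
        QuotientGroup.eq_one_iff _
      have hT : ((c i.succ).subgroupOf P).map f ≤ zpowers (π ⟨x₀, hx₀⟩) := by
        rintro _ ⟨y, hy, rfl⟩
        have h1 : inclusion hP y ∈ (c i.castSucc).subgroupOf S ⊔ zpowers ⟨x₀, hx₀⟩ := by
          have h0 : inclusion hP y ∈ (c i.succ).subgroupOf S := hy
          have h2 : (zpowers x₀).subgroupOf S = zpowers (⟨x₀, hx₀⟩ : S) := by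
            refine map_injective S.subtype_injective ?_
            rw [MonoidHom.map_zpowers, subgroupOf_map_subtype, inf_eq_left.2 (zpowers_le.mpr hx₀)]
            rfl
          rwa [hx, subgroupOf_sup (hcs _).1 (zpowers_le.mpr hx₀), h2] at h0
        have h2 := mem_map_of_mem π h1
        rwa [Subgroup.map_sup, (Subgroup.map_eq_bot_iff _).2 (by rw [QuotientGroup.ker_mk']), bot_sup_eq,
          MonoidHom.map_zpowers] at h2
      have := isCyclic_of_injective (inclusion hT) (inclusion_injective hT)
      obtain ⟨⟨_, x, hxR, rfl⟩, hgen⟩ :=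
        IsCyclic.exists_generator (α := ((c i.succ).subgroupOf P).map f)
      refine ih.extend (hS.to_le hP) (hnP _) (hnP _) (hinv _ (hcs _)) (hinv _ (hcs _))
        (fun y hy => hle hy) hxR fun y hy => ?_
      obtain ⟨k, hk⟩ := mem_zpowers_iff.1 (hgen ⟨f y, y, hy, rfl⟩)
      have hk' : f x ^ k = f y := congrArg Subtype.val hk
      have h3 : (x ^ k)⁻¹ * y ∈ (c i.castSucc).subgroupOf P := by
        rw [← hker, map_mul, map_inv, map_zpow, hk', inv_mul_cancel]
      have h4 := mul_mem (mem_sup_right (S := (c i.castSucc).subgroupOf P)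
        (zpow_mem (mem_zpowers x) k)) (mem_sup_left h3)
      rwa [mul_inv_cancel_left] at h4
  refine NilOn.isPGroup hρ ?_
  have := key (Fin.last m)
  rwa [hcl, subgroupOf_eq_top.2 hP] at this

/-- With such a chain `S` is normal in the system. -/
theorem isNormal_of_hasCyclicChain (hS : IsPGroup p S) (hF : F.IsSaturated p) (h : HasCyclicChain F) :
    F.IsNormal S := by
  have hsc : F.StronglyClosed S := ⟨le_rfl, fun R _ φ hφ x => (F.le_of_mem hφ).2 x⟩
  refine (H93.isNormal_iff_le_centric_radical hS hF).2 ⟨hsc, fun P hc hr => ?_⟩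
  have hP := hc.1
  have := H93.finite_of_le hP
  have hN : IsPGroup p (powCommutator (F.autGroup P) p) :=
    isPGroup_powCommutator_of_chain hS h hP (F.autGroup P).subtype
      (F.autGroup P).subtype_injective fun C hC a y hy =>
        H93.StronglyClosed.aut_mem hC hP a.2 y hy
  refine H93.le_of_centric_radical hS hsc hc hr
    (fun γ => γ ∈ (powCommutator (F.autGroup P) p).map (F.autGroup P).subtype) (one_mem _)
    (fun a _ b _ ha hb => mul_mem ha hb) ?_ ?_
  · rintro _ - ⟨a, ha, rfl⟩
    obtain ⟨k, hk⟩ := hN ⟨a, ha⟩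
    exact ⟨k, congrArg (fun r : powCommutator (F.autGroup P) p => ((r : F.autGroup P) : MulAut P)) hk⟩
  · intro α hα γ hγ
    obtain ⟨k, hk⟩ := H93.isPGroup_autInducedBy hS P ⟨γ, hγ⟩
    have hk' : γ ^ p ^ k = 1 := congrArg Subtype.val hk
    refine ⟨⟨α * γ * α⁻¹, mul_mem (mul_mem hα (H93.autInducedBy_le_autGroup F hP hγ)) (inv_mem hα)⟩,
      mem_powCommutator_of_pow_eq_one (k := k) (Subtype.ext ?_), rfl⟩
    rw [Subgroup.coe_pow, conj_pow, hk']
    simp

/-- If every system on `S` has a chain, the `p'`-groups of automorphisms of `S` are abelian of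
exponent dividing `p - 1`. -/
theorem pprime_auts_of_forall_chain (hS : IsPGroup p S)
    (h : ∀ F : FusionSystem S, F.IsSaturated p → HasCyclicChain F) (H : Subgroup (MulAut S))
    (hH : (Nat.card H).Coprime p) : IsMulCommutative H ∧ ∀ a ∈ H, a ^ (p - 1) = 1 := by
  have hP : p.Prime := hp.out
  obtain ⟨n, hn⟩ := hS.exists_card_eq
  let φ : H →* MulAut S := H.subtype
  have hcard : Nat.card (S ⋊[φ] H) = p ^ n * Nat.card H := by rw [SemidirectProduct.card, hn]
  have : Finite (S ⋊[φ] H) := Nat.finite_of_card_ne_zero (by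
    rw [hcard]; exact mul_ne_zero (pow_ne_zero _ hP.ne_zero) Nat.card_pos.ne')
  let inl' : S →* S ⋊[φ] H := SemidirectProduct.inl
  have hrange : Nat.card inl'.range = p ^ n := by
    rw [← hn]
    exact (Nat.card_congr (MonoidHom.ofInjective SemidirectProduct.inl_injective).toEquiv).symm
  let T : Sylow p (S ⋊[φ] H) := Sylow.ofCard inl'.range (by
    rw [hrange, hcard, Nat.factorization_mul (pow_ne_zero _ hP.ne_zero) Nat.card_pos.ne',
      Finsupp.add_apply, Nat.Prime.factorization_pow hP, Finsupp.single_eq_same,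
      Nat.factorization_eq_zero_of_not_dvd
        (hP.coprime_iff_not_dvd.1 hH.symm), add_zero])
  let e : S ≃* (T : Subgroup (S ⋊[φ] H)) := MonoidHom.ofInjective SemidirectProduct.inl_injective
  obtain ⟨F, hF, hfus⟩ := exists_realized T e
  have hN : IsPGroup p (powCommutator H p) := by
    refine isPGroup_powCommutator_of_chain hS (h F hF) le_rfl φ H.subtype_injective
      fun C hC a y hy => ?_
    obtain ⟨ψ, hψ, hψy⟩ := hfus y (φ a y : S) y.2 (φ a y).2
      ⟨SemidirectProduct.inr a, by
        show inl' (φ a y) = SemidirectProduct.inr a * inl' y * (SemidirectProduct.inr a)⁻¹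
        rw [← map_inv]
        exact SemidirectProduct.inl_aut a y⟩
    have := hC.2 (zpowers (y : Ω)) (zpowers_le.mpr hy) ψ hψ ⟨_, mem_zpowers _⟩
    rw [hψy] at this
    exact this
  have hbot : powCommutator H p = ⊥ := by
    obtain ⟨k, hk⟩ := hN.exists_card_eq
    refine Subgroup.card_eq_one.1 ?_
    have hdvd : Nat.card (powCommutator H p) ∣ Nat.card H := Subgroup.card_subgroup_dvd_card _
    rw [hk] at hdvd ⊢
    rcases k with _ | k
    · rfl
    · exact absurd (dvd_trans (dvd_pow_self p (Nat.succ_ne_zero k)) hdvd)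
        (hP.coprime_iff_not_dvd.1 hH.symm)
  refine ⟨⟨⟨fun a b => commutatorElement_eq_one_iff_mul_comm.1 ?_⟩⟩, fun a ha => ?_⟩
  · have h1 : ⁅a, b⁆ ∈ powCommutator H p :=
      commutator_le_powCommutator (commutator_mem_commutator (mem_top a) (mem_top b))
    rwa [hbot, Subgroup.mem_bot] at h1
  · have h1 := pow_mem_powCommutator (p := p) (⟨a, ha⟩ : H)
    rw [hbot, Subgroup.mem_bot] at h1
    exact congrArg Subtype.val h1

end Cfsg.Agent.H24
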